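import Mathlib
import Cfsg.Agent.H892.FixDim
import Cfsg.Agent.ClassicalGeometry.SplitTorus
import Cfsg.Agent.Solvable.UniqueOrderP
import Cfsg.Agent.Lib.Cores
import Cfsg.Agent.SylowSp4.QuatId
import Cfsg.Agent.TwoFusion.PerfectOnTwo
import Cfsg.Agent.FastGrp
import Cfsg.Agent.Prune
set_option linter.all false

section
prune_inst 0x7ffdacf8bbbde9dfdfff7e7fa6dccffc99b69fffa4dff943ffe061ff8b9f338289c5638d01e018fe0ed6c01410a87843f97ece7fea6bdc7ffffd5ff41ffbee0fe5f7b500519080240f380ff603f0678e7f3fffffffffffffffffffffffffffbeffbfffffffff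

-- part: H892/RowQuot
section
prune_inst 0x10004001220000000000000200160092000000000080000000000404800400000000a0800000000000000400300028031800000200000000000000011c008000008000c0890000000000000000000000000000000000000000000000000000000000000
set_option linter.all false
open scoped Cfsg.Agent.FastGrp

-- part: H892/MultOne
section
/-!
# Multiplicity one from an anti-automorphism (Gelfand's trick), in every characteristic
-/

set_option autoImplicit false

namespace Cfsg.Agent.H892.MultOne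

open Module Cfsg.Agent.H892.FixDim

variable {K U G : Type*} [Field K] [AddCommGroup U] [Module K U] [FiniteDimensional K U] [Group G]

/-- Irreducibility: there are no proper invariant subspaces. -/
def Irr (ρ : Representation K G U) : Prop :=
  ∀ W : Submodule K U, (∀ g, ∀ w ∈ W, ρ g w ∈ W) → W = ⊥ ∨ W = ⊤

theorem schur [IsAlgClosed K] [Nontrivial U] (ρ : Representation K G U) (hirr : Irr ρ) (φ : Module.End K U)
    (hφ : ∀ g v, φ (ρ g v) = ρ g (φ v)) : ∃ c : K, ∀ v, φ v = c • v := by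
  obtain ⟨c, hc⟩ := Module.End.exists_eigenvalue φ
  refine ⟨c, ?_⟩
  have h1 := hirr (Module.End.eigenspace φ c) (by
    intro g w hw
    rw [Module.End.mem_eigenspace_iff] at hw ⊢
    rw [hφ, hw, map_smul])
  rcases h1 with h1 | h1
  · exact absurd h1 hc
  · intro v
    have : v ∈ Module.End.eigenspace φ c := by rw [h1]; trivial
    exact Module.End.mem_eigenspace_iff.1 this

theorem finrank_eigenspace_le_one [IsAlgClosed K] [Finite G] (ρ : Representation K G U) (hirr : Irr ρ)
    (star : G → G) (hmul : ∀ a b, star (a * b) = star b * star a) (hsurj : Function.Surjective star) (θ : G)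
    (hθ : ∀ g, ∃ k : ℕ, θ ^ k * star g = g * θ ^ k) (μ : K) :
    finrank K (LinearMap.ker (ρ θ - μ • (1 : Module.End K U))) ≤ 1 := by
  classical
  have := Fintype.ofFinite G
  set E := LinearMap.ker (ρ θ - μ • (1 : Module.End K U)) with hE
  have mE : ∀ {v}, v ∈ E ↔ ρ θ v = μ • v := by
    intro v
    rw [hE, LinearMap.mem_ker, LinearMap.sub_apply, LinearMap.smul_apply, Module.End.one_apply, sub_eq_zero]
  by_cases hbot : E = ⊥
  · rw [hbot, finrank_bot]
    omega
  obtain ⟨v0, hv0, hv0'⟩ := Submodule.exists_mem_ne_zero_of_ne_bot hbot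
  have hnt : Nontrivial U := ⟨⟨v0, 0, hv0'⟩⟩
  -- `μ ≠ 0`
  have hμ : μ ≠ 0 := by
    rintro rfl
    have h1 := mE.1 hv0
    rw [zero_smul] at h1
    have h2 : ρ θ⁻¹ (ρ θ v0) = v0 := by
      rw [← Module.End.mul_apply, ← map_mul, inv_mul_cancel, map_one, Module.End.one_apply]
    rw [h1, map_zero] at h2
    exact hv0' h2.symm
  -- a functional
  obtain ⟨l, hl0, hl⟩ : ∃ l : U →ₗ[K] K, l ≠ 0 ∧ LinearMap.range (ρ θ - μ • (1 : Module.End K U)) ≤ LinearMap.ker l := by
    apply Submodule.exists_le_ker_of_lt_top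
    rw [lt_top_iff_ne_top]
    intro h
    exact hbot (LinearMap.ker_eq_bot_iff_range_eq_top.2 h)
  have hlθ : ∀ w, l (ρ θ w) = μ * l w := by
    intro w
    have : l ((ρ θ - μ • (1 : Module.End K U)) w) = 0 := hl ⟨w, rfl⟩
    rw [LinearMap.sub_apply, LinearMap.smul_apply, Module.End.one_apply, map_sub, map_smul, sub_eq_zero] at this
    exact this
  have hlθk : ∀ (k : ℕ) w, l (ρ (θ ^ k) w) = μ ^ k * l w := by
    intro k
    induction k with
    | zero => intro w; simp only [_root_.pow_zero, _root_.map_one, _root_.Module.End.one_apply, _root_.one_mul]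
    | succ k ih =>
      intro w
      rw [pow_succ, map_mul, Module.End.mul_apply, ih, hlθ, pow_succ, mul_assoc]
  have hEk : ∀ (k : ℕ) {v}, v ∈ E → ρ (θ ^ k) v = μ ^ k • v := by
    intro k v hv
    induction k with
    | zero => simp only [_root_.pow_zero, _root_.map_one, _root_.Module.End.one_apply, _root_.one_smul]
    | succ k ih =>
      rw [pow_succ, map_mul, Module.End.mul_apply, mE.1 hv, map_smul, ih, smul_smul, pow_succ, mul_comm]
  have hstar : ∀ g, ∀ v ∈ E, l (ρ (star g) v) = l (ρ g v) := by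
    intro g v hv
    obtain ⟨k, hk⟩ := hθ g
    have h1 : l (ρ (θ ^ k * star g) v) = l (ρ (g * θ ^ k) v) := by rw [hk]
    rw [map_mul, Module.End.mul_apply, hlθk, map_mul, Module.End.mul_apply, hEk k hv, map_smul, map_smul,
      smul_eq_mul] at h1
    exact mul_left_cancel₀ (pow_ne_zero k hμ) h1
  -- the orbit maps
  let T : U → (G → K) →ₗ[K] U := fun v => Fintype.linearCombination K (fun g => ρ g v)
  have hT : ∀ v a, T v a = ∑ g, a g • ρ g v := fun v a => Fintype.linearCombination_apply K _ a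
  have hspan : ∀ v, v ≠ 0 → LinearMap.range (T v) = ⊤ := by
    intro v hv
    have h1 := hirr (LinearMap.range (T v)) (by
      rintro g _ ⟨a, rfl⟩
      refine ⟨fun x => a (g⁻¹ * x), ?_⟩
      rw [hT, hT, map_sum]
      rw [← Equiv.sum_comp (Equiv.mulLeft g) (fun x => a (g⁻¹ * x) • ρ x v)]
      refine Finset.sum_congr rfl fun x _ => ?_
      rw [Equiv.coe_mulLeft, inv_mul_cancel_left, map_smul, map_mul, Module.End.mul_apply])
    rcases h1 with h1 | h1
    · exfalso
      apply hv
      have h2 : T v (Pi.single 1 1) ∈ LinearMap.range (T v) := ⟨_, rfl⟩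
      rw [h1, Submodule.mem_bot, hT, Finset.sum_eq_single 1] at h2
      · simpa only [_root_.Pi.single_eq_same, _root_.map_one, _root_.Module.End.one_apply, _root_.one_smul] using h2
      · intro b _ hb
        rw [Pi.single_eq_of_ne hb, zero_smul]
      · intro h
        exact absurd (Finset.mem_univ _) h
    · exact h1
  have hker : ∀ v1 ∈ E, LinearMap.ker (T v0) ≤ LinearMap.ker (T v1) := by
    intro v1 hv1 a ha
    have ha' : ∑ g, a g • ρ g v0 = 0 := by rw [← hT]; exact ha
    -- `l ∘ A* = 0`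
    have h1 : ∀ b : G, ∀ v ∈ E, l (ρ b (∑ g, a g • ρ g v)) = ∑ g, a g * l (ρ (star g) (ρ (star b) v)) := by
      intro b v hv
      rw [map_sum, map_sum]
      refine Finset.sum_congr rfl fun g _ => ?_
      rw [map_smul, map_smul, smul_eq_mul, ← Module.End.mul_apply, ← map_mul, ← hstar _ v hv, hmul, map_mul,
        Module.End.mul_apply]
    set A : U →ₗ[K] K := ∑ g, a g • (l ∘ₗ ρ (star g)) with hA
    have hAapp : ∀ w, A w = ∑ g, a g * l (ρ (star g) w) := by
      intro w
      rw [hA, LinearMap.sum_apply]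
      rfl
    have h2 : A = 0 := by
      have h3 : LinearMap.range (T v0) ≤ LinearMap.ker A := by
        rintro _ ⟨c, rfl⟩
        rw [hT, LinearMap.mem_ker, map_sum]
        refine Finset.sum_eq_zero fun g _ => ?_
        obtain ⟨b, rfl⟩ := hsurj g
        rw [map_smul, hAapp, ← h1 b v0 hv0, ha', map_zero, map_zero, smul_zero]
      rw [hspan v0 hv0'] at h3
      exact LinearMap.ker_eq_top.1 (top_le_iff.1 h3)
    have h4 : ∀ b : G, l (ρ b (∑ g, a g • ρ g v1)) = 0 := by
      intro b
      rw [h1 b v1 hv1, ← hAapp, h2, LinearMap.zero_apply]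
    -- the largest invariant subspace in the kernel of `l`
    let W : Submodule K U := ⨅ b : G, LinearMap.ker (l ∘ₗ ρ b)
    have hW : ∀ {w}, w ∈ W ↔ ∀ b, l (ρ b w) = 0 := by
      intro w
      rw [Submodule.mem_iInf]
      rfl
    rcases hirr W (by
      intro g w hw
      rw [hW] at hw ⊢
      intro b
      rw [← Module.End.mul_apply, ← map_mul]
      exact hw _) with h5 | h5
    · have h6 : ∑ g, a g • ρ g v1 ∈ W := hW.2 h4
      rw [h5, Submodule.mem_bot] at h6
      rw [LinearMap.mem_ker, hT, h6]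
    · exfalso
      apply hl0
      ext w
      have h6 : w ∈ W := by rw [h5]; trivial
      have h7 := hW.1 h6 1
      rwa [map_one, Module.End.one_apply] at h7
  apply finrank_le_one (⟨v0, hv0⟩ : E)
  rintro ⟨v1, hv1⟩
  let φ : U →ₗ[K] U := ((LinearMap.ker (T v0)).liftQ (T v1) (hker v1 hv1)) ∘ₗ
    ((T v0).quotKerEquivOfSurjective (LinearMap.range_eq_top.1 (hspan v0 hv0'))).symm.toLinearMap
  have hφ : ∀ a, φ (T v0 a) = T v1 a := by
    intro a
    have h1 : ((T v0).quotKerEquivOfSurjective (LinearMap.range_eq_top.1 (hspan v0 hv0'))).symm (T v0 a) =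
        (LinearMap.ker (T v0)).mkQ a := by
      rw [LinearEquiv.symm_apply_eq]
      rfl
    change (LinearMap.ker (T v0)).liftQ (T v1) (hker v1 hv1)
      (((T v0).quotKerEquivOfSurjective (LinearMap.range_eq_top.1 (hspan v0 hv0'))).symm (T v0 a)) = _
    rw [h1, Submodule.mkQ_apply, Submodule.liftQ_apply]
  have hTg : ∀ v g a, ρ g (T v a) = T v (fun x => a (g⁻¹ * x)) := by
    intro v g a
    rw [hT, hT, map_sum, ← Equiv.sum_comp (Equiv.mulLeft g) (fun x => a (g⁻¹ * x) • ρ x v)]
    refine Finset.sum_congr rfl fun x _ => ?_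
    rw [Equiv.coe_mulLeft, inv_mul_cancel_left, map_smul, map_mul, Module.End.mul_apply]
  obtain ⟨c, hc⟩ := schur ρ hirr φ (by
    intro g v
    have hv : v ∈ LinearMap.range (T v0) := by rw [hspan v0 hv0']; trivial
    obtain ⟨a, rfl⟩ := hv
    rw [hTg, hφ, hφ, hTg])
  refine ⟨c, ?_⟩
  apply Subtype.ext
  have hT1 : ∀ v, T v (Pi.single 1 1) = v := by
    intro v
    rw [hT, Finset.sum_eq_single 1]
    · simp only [_root_.Pi.single_eq_same, _root_.map_one, _root_.Module.End.one_apply, _root_.one_smul]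
    · intro b _ hb
      rw [Pi.single_eq_of_ne hb, zero_smul]
    · intro h
      exact absurd (Finset.mem_univ _) h
  have h8 := hφ (Pi.single 1 1)
  rw [hT1, hT1, hc] at h8
  exact h8

/-- If all eigenspaces have dimension at most one, then kernels of polynomials have dimension at most the degree. -/
theorem finrank_ker_aeval_le [IsAlgClosed K] (f : Module.End K U)
    (hf : ∀ μ : K, finrank K (LinearMap.ker (f - μ • (1 : Module.End K U))) ≤ 1) (n : ℕ) :
    ∀ P : Polynomial K, P ≠ 0 → P.natDegree = n → finrank K (LinearMap.ker (Polynomial.aeval f P)) ≤ n := by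
  induction n with
  | zero =>
    intro P hP hn
    obtain ⟨c, rfl⟩ := Polynomial.natDegree_eq_zero.1 hn
    have hc : c ≠ 0 := by
      rintro rfl
      exact hP (by simp)
    have : LinearMap.ker (Polynomial.aeval f (Polynomial.C c)) = ⊥ := by
      rw [Polynomial.aeval_C, eq_bot_iff]
      intro x hx
      have : c • x = 0 := hx
      rw [Submodule.mem_bot]
      exact (smul_eq_zero.1 this).resolve_left hc
    rw [this, finrank_bot]
  | succ n ih =>
    intro P hP hn
    obtain ⟨μ, hμ⟩ := IsAlgClosed.exists_root P (by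
      rw [Polynomial.degree_eq_natDegree hP, hn]
      exact_mod_cast Nat.succ_ne_zero n)
    obtain ⟨Q, hQ⟩ := Polynomial.dvd_iff_isRoot.2 hμ
    have hQ0 : Q ≠ 0 := by
      rintro rfl
      rw [mul_zero] at hQ
      exact hP hQ
    have hQn : Q.natDegree = n := by
      rw [hQ, Polynomial.natDegree_mul (Polynomial.X_sub_C_ne_zero μ) hQ0, Polynomial.natDegree_X_sub_C] at hn
      omega
    have h1 : Polynomial.aeval f P = (f - μ • (1 : Module.End K U)) ∘ₗ Polynomial.aeval f Q := by
      rw [hQ, map_mul, map_sub, Polynomial.aeval_X, Polynomial.aeval_C, Algebra.algebraMap_eq_smul_one]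
      rfl
    rw [h1]
    have h2 := finrank_ker_comp_le (f - μ • (1 : Module.End K U)) (Polynomial.aeval f Q)
    have h3 := ih Q hQ0 hQn
    have h4 := hf μ
    omega

end Cfsg.Agent.H892.MultOne
end

-- part: H892/GLTorus
section
/-!
# The nonsplit torus of `GL₂(p)`, `p ≡ 2 mod 3`, as the centraliser of a square root of `-3`
-/

set_option autoImplicit false

namespace Cfsg.Agent.H892.GLTorus

open Matrix

variable {p : ℕ} [Fact p.Prime]

/-- `GL₂(p)` -/
abbrev GG (p : ℕ) := GL (Fin 2) (ZMod p)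

theorem two_ne_zero' (hp : 3 < p) : (2 : ZMod p) ≠ 0 := by
  intro h
  have h1 : ((2 : ℕ) : ZMod p) = 0 := by exact_mod_cast h
  rw [ZMod.natCast_eq_zero_iff] at h1
  have := Nat.le_of_dvd (by norm_num) h1
  omega

theorem three_ne_zero' (hp : 3 < p) : (3 : ZMod p) ≠ 0 := by
  intro h
  have h1 : ((3 : ℕ) : ZMod p) = 0 := by exact_mod_cast h
  rw [ZMod.natCast_eq_zero_iff] at h1
  have := Nat.le_of_dvd (by norm_num) h1
  omega

theorem eq_one_of_pow_three (h3 : p % 3 = 2) {x : ZMod p} (hx : x ^ 3 = 1) : x = 1 := by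
  have hx0 : x ≠ 0 := by
    rintro rfl
    norm_num at hx
  have h1 : x ^ (p - 1) = 1 := ZMod.pow_card_sub_one_eq_one hx0
  have hp2 := (Fact.out : p.Prime).two_le
  have h2 : p - 1 = 3 * ((p - 2) / 3) + 1 := by omega
  rw [h2, pow_succ, pow_mul, hx, one_pow, one_mul] at h1
  exact h1

theorem not_isSquare_neg_three (hp : 3 < p) (h3 : p % 3 = 2) {s : ZMod p} : s * s ≠ -3 := by
  intro hs
  have h2 := two_ne_zero' hp
  have h4 : ((-1 + s) / 2) ^ 3 = 1 := by
    field_simp
    linear_combination (s - 3) * hs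
  have h5 := eq_one_of_pow_three h3 h4
  rw [div_eq_one_iff_eq h2] at h5
  have h6 : s = 3 := by linear_combination h5
  rw [h6] at hs
  have h7 : ((12 : ℕ) : ZMod p) = 0 := by
    push_cast
    linear_combination hs
  rw [ZMod.natCast_eq_zero_iff] at h7
  have h8 : (12 : ℕ) = 2 * 2 * 3 := by norm_num
  rw [h8] at h7
  have hpp : p.Prime := Fact.out
  rcases (Nat.Prime.dvd_mul hpp).1 h7 with h9 | h9
  · rcases (Nat.Prime.dvd_mul hpp).1 h9 with h10 | h10
    · have := Nat.le_of_dvd (by norm_num) h10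
      omega
    · have := Nat.le_of_dvd (by norm_num) h10
      omega
  · have := Nat.le_of_dvd (by norm_num) h9
    omega

theorem norm_ne_zero (hp : 3 < p) (h3 : p % 3 = 2) {x y : ZMod p} (h : ¬ (x = 0 ∧ y = 0)) :
    x * x + 3 * (y * y) ≠ 0 := by
  intro h1
  by_cases hy : y = 0
  · subst hy
    apply h
    refine ⟨?_, rfl⟩
    simpa using h1
  · apply not_isSquare_neg_three hp h3 (s := x / y)
    field_simp
    linear_combination h1

/-- the matrix `x + y √-3` -/
def mat (x y : ZMod p) : Matrix (Fin 2) (Fin 2) (ZMod p) := !![x, -3 * y; y, x]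

theorem det_mat (x y : ZMod p) : (mat x y).det = x * x + 3 * (y * y) := by
  rw [mat, det_fin_two_of]
  ring

/-- the square root of `-3` -/
noncomputable def J (hp : 3 < p) : GG p := GeneralLinearGroup.mkOfDetNeZero (mat 0 1) (by
  rw [det_mat]
  simpa only [_root_.MulZeroClass.mul_zero, _root_.mul_one, _root_.zero_add, _root_.ne_eq] using three_ne_zero' hp)

theorem coe_J (hp : 3 < p) : ((J hp : GG p) : Matrix (Fin 2) (Fin 2) (ZMod p)) = mat 0 1 := rfl

/-- The torus. -/
noncomputable def Tor (hp : 3 < p) : Subgroup (GG p) := Subgroup.centralizer {J hp}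

theorem mem_Tor (hp : 3 < p) {g : GG p} : g ∈ Tor hp ↔ g 0 0 = g 1 1 ∧ g 0 1 = -3 * g 1 0 := by
  rw [Tor, Subgroup.mem_centralizer_singleton_iff]
  have h1 : g * J hp = J hp * g ↔ (g : Matrix (Fin 2) (Fin 2) (ZMod p)) * mat 0 1 =
      mat 0 1 * (g : Matrix (Fin 2) (Fin 2) (ZMod p)) := by
    rw [← coe_J hp, ← Units.val_mul, ← Units.val_mul, Units.val_inj]
  rw [h1]
  constructor
  · intro h
    have h00 := congrFun (congrFun h 0) 0
    have h10 := congrFun (congrFun h 1) 0
    simp only [mat, Matrix.mul_apply, Fin.sum_univ_two, _root_.mul_one, _root_.Fin.isValue, _root_.Matrix.of_apply, _root_.Matrix.cons_val', _root_.Matrix.cons_val_zero, _root_.Matrix.cons_val_fin_one, _root_.MulZeroClass.mul_zero, _root_.Matrix.cons_val_one, _root_.zero_add, _root_.MulZeroClass.zero_mul, _root_.neg_mul, _root_.one_mul, _root_.add_zero] at h00 h10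
    exact ⟨h10.symm, by rw [h00]; ring⟩
  · rintro ⟨h, h'⟩
    ext i j
    (revert i j; simp only [mat, Matrix.mul_apply, Fin.sum_univ_two, h, h', _root_.Fin.forall_fin_succ, _root_.mul_one, _root_.Matrix.of_apply, _root_.Matrix.cons_val', _root_.Matrix.cons_val_fin_one, Fin.isValue, _root_.Matrix.cons_val_zero, _root_.Matrix.cons_val_one, _root_.MulZeroClass.mul_zero, _root_.zero_add, _root_.Matrix.cons_val_succ, _root_.mul_neg, _root_.add_zero, _root_.Fin.succ_zero_eq_one, _root_.neg_mul, _root_.IsEmpty.forall_iff, _root_.and_true, _root_.MulZeroClass.zero_mul, _root_.neg_zero, _root_.neg_inj, _root_.true_and, _root_.one_mul]) <;> (repeat' with_reducible apply And.intro) <;> ring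

theorem coe_eq_mat (hp : 3 < p) {g : GG p} (hg : g ∈ Tor hp) :
    (g : Matrix (Fin 2) (Fin 2) (ZMod p)) = mat (g 0 0) (g 1 0) := by
  obtain ⟨h1, h2⟩ := (mem_Tor hp).1 hg
  ext i j
  fin_cases i <;> fin_cases j
  · rfl
  · exact h2
  · rfl
  · exact h1.symm

/-- torus elements -/
theorem exists_tor (hp : 3 < p) (h3 : p % 3 = 2) {x y : ZMod p} (h : ¬ (x = 0 ∧ y = 0)) :
    ∃ t ∈ Tor hp, (t : Matrix (Fin 2) (Fin 2) (ZMod p)) = mat x y := by
  refine ⟨GeneralLinearGroup.mkOfDetNeZero (mat x y) (by rw [det_mat]; exact norm_ne_zero hp h3 h), ?_, rfl⟩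
  rw [mem_Tor]
  exact ⟨rfl, rfl⟩

theorem tor_isCyclic (hp : 3 < p) (h3 : p % 3 = 2) : IsCyclic (Tor hp (p := p)) := by
  obtain ⟨s, hs⟩ : ∃ s : AlgebraicClosure (ZMod p), s ^ 2 = -3 := IsAlgClosed.exists_pow_nat_eq _ (by norm_num)
  let a := algebraMap (ZMod p) (AlgebraicClosure (ZMod p))
  have hfin : Finite (Tor hp (p := p)) := inferInstance
  let f : Tor hp (p := p) →* AlgebraicClosure (ZMod p) :=
    { toFun := fun g => a ((g : GG p) 0 0) + a ((g : GG p) 1 0) * s
      map_one' := by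
        change a ((1 : Matrix (Fin 2) (Fin 2) (ZMod p)) 0 0) + a ((1 : Matrix (Fin 2) (Fin 2) (ZMod p)) 1 0) * s = 1
        simp
      map_mul' := by
        rintro ⟨g, hg⟩ ⟨g', hg'⟩
        obtain ⟨h1, h2⟩ := (mem_Tor hp).1 hg
        obtain ⟨h1', h2'⟩ := (mem_Tor hp).1 hg'
        have e1 : (g * g') 0 0 = g 0 0 * g' 0 0 - 3 * (g 1 0 * g' 1 0) := by
          rw [Units.val_mul, Matrix.mul_apply, Fin.sum_univ_two, h2]
          ring
        have e2 : (g * g') 1 0 = g 1 0 * g' 0 0 + g 0 0 * g' 1 0 := by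
          rw [Units.val_mul, Matrix.mul_apply, Fin.sum_univ_two, ← h1]
        change a ((g * g') 0 0) + a ((g * g') 1 0) * s = (a (g 0 0) + a (g 1 0) * s) * (a (g' 0 0) + a (g' 1 0) * s)
        rw [e1, e2]
        simp only [map_sub, map_mul, map_add, map_ofNat]
        linear_combination (-a (g 1 0) * a (g' 1 0)) * hs }
  refine isCyclic_of_injective_ringHom f ?_
  rintro ⟨g, hg⟩ ⟨g', hg'⟩ h
  obtain ⟨h1, h2⟩ := (mem_Tor hp).1 hg
  obtain ⟨h1', h2'⟩ := (mem_Tor hp).1 hg'
  have h4 : a (g 0 0) + a (g 1 0) * s = a (g' 0 0) + a (g' 1 0) * s := h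
  have h5 : g 1 0 = g' 1 0 := by
    by_contra hne
    have hne' : g 1 0 - g' 1 0 ≠ 0 := sub_ne_zero.2 hne
    have h6 : a (g 1 0 - g' 1 0) * s = a (g' 0 0 - g 0 0) := by
      rw [map_sub, map_sub]
      linear_combination h4
    apply not_isSquare_neg_three hp h3 (s := (g' 0 0 - g 0 0) / (g 1 0 - g' 1 0))
    apply a.injective
    have h7 : a (g 1 0 - g' 1 0) ≠ 0 := by
      rw [Ne, map_eq_zero]
      exact hne'
    rw [map_mul, map_div₀, ← h6, mul_div_cancel_left₀ _ h7, ← pow_two, hs, map_neg, map_ofNat]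
  have h6 : g 0 0 = g' 0 0 := by
    rw [h5] at h4
    exact a.injective (add_right_cancel h4)
  apply Subtype.ext
  apply Units.ext
  ext i j
  fin_cases i <;> fin_cases j
  · exact h6
  · change g 0 1 = g' 0 1
    rw [h2, h2', h5]
  · exact h5
  · change g 1 1 = g' 1 1
    rw [← h1, ← h1', h6]

/-- scalar matrices -/
def scal (c : (ZMod p)ˣ) : GG p := Matrix.GeneralLinearGroup.scalar (Fin 2) c

theorem coe_scal (c : (ZMod p)ˣ) : ((scal c : GG p) : Matrix (Fin 2) (Fin 2) (ZMod p)) = (c : ZMod p) • 1 := by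
  rw [scal]
  ext i j
  (revert i j; simp only [Matrix.GeneralLinearGroup.scalar, _root_.Fin.forall_fin_succ, _root_.RingHom.toMonoidHom_eq_coe, _root_.Units.coe_map, _root_.MonoidHom.coe_coe, _root_.Matrix.scalar_apply, _root_.Matrix.smul_apply, _root_.smul_eq_mul, Fin.isValue, _root_.Fin.succ_zero_eq_one, _root_.IsEmpty.forall_iff, _root_.and_true, _root_.Matrix.diagonal_apply_eq, _root_.Matrix.one_apply_eq, _root_.mul_one, _root_.ne_eq, _root_.zero_ne_one, _root_.not_false_eq_true, _root_.Matrix.diagonal_apply_ne, Nat.reduceAdd, _root_.Matrix.one_apply_ne, _root_.MulZeroClass.mul_zero, _root_.and_self, _root_.Fin.succ_ne_zero, _root_.true_and])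

theorem scal_comm (c : (ZMod p)ˣ) (g : GG p) : scal c * g = g * scal c := by
  apply Units.ext
  rw [Units.val_mul, Units.val_mul, coe_scal]
  simp

theorem mat_pow_succ (hp : 3 < p) (h3 : p % 3 = 2) (x y : ZMod p) : (mat x y) ^ (p + 1) = (x * x + 3 * (y * y)) • 1 := by
  have hJ2 : (mat (0 : ZMod p) 1) * mat 0 1 = (-3 : ZMod p) • 1 := by
    ext i j
    (revert i j; simp only [mat, Matrix.mul_apply, Fin.sum_univ_two, _root_.Fin.forall_fin_succ, _root_.mul_one, _root_.Matrix.of_apply, _root_.Matrix.cons_val', _root_.Matrix.cons_val_fin_one, Fin.isValue, _root_.Matrix.cons_val_zero, _root_.Matrix.cons_val_one, _root_.Matrix.smul_apply, _root_.smul_eq_mul, _root_.neg_mul, _root_.MulZeroClass.mul_zero, _root_.zero_add, _root_.Matrix.cons_val_succ, _root_.mul_neg, _root_.add_zero, _root_.neg_inj, _root_.IsEmpty.forall_iff, _root_.and_true, _root_.Matrix.one_apply_eq, _root_.MulZeroClass.zero_mul, Nat.reduceAdd, _root_.Fin.succ_zero_eq_one, _root_.ne_eq, _root_.zero_ne_one, _root_.not_false_eq_true,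 _root_.Matrix.one_apply_ne, _root_.and_self, _root_.Fin.succ_ne_zero, _root_.neg_zero, _root_.one_mul, _root_.true_and])
  have hm : mat x y = x • (1 : Matrix (Fin 2) (Fin 2) (ZMod p)) + y • mat 0 1 := by
    ext i j
    (revert i j; simp only [mat, _root_.Fin.forall_fin_succ, _root_.neg_mul, _root_.Matrix.of_apply, _root_.Matrix.cons_val', _root_.Matrix.cons_val_fin_one, _root_.mul_one, _root_.Matrix.smul_of, _root_.Matrix.smul_cons, _root_.smul_eq_mul, _root_.MulZeroClass.mul_zero, _root_.mul_neg, _root_.Matrix.smul_empty, _root_.Matrix.add_apply, _root_.Matrix.smul_apply, Fin.isValue, _root_.Matrix.cons_val_zero, _root_.Matrix.cons_val_succ, _root_.IsEmpty.forall_iff, _root_.Matrix.one_apply_eq, _root_.add_zero, Nat.reduceAdd, _root_.Fin.succ_zero_eq_one, _root_.ne_eq, _root_.zero_ne_one, _root_.not_false_eq_true, _root_.Matrix.one_apply_ne, _root_.zero_add, _root_.neg_inj, _root_.Fin.succ_ne_zero, _root_.and_true, _root_.true_and]) <;> (repeat' with_reducible apply And.intro)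
    ring
  have hodd : Odd p := (Fact.out : p.Prime).odd_of_ne_two (by omega)
  obtain ⟨m, hm'⟩ := hodd
  have heul : (-3 : ZMod p) ^ m = -1 := by
    have h1 : (-3 : ZMod p) ≠ 0 := neg_ne_zero.2 (three_ne_zero' hp)
    have h2 := ZMod.pow_div_two_eq_neg_one_or_one p h1
    have h4 : p / 2 = m := by omega
    rw [h4] at h2
    rcases h2 with h2 | h2
    · exfalso
      have h5 := (ZMod.euler_criterion p h1).2 (by rw [h4]; exact h2)
      obtain ⟨s, hs⟩ := h5
      exact not_isSquare_neg_three hp h3 hs.symm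
    · exact h2
  have hJp : (mat (0 : ZMod p) 1) ^ p = - mat 0 1 := by
    have h5 : (mat (0 : ZMod p) 1) ^ p = (mat (0 : ZMod p) 1) ^ (2 * m + 1) := congrArg _ hm'
    rw [h5, pow_succ, pow_mul, pow_two, hJ2, smul_pow, one_pow, heul]
    simp
  have hcomm : Commute (x • (1 : Matrix (Fin 2) (Fin 2) (ZMod p))) (y • mat 0 1) := by
    apply Commute.smul_left
    exact Commute.one_left _
  have h1 : (mat x y) ^ p = x • (1 : Matrix (Fin 2) (Fin 2) (ZMod p)) - y • mat 0 1 := by
    rw [hm, add_pow_char_of_commute _ hcomm, smul_pow, smul_pow, hJp, one_pow, ZMod.pow_card, ZMod.pow_card,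
      smul_neg, sub_eq_add_neg]
  rw [pow_succ, h1, hm]
  have h2 : (x • (1 : Matrix (Fin 2) (Fin 2) (ZMod p)) - y • mat 0 1) * (x • (1 : Matrix (Fin 2) (Fin 2) (ZMod p)) + y • mat 0 1) =
      (x * x) • 1 - (y * y) • (mat 0 1 * mat 0 1) := by
    simp only [sub_mul, mul_add, smul_mul_assoc, mul_smul_comm, one_mul, mul_one]
    module
  rw [h2, hJ2]
  module

/-- A torus element to the power `p + 1` is a scalar. -/
theorem tor_pow (hp : 3 < p) (h3 : p % 3 = 2) {t : GG p} (ht : t ∈ Tor hp) :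
    ∃ c : (ZMod p)ˣ, t ^ (p + 1) = scal c := by
  have h1 := coe_eq_mat hp ht
  have h2 : ¬ (t 0 0 = 0 ∧ t 1 0 = 0) := by
    rintro ⟨h4, h5⟩
    have h6 : (t : Matrix (Fin 2) (Fin 2) (ZMod p)).det ≠ 0 := by
      have := (Matrix.GeneralLinearGroup.det t).ne_zero
      exact this
    apply h6
    rw [h1, det_mat, h4, h5]
    ring
  refine ⟨Units.mk0 _ (norm_ne_zero hp h3 h2), ?_⟩
  apply Units.ext
  rw [Units.val_pow_eq_pow_val, coe_scal, Units.val_mk0, ← mat_pow_succ hp h3]
  exact congrArg (· ^ (p + 1)) h1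

/-- The norm is surjective. -/
theorem exists_det (hp : 3 < p) (h3 : p % 3 = 2) (c : (ZMod p)ˣ) :
    ∃ t ∈ Tor hp, (t : Matrix (Fin 2) (Fin 2) (ZMod p)).det = c := by
  obtain ⟨x, y, hxy⟩ : ∃ x y : ZMod p, x * x + 3 * (y * y) = c := by
    have h1 := FiniteField.exists_root_sum_quadratic (R := ZMod p) (f := Polynomial.X ^ 2 - Polynomial.C (c : ZMod p))
      (g := Polynomial.C 3 * Polynomial.X ^ 2) (by
        compute_degree!) (by
        have := three_ne_zero' hp
        compute_degree!) (by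
        rw [ZMod.card]
        exact Nat.odd_iff.1 ((Fact.out : p.Prime).odd_of_ne_two (by omega)))
    obtain ⟨a, b, hab⟩ := h1
    refine ⟨a, b, ?_⟩
    simp only [_root_.Polynomial.eval_sub, _root_.Polynomial.eval_pow, _root_.Polynomial.eval_X, _root_.Polynomial.eval_C, _root_.Polynomial.eval_mul] at hab
    linear_combination hab
  have h : ¬ (x = 0 ∧ y = 0) := by
    rintro ⟨rfl, rfl⟩
    apply c.ne_zero
    rw [← hxy]
    ring
  obtain ⟨t, ht, ht'⟩ := exists_tor hp h3 h
  refine ⟨t, ht, ?_⟩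
  rw [ht', det_mat, hxy]

/-! ### The anti-automorphism -/

/-- the anti-automorphism fixing the torus -/
noncomputable def star (hp : 3 < p) (g : GG p) : GG p where
  val := !![-3, 0; 0, 1] * (g : Matrix (Fin 2) (Fin 2) (ZMod p))ᵀ * !![(-3)⁻¹, 0; 0, 1]
  inv := !![-3, 0; 0, 1] * ((g⁻¹ : GG p) : Matrix (Fin 2) (Fin 2) (ZMod p))ᵀ * !![(-3)⁻¹, 0; 0, 1]
  val_inv := by
    have h1 : (!![(-3)⁻¹, 0; 0, 1] : Matrix (Fin 2) (Fin 2) (ZMod p)) * !![-3, 0; 0, 1] = 1 := by
      have := three_ne_zero' hp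
      ext i j
      (revert i j; simp only [Matrix.mul_apply, Fin.sum_univ_two, this, _root_.Fin.forall_fin_succ, _root_.inv_neg, _root_.Matrix.of_apply, _root_.Matrix.cons_val', _root_.Matrix.cons_val_fin_one, Fin.isValue, _root_.Matrix.cons_val_zero, _root_.Matrix.cons_val_one, _root_.mul_neg, _root_.MulZeroClass.mul_zero, _root_.add_zero, _root_.Matrix.cons_val_succ, _root_.mul_one, _root_.zero_add, _root_.IsEmpty.forall_iff, _root_.and_true, _root_.neg_mul, _root_.ne_eq, _root_.not_false_eq_true, _root_.inv_mul_cancel₀, _root_.neg_neg, _root_.Matrix.one_apply_eq, Nat.reduceAdd, _root_.Fin.succ_zero_eq_one, _root_.zero_ne_one, _root_.Matrix.one_apply_ne, _root_.and_self, _root_.MulZeroClass.zero_mul, _root_.neg_zero, _root_.Fin.succ_ne_zero, _root_.true_and])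
    have h2 : (!![-3, 0; 0, 1] : Matrix (Fin 2) (Fin 2) (ZMod p)) * !![(-3)⁻¹, 0; 0, 1] = 1 := by
      have := three_ne_zero' hp
      ext i j
      (revert i j; simp only [Matrix.mul_apply, Fin.sum_univ_two, this, _root_.Fin.forall_fin_succ, _root_.inv_neg, _root_.Matrix.of_apply, _root_.Matrix.cons_val', _root_.Matrix.cons_val_fin_one, Fin.isValue, _root_.Matrix.cons_val_zero, _root_.Matrix.cons_val_one, _root_.mul_neg, _root_.MulZeroClass.mul_zero, _root_.add_zero, _root_.Matrix.cons_val_succ, _root_.mul_one, _root_.zero_add, _root_.IsEmpty.forall_iff, _root_.and_true, _root_.neg_mul, _root_.ne_eq, _root_.not_false_eq_true, _root_.mul_inv_cancel₀, _root_.neg_neg, _root_.Matrix.one_apply_eq, Nat.reduceAdd, _root_.Fin.succ_zero_eq_one, _root_.zero_ne_one, _root_.Matrix.one_apply_ne, _root_.and_self, _root_.MulZeroClass.zero_mul, _root_.neg_zero, _root_.Fin.succ_ne_zero, _root_.true_and])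
    have h4 : (g : Matrix (Fin 2) (Fin 2) (ZMod p))ᵀ * ((g⁻¹ : GG p) : Matrix (Fin 2) (Fin 2) (ZMod p))ᵀ = 1 := by
      rw [← Matrix.transpose_mul, ← Units.val_mul, inv_mul_cancel, Units.val_one, Matrix.transpose_one]
    calc _ = (!![-3, 0; 0, 1] : Matrix (Fin 2) (Fin 2) (ZMod p)) * ((g : Matrix (Fin 2) (Fin 2) (ZMod p))ᵀ *
          ((!![(-3)⁻¹, 0; 0, 1] : Matrix (Fin 2) (Fin 2) (ZMod p)) * !![-3, 0; 0, 1]) *
          ((g⁻¹ : GG p) : Matrix (Fin 2) (Fin 2) (ZMod p))ᵀ) * !![(-3)⁻¹, 0; 0, 1] := by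
          simp only [Matrix.mul_assoc]
      _ = 1 := by rw [h1, Matrix.mul_one, h4, Matrix.mul_one, h2]
  inv_val := by
    have h1 : (!![(-3)⁻¹, 0; 0, 1] : Matrix (Fin 2) (Fin 2) (ZMod p)) * !![-3, 0; 0, 1] = 1 := by
      have := three_ne_zero' hp
      ext i j
      (revert i j; simp only [Matrix.mul_apply, Fin.sum_univ_two, this, _root_.Fin.forall_fin_succ, _root_.inv_neg, _root_.Matrix.of_apply, _root_.Matrix.cons_val', _root_.Matrix.cons_val_fin_one, Fin.isValue, _root_.Matrix.cons_val_zero, _root_.Matrix.cons_val_one, _root_.mul_neg, _root_.MulZeroClass.mul_zero, _root_.add_zero, _root_.Matrix.cons_val_succ, _root_.mul_one, _root_.zero_add, _root_.IsEmpty.forall_iff, _root_.and_true, _root_.neg_mul, _root_.ne_eq, _root_.not_false_eq_true, _root_.inv_mul_cancel₀, _root_.neg_neg, _root_.Matrix.one_apply_eq, Nat.reduceAdd, _root_.Fin.succ_zero_eq_one, _root_.zero_ne_one, _root_.Matrix.one_apply_ne, _root_.and_self, _root_.MulZeroClass.zero_mul, _root_.neg_zero, _root_.Fin.succ_ne_zero,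 _root_.true_and])
    have h2 : (!![-3, 0; 0, 1] : Matrix (Fin 2) (Fin 2) (ZMod p)) * !![(-3)⁻¹, 0; 0, 1] = 1 := by
      have := three_ne_zero' hp
      ext i j
      (revert i j; simp only [Matrix.mul_apply, Fin.sum_univ_two, this, _root_.Fin.forall_fin_succ, _root_.inv_neg, _root_.Matrix.of_apply, _root_.Matrix.cons_val', _root_.Matrix.cons_val_fin_one, Fin.isValue, _root_.Matrix.cons_val_zero, _root_.Matrix.cons_val_one, _root_.mul_neg, _root_.MulZeroClass.mul_zero, _root_.add_zero, _root_.Matrix.cons_val_succ, _root_.mul_one, _root_.zero_add, _root_.IsEmpty.forall_iff, _root_.and_true, _root_.neg_mul, _root_.ne_eq, _root_.not_false_eq_true, _root_.mul_inv_cancel₀, _root_.neg_neg, _root_.Matrix.one_apply_eq, Nat.reduceAdd, _root_.Fin.succ_zero_eq_one, _root_.zero_ne_one, _root_.Matrix.one_apply_ne, _root_.and_self, _root_.MulZeroClass.zero_mul, _root_.neg_zero, _root_.Fin.succ_ne_zero, _root_.true_and])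
    have h4 : ((g⁻¹ : GG p) : Matrix (Fin 2) (Fin 2) (ZMod p))ᵀ * (g : Matrix (Fin 2) (Fin 2) (ZMod p))ᵀ = 1 := by
      rw [← Matrix.transpose_mul, ← Units.val_mul, mul_inv_cancel, Units.val_one, Matrix.transpose_one]
    calc _ = (!![-3, 0; 0, 1] : Matrix (Fin 2) (Fin 2) (ZMod p)) * (((g⁻¹ : GG p) : Matrix (Fin 2) (Fin 2) (ZMod p))ᵀ *
          ((!![(-3)⁻¹, 0; 0, 1] : Matrix (Fin 2) (Fin 2) (ZMod p)) * !![-3, 0; 0, 1]) *
          (g : Matrix (Fin 2) (Fin 2) (ZMod p))ᵀ) * !![(-3)⁻¹, 0; 0, 1] := by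
          simp only [Matrix.mul_assoc]
      _ = 1 := by rw [h1, Matrix.mul_one, h4, Matrix.mul_one, h2]

theorem coe_star (hp : 3 < p) (g : GG p) : ((star hp g : GG p) : Matrix (Fin 2) (Fin 2) (ZMod p)) =
    !![g 0 0, -3 * g 1 0; g 0 1 * (-3)⁻¹, g 1 1] := by
  change !![-3, 0; 0, 1] * (g : Matrix (Fin 2) (Fin 2) (ZMod p))ᵀ * !![(-3)⁻¹, 0; 0, 1] = _
  have h3 := three_ne_zero' hp
  ext i j
  (revert i j; simp only [Matrix.mul_apply, Matrix.vecMul, dotProduct, Fin.sum_univ_two, _root_.Fin.forall_fin_succ, _root_.Matrix.cons_mul, _root_.Nat.succ_eq_add_one, Nat.reduceAdd, _root_.Matrix.empty_mul, _root_.Equiv.symm_apply_apply, _root_.inv_neg, _root_.Matrix.of_apply, _root_.Matrix.cons_val', _root_.Matrix.transpose_apply, Fin.isValue, _root_.Matrix.cons_val_zero, _root_.neg_mul, _root_.Matrix.cons_val_one, _root_.Matrix.cons_val_fin_one, _root_.MulZeroClass.zero_mul, _root_.add_zero, _root_.one_mul, _root_.zero_add, _root_.mul_neg, _root_.MulZeroClass.mul_zero, _root_.Matrix.cons_val_succ,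 _root_.mul_one, _root_.implies_true, _root_.neg_neg, _root_.and_true, _root_.true_and]) <;> (repeat' with_reducible apply And.intro)
  field_simp

theorem star_mul (hp : 3 < p) (a b : GG p) : star hp (a * b) = star hp b * star hp a := by
  have h3 := three_ne_zero' hp
  apply Units.ext
  rw [Units.val_mul, coe_star, coe_star, coe_star]
  ext i j
  (revert i j; simp only [Matrix.mul_apply, Fin.sum_univ_two, _root_.Fin.forall_fin_succ, Fin.isValue, _root_.Units.val_mul, _root_.neg_mul, _root_.inv_neg, _root_.mul_neg, _root_.Matrix.of_apply, _root_.Matrix.cons_val', _root_.Matrix.cons_val_fin_one, _root_.Matrix.cons_val_zero, _root_.Matrix.cons_val_one, _root_.Matrix.cons_val_succ, _root_.forall_const, _root_.neg_neg]) <;> (repeat' with_reducible apply And.intro) <;> field_simp <;> ring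

theorem star_surjective (hp : 3 < p) : Function.Surjective (star hp (p := p)) := by
  have h3 := three_ne_zero' hp
  intro g
  refine ⟨star hp g, ?_⟩
  apply Units.ext
  rw [coe_star]
  have h := coe_star hp g
  ext i j
  (revert i j; simp only [h, _root_.Fin.forall_fin_succ, Fin.isValue, _root_.neg_mul, _root_.inv_neg, _root_.mul_neg, _root_.Matrix.of_apply, _root_.Matrix.cons_val', _root_.Matrix.cons_val_zero, _root_.Matrix.cons_val_fin_one, _root_.Matrix.cons_val_one, _root_.neg_neg, _root_.Matrix.cons_val_succ, _root_.Fin.succ_zero_eq_one, _root_.IsEmpty.forall_iff, _root_.and_true, _root_.true_and]) <;> (repeat' with_reducible apply And.intro) <;> field_simp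

/-- Every element is conjugate to its image under the anti-automorphism by a torus element. -/
theorem exists_star (hp : 3 < p) (h3 : p % 3 = 2) (g : GG p) : ∃ t ∈ Tor hp, t * star hp g = g * t := by
  have h3' := three_ne_zero' hp
  by_cases h : g 0 0 - g 1 1 = 0 ∧ g 1 0 - g 0 1 * (-3)⁻¹ = 0
  · refine ⟨1, one_mem _, ?_⟩
    rw [one_mul, mul_one]
    apply Units.ext
    rw [coe_star]
    have h4 : g 1 0 = g 0 1 * (-3)⁻¹ := sub_eq_zero.1 h.2
    ext i j
    fin_cases i <;> fin_cases j
    · rfl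
    · change -3 * g 1 0 = g 0 1
      rw [h4]
      field_simp
    · exact h4.symm
    · rfl
  · obtain ⟨t, ht, ht'⟩ := exists_tor hp h3 h
    refine ⟨t, ht, ?_⟩
    apply Units.ext
    rw [Units.val_mul, Units.val_mul, coe_star, ht']
    ext i j
    (revert i j; simp only [mat, Matrix.mul_apply, Fin.sum_univ_two, _root_.Fin.forall_fin_succ, Fin.isValue, _root_.inv_neg, _root_.mul_neg, _root_.sub_neg_eq_add, _root_.neg_mul, _root_.Matrix.of_apply, _root_.Matrix.cons_val', _root_.Matrix.cons_val_fin_one, _root_.Matrix.cons_val_zero, _root_.Matrix.cons_val_one, _root_.Matrix.cons_val_succ, _root_.forall_const, _root_.neg_neg, _root_.Fin.succ_zero_eq_one, _root_.IsEmpty.forall_iff, _root_.and_true]) <;> (repeat' with_reducible apply And.intro) <;> field_simp <;> ring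

end Cfsg.Agent.H892.GLTorus
end

-- part: H892/ThreeConf
section
/-!
# An element of order three acting on an abelian group

`h` of order three, `g₀, g₁, g₂` commuting, permuted cyclically by `h`, with product one and of order prime to three:
`dim V ≤ 4 dim C_V(h) + 2 dim C_V(g₀)`, in every characteristic different from three.
-/

set_option autoImplicit false

namespace Cfsg.Agent.H892.ThreeConf

open Module Cfsg.Agent.H892.FixDim

variable {K V : Type*} [Field K] [AddCommGroup V] [Module K V] [FiniteDimensional K V]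

/-- the image of a submodule and the kernel -/
theorem finrank_le_of_map_le (f : V →ₗ[K] V) (A C : Submodule K V) (h : A.map f ≤ C) :
    finrank K A ≤ finrank K (A ⊓ LinearMap.ker f : Submodule K V) + finrank K C := by
  have h1 := LinearMap.finrank_range_add_finrank_ker (f ∘ₗ A.subtype)
  have h2 : LinearMap.range (f ∘ₗ A.subtype) = A.map f := by
    rw [LinearMap.range_comp, Submodule.range_subtype]
  have h3 : (LinearMap.ker (f ∘ₗ A.subtype)).map A.subtype = A ⊓ LinearMap.ker f := by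
    ext x
    constructor
    · rintro ⟨y, hy, rfl⟩
      exact ⟨y.2, hy⟩
    · rintro ⟨hA, hf⟩
      exact ⟨⟨x, hA⟩, hf, rfl⟩
  have h4 := Submodule.finrank_map_subtype_eq A (LinearMap.ker (f ∘ₗ A.subtype))
  rw [h3] at h4
  have h5 := Submodule.finrank_mono h
  rw [h2] at h1
  omega

theorem three_conf (ω : K) (hω : ω ^ 2 + ω + 1 = 0) (h3 : (3 : K) ≠ 0) (h g₀ g₁ g₂ : Module.End K V)
    (hh : h ^ 3 = 1) (h01 : h * g₀ = g₁ * h) (h12 : h * g₁ = g₂ * h) (h20 : h * g₂ = g₀ * h)
    (c01 : g₀ * g₁ = g₁ * g₀) (c02 : g₀ * g₂ = g₂ * g₀) (c12 : g₁ * g₂ = g₂ * g₁)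
    (hprod : g₀ * g₁ * g₂ = 1) {r : ℕ} (hr : Nat.Coprime 3 r) (hgr : g₀ ^ r = 1) :
    finrank K V ≤ 4 * fx h + 2 * fx g₀ := by
  have hω3 : ω ^ 3 = 1 := by linear_combination (ω - 1) * hω
  set E : Module.End K V := g₀ + ω ^ 2 • g₁ + ω • g₂ with hE
  set E' : Module.End K V := g₀ + ω • g₁ + ω ^ 2 • g₂ with hE'
  have hEE' : E * E' = E' * E := by
    rw [hE, hE']
    simp only [add_mul, mul_add, smul_mul_assoc, mul_smul_comm]
    rw [c01, c02, c12]
    module
  have hhE : h * E = ω • (E * h) := by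
    rw [hE]
    simp only [add_mul, mul_add, smul_mul_assoc, mul_smul_comm, smul_add, smul_smul]
    rw [h01, h12, h20]
    have h1 : ω * ω ^ 2 = 1 := by rw [← hω3]; ring
    have h2 : ω * ω = ω ^ 2 := by ring
    rw [h1, h2, one_smul]
    abel
  have hhE' : h * E' = ω ^ 2 • (E' * h) := by
    rw [hE']
    simp only [add_mul, mul_add, smul_mul_assoc, mul_smul_comm, smul_add, smul_smul]
    rw [h01, h12, h20]
    have h1 : ω ^ 2 * ω = 1 := by rw [← hω3]; ring
    have h2 : ω ^ 2 * ω ^ 2 = ω := by linear_combination ω * hω3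
    rw [h1, h2, one_smul]
    abel
  set V0 := LinearMap.ker (h - 1) with hV0
  set V1 := LinearMap.ker (h - ω • (1 : Module.End K V)) with hV1
  set V2 := LinearMap.ker (h - ω ^ 2 • (1 : Module.End K V)) with hV2
  have m0 : ∀ {v}, v ∈ V0 ↔ h v = v := fun {v} => mem_ker_sub_one
  have m1 : ∀ {v}, v ∈ V1 ↔ h v = ω • v := by
    intro v
    rw [hV1, LinearMap.mem_ker, LinearMap.sub_apply, LinearMap.smul_apply, Module.End.one_apply, sub_eq_zero]
  have m2 : ∀ {v}, v ∈ V2 ↔ h v = ω ^ 2 • v := by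
    intro v
    rw [hV2, LinearMap.mem_ker, LinearMap.sub_apply, LinearMap.smul_apply, Module.End.one_apply, sub_eq_zero]
  have aE : ∀ v, h (E v) = ω • E (h v) := fun v => by
    have := congrArg (fun f : Module.End K V => f v) hhE
    exact this
  have aE' : ∀ v, h (E' v) = ω ^ 2 • E' (h v) := fun v => by
    have := congrArg (fun f : Module.End K V => f v) hhE'
    exact this
  have aEE' : ∀ v, E (E' v) = E' (E v) := fun v => by
    have := congrArg (fun f : Module.End K V => f v) hEE'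
    exact this
  -- dimension count for the eigenspaces
  have hdim : finrank K V ≤ finrank K V0 + finrank K V1 + finrank K V2 := by
    have h1 := finrank_ker_comp_le (h - 1) ((h - ω • (1 : Module.End K V)) * (h - ω ^ 2 • (1 : Module.End K V)))
    have h2 := finrank_ker_comp_le (h - ω • (1 : Module.End K V)) (h - ω ^ 2 • (1 : Module.End K V))
    have h3 : (h - 1) ∘ₗ ((h - ω • (1 : Module.End K V)) * (h - ω ^ 2 • (1 : Module.End K V))) = 0 := by
      change (h - 1) * ((h - ω • (1 : Module.End K V)) * (h - ω ^ 2 • (1 : Module.End K V))) = 0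
      have h4 : (h - 1) * ((h - ω • (1 : Module.End K V)) * (h - ω ^ 2 • (1 : Module.End K V))) =
          h ^ 3 - (ω ^ 2 + ω + 1) • h ^ 2 + (ω ^ 3 + ω ^ 2 + ω) • h - ω ^ 3 • (1 : Module.End K V) := by
        simp only [sub_mul, mul_sub, smul_mul_assoc, mul_smul_comm, one_mul, mul_one, pow_succ, pow_zero]
        module
      rw [h4, hω, hω3, hh]
      have h5 : (1 : K) + ω ^ 2 + ω = 0 := by rw [← hω]; ring
      rw [h5]
      simp
    rw [h3, LinearMap.ker_zero, finrank_top] at h1
    have h5 : finrank K (LinearMap.ker ((h - ω • (1 : Module.End K V)) * (h - ω ^ 2 • (1 : Module.End K V)))) ≤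
      finrank K V2 + finrank K V1 := h2
    have h6 : finrank K V ≤ finrank K (LinearMap.ker ((h - ω • (1 : Module.End K V)) *
      (h - ω ^ 2 • (1 : Module.End K V)))) + finrank K V0 := h1
    omega
  set Z0 := V0 ⊓ LinearMap.ker E ⊓ LinearMap.ker E' with hZ0
  set Z1 := V1 ⊓ LinearMap.ker E ⊓ LinearMap.ker E' with hZ1
  set Z2 := V2 ⊓ LinearMap.ker E ⊓ LinearMap.ker E' with hZ2
  -- step one
  have s1 : finrank K V1 ≤ finrank K (V1 ⊓ LinearMap.ker E' : Submodule K V) + finrank K V0 := by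
    apply finrank_le_of_map_le
    rintro _ ⟨v, hv, rfl⟩
    rw [m0, aE', m1.1 hv, map_smul, smul_smul]
    have : ω ^ 2 * ω = 1 := by rw [← hω3]; ring
    rw [this, one_smul]
  have s2 : finrank K V2 ≤ finrank K (V2 ⊓ LinearMap.ker E : Submodule K V) + finrank K V0 := by
    apply finrank_le_of_map_le
    rintro _ ⟨v, hv, rfl⟩
    rw [m0, aE, m2.1 hv, map_smul, smul_smul]
    have : ω * ω ^ 2 = 1 := by rw [← hω3]; ring
    rw [this, one_smul]
  set S1 := (V1 ⊓ LinearMap.ker E').map (E * E) with hS1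
  set S2 := (V2 ⊓ LinearMap.ker E).map (E' * E') with hS2
  have s3 : finrank K (V1 ⊓ LinearMap.ker E' : Submodule K V) ≤
      finrank K (V1 ⊓ LinearMap.ker E' ⊓ LinearMap.ker (E * E) : Submodule K V) + finrank K S1 :=
    finrank_le_of_map_le _ _ _ le_rfl
  have s4 : finrank K (V2 ⊓ LinearMap.ker E : Submodule K V) ≤
      finrank K (V2 ⊓ LinearMap.ker E ⊓ LinearMap.ker (E' * E') : Submodule K V) + finrank K S2 :=
    finrank_le_of_map_le _ _ _ le_rfl
  have hS1V : S1 ≤ V0 := by
    rintro _ ⟨v, ⟨hv, -⟩, rfl⟩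
    rw [m0, Module.End.mul_apply, aE, aE, m1.1 hv, map_smul, map_smul, map_smul, smul_smul, smul_smul]
    have : ω * ω * ω = 1 := by rw [← hω3]; ring
    rw [this, one_smul]
  have hS2V : S2 ≤ V0 := by
    rintro _ ⟨v, ⟨hv, -⟩, rfl⟩
    rw [m0, Module.End.mul_apply, aE', aE', m2.1 hv, map_smul, map_smul, map_smul, smul_smul, smul_smul]
    have : ω ^ 2 * ω ^ 2 * ω ^ 2 = 1 := by
      calc ω ^ 2 * ω ^ 2 * ω ^ 2 = (ω ^ 3) ^ 2 := by ring
        _ = 1 := by rw [hω3]; ring
    rw [this, one_smul]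
  have hS12 : S1 ⊓ S2 ≤ Z0 := by
    rintro x ⟨hx1, hx2⟩
    refine ⟨⟨hS1V hx1, ?_⟩, ?_⟩
    · obtain ⟨v, ⟨-, hv⟩, rfl⟩ := hx2
      have hv' : E v = 0 := hv
      rw [SetLike.mem_coe, LinearMap.mem_ker, Module.End.mul_apply, aEE', aEE', hv', map_zero, map_zero]
    · obtain ⟨v, ⟨-, hv⟩, rfl⟩ := hx1
      have hv' : E' v = 0 := hv
      rw [SetLike.mem_coe, LinearMap.mem_ker, Module.End.mul_apply, ← aEE', ← aEE', hv', map_zero, map_zero]
  have s5 := Submodule.finrank_sup_add_finrank_inf_eq S1 S2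
  have s6 : finrank K (S1 ⊔ S2 : Submodule K V) ≤ finrank K V0 := Submodule.finrank_mono (sup_le hS1V hS2V)
  have s7 := Submodule.finrank_mono hS12
  -- step two
  have s8 : finrank K (V1 ⊓ LinearMap.ker E' ⊓ LinearMap.ker (E * E) : Submodule K V) ≤
      finrank K Z1 + finrank K Z2 := by
    have := finrank_le_of_map_le E (V1 ⊓ LinearMap.ker E' ⊓ LinearMap.ker (E * E)) Z2 ?_
    · refine this.trans (Nat.add_le_add_right (Submodule.finrank_mono ?_) _)
      rintro x ⟨⟨⟨hx1, hx2⟩, -⟩, hx3⟩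
      exact ⟨⟨hx1, hx3⟩, hx2⟩
    · rintro _ ⟨v, ⟨⟨hv1, hv2⟩, hv3⟩, rfl⟩
      have hv2' : E' v = 0 := hv2
      refine ⟨⟨?_, hv3⟩, ?_⟩
      · rw [SetLike.mem_coe, m2, aE, m1.1 hv1, map_smul, smul_smul, pow_two]
      · rw [SetLike.mem_coe, LinearMap.mem_ker, ← aEE', hv2', map_zero]
  have s9 : finrank K (V2 ⊓ LinearMap.ker E ⊓ LinearMap.ker (E' * E') : Submodule K V) ≤
      finrank K Z2 + finrank K Z1 := by
    have := finrank_le_of_map_le E' (V2 ⊓ LinearMap.ker E ⊓ LinearMap.ker (E' * E')) Z1 ?_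
    · refine this.trans (Nat.add_le_add_right (Submodule.finrank_mono ?_) _)
      rintro x ⟨⟨hx1, -⟩, hx3⟩
      exact ⟨hx1, hx3⟩
    · rintro _ ⟨v, ⟨⟨hv1, hv2⟩, hv3⟩, rfl⟩
      have hv2' : E v = 0 := hv2
      refine ⟨⟨?_, ?_⟩, hv3⟩
      · rw [SetLike.mem_coe, m1, aE', m2.1 hv1, map_smul, smul_smul]
        have : ω ^ 2 * ω ^ 2 = ω := by linear_combination ω * hω3
        rw [this]
      · rw [SetLike.mem_coe, LinearMap.mem_ker, aEE', hv2', map_zero]
  -- the common kernel is fixed by `g₀`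
  have hZ : ∀ v, E v = 0 → E' v = 0 → g₀ v = v := by
    intro v h1 h2
    have h1' : g₀ v + ω ^ 2 • g₁ v + ω • g₂ v = 0 := h1
    have h2' : g₀ v + ω • g₁ v + ω ^ 2 • g₂ v = 0 := h2
    have e1 : g₁ v = g₀ v := by
      have : (3 : K) • g₁ v = (3 : K) • g₀ v := by
        have h4 : (3 : K) • g₁ v - (3 : K) • g₀ v =
            (ω - 1) • (g₀ v + ω ^ 2 • g₁ v + ω • g₂ v) + (ω ^ 2 - 1) • (g₀ v + ω • g₁ v + ω ^ 2 • g₂ v) -
            (ω ^ 2 + ω + 1) • g₀ v + (5 - 2 * ω ^ 3 + ω ^ 2 + ω - 1 - 1) • (0 : V) +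
              ((3 : K) - (ω - 1) * ω ^ 2 - (ω ^ 2 - 1) * ω) • g₁ v +
              (- (ω - 1) * ω - (ω ^ 2 - 1) * ω ^ 2) • g₂ v := by
          module
        have h5 : (3 : K) - (ω - 1) * ω ^ 2 - (ω ^ 2 - 1) * ω = 0 := by
          linear_combination -2 * hω3 + hω
        have h6 : - (ω - 1) * ω - (ω ^ 2 - 1) * ω ^ 2 = 0 := by
          linear_combination -ω * hω3
        rw [h1', h2', hω, h5, h6] at h4
        simp only [smul_zero, zero_smul, add_zero, sub_zero] at h4
        exact sub_eq_zero.1 h4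
      exact smul_right_injective V h3 this
    have e2 : g₂ v = g₀ v := by
      have : (3 : K) • g₂ v = (3 : K) • g₀ v := by
        have h4 : (3 : K) • g₂ v - (3 : K) • g₀ v =
            (ω ^ 2 - 1) • (g₀ v + ω ^ 2 • g₁ v + ω • g₂ v) + (ω - 1) • (g₀ v + ω • g₁ v + ω ^ 2 • g₂ v) -
            (ω ^ 2 + ω + 1) • g₀ v +
              ((3 : K) - (ω - 1) * ω ^ 2 - (ω ^ 2 - 1) * ω) • g₂ v +
              (- (ω - 1) * ω - (ω ^ 2 - 1) * ω ^ 2) • g₁ v := by
          module
        have h5 : (3 : K) - (ω - 1) * ω ^ 2 - (ω ^ 2 - 1) * ω = 0 := by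
          linear_combination -2 * hω3 + hω
        have h6 : - (ω - 1) * ω - (ω ^ 2 - 1) * ω ^ 2 = 0 := by
          linear_combination -ω * hω3
        rw [h1', h2', hω, h5, h6] at h4
        simp only [smul_zero, zero_smul, add_zero, sub_zero] at h4
        exact sub_eq_zero.1 h4
      exact smul_right_injective V h3 this
    -- `g₀ ^ 3` fixes `v`
    have e3 : (g₀ ^ 3) v = v := by
      have h4 : (g₀ * g₁ * g₂) v = v := by rw [hprod, Module.End.one_apply]
      have h5 : g₀ * g₀ * g₀ = g₀ ^ 3 := by simp only [pow_succ, pow_zero, one_mul]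
      rw [Module.End.mul_apply, e2, ← Module.End.mul_apply, mul_assoc, ← c01, ← mul_assoc, Module.End.mul_apply,
        e1, ← Module.End.mul_apply, h5] at h4
      exact h4
    have e4 : (g₀ ^ r) v = v := by rw [hgr, Module.End.one_apply]
    -- coprimality
    have e5 : ∀ n : ℕ, (g₀ ^ (3 * n)) v = v := by
      intro n
      induction n with
      | zero => simp
      | succ n ih => rw [Nat.mul_succ, pow_add, Module.End.mul_apply, e3, ih]
    have e6 : ∀ n : ℕ, (g₀ ^ (r * n)) v = v := by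
      intro n
      rw [pow_mul, hgr, one_pow, Module.End.one_apply]
    obtain ⟨m, -, hm⟩ := Nat.exists_mul_mod_eq_one_of_coprime hr.symm (by norm_num : 1 < 3)
    have e7 : (g₀ ^ (r * m)) v = g₀ v := by
      have h7 := Nat.div_add_mod (r * m) 3
      rw [hm] at h7
      rw [← h7, add_comm, pow_add, Module.End.mul_apply, e5, pow_one]
    rw [← e7, e6]
  have hk : finrank K Z0 + finrank K Z1 + finrank K Z2 ≤ fx g₀ := by
    -- the three pieces are independent
    have hd1 : Z1 ⊓ Z2 = ⊥ := by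
      rw [eq_bot_iff]
      rintro x ⟨⟨⟨hx1, -⟩, -⟩, ⟨⟨hx2, -⟩, -⟩⟩
      have h4 := m1.1 hx1
      rw [m2.1 hx2, ← sub_eq_zero, ← sub_smul, smul_eq_zero] at h4
      rcases h4 with h4 | h4
      · exfalso
        have h5 : ω = 1 := by
          have h6 : ω * (ω - 1) = 0 := by linear_combination h4
          rcases mul_eq_zero.1 h6 with h7 | h7
          · rw [h7] at hω3
            norm_num at hω3
          · exact sub_eq_zero.1 h7
        rw [h5] at hω
        apply h3
        linear_combination hω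
      · rw [h4]
        exact zero_mem _
    have hd2 : Z0 ⊓ (Z1 ⊔ Z2) = ⊥ := by
      rw [eq_bot_iff]
      rintro x ⟨⟨⟨hx0, -⟩, -⟩, hx⟩
      obtain ⟨y, hy, z, hz, rfl⟩ := Submodule.mem_sup.1 hx
      have hy1 := m1.1 hy.1.1
      have hz1 := m2.1 hz.1.1
      have hx1 := m0.1 hx0
      rw [map_add, hy1, hz1] at hx1
      have hx2 : h (ω • y + ω ^ 2 • z) = h (y + z) := by rw [hx1]
      rw [map_add, map_add, map_smul, map_smul, hy1, hz1, hx1] at hx2
      have h4 : (3 : K) • (y + z) = 0 := by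
        have h6 : (y + z) + (ω • y + ω ^ 2 • z) + (ω • ω • y + ω ^ 2 • ω ^ 2 • z) = 0 := by
          have h7 : (y + z) + (ω • y + ω ^ 2 • z) + (ω • ω • y + ω ^ 2 • ω ^ 2 • z) =
              (ω ^ 2 + ω + 1) • y + (ω ^ 4 + ω ^ 2 + 1) • z := by module
          have h8 : ω ^ 4 + ω ^ 2 + 1 = 0 := by linear_combination ω * hω3 + hω
          rw [h7, hω, h8, zero_smul, zero_smul, add_zero]
        rw [hx1, hx2] at h6
        rw [← h6]
        module
      rcases smul_eq_zero.1 h4 with h10 | h10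
      · exact absurd h10 h3
      · rw [h10]
        exact zero_mem _
    have hle : Z0 ⊔ (Z1 ⊔ Z2) ≤ LinearMap.ker (g₀ - 1) := by
      refine sup_le ?_ (sup_le ?_ ?_)
      · rintro x ⟨⟨-, h1⟩, h2⟩
        exact mem_ker_sub_one.2 (hZ x h1 h2)
      · rintro x ⟨⟨-, h1⟩, h2⟩
        exact mem_ker_sub_one.2 (hZ x h1 h2)
      · rintro x ⟨⟨-, h1⟩, h2⟩
        exact mem_ker_sub_one.2 (hZ x h1 h2)
    have h4 := Submodule.finrank_mono hle
    have h5 := Submodule.finrank_sup_add_finrank_inf_eq Z1 Z2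
    have h6 := Submodule.finrank_sup_add_finrank_inf_eq Z0 (Z1 ⊔ Z2)
    rw [hd1, finrank_bot] at h5
    rw [hd2, finrank_bot] at h6
    unfold fx
    omega
  have hv0 : fx h = finrank K V0 := rfl
  omega

theorem exists_omega (K : Type*) [Field K] [IsAlgClosed K] : ∃ ω : K, ω ^ 2 + ω + 1 = 0 := by
  obtain ⟨ω, hω⟩ := IsAlgClosed.exists_root (Polynomial.X ^ 2 + Polynomial.X + 1 : Polynomial K) (by
    have : (Polynomial.X ^ 2 + Polynomial.X + 1 : Polynomial K).degree = 2 := by compute_degree!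
    rw [this]
    norm_num)
  refine ⟨ω, ?_⟩
  simpa only [Polynomial.IsRoot, _root_.Polynomial.eval_add, _root_.Polynomial.eval_pow, _root_.Polynomial.eval_X, _root_.Polynomial.eval_one] using hω

/-- An element `h` of order three and an element `g` of order prime to three whose conjugates under `⟨h⟩` commute and
have product one. -/
theorem exists_of_three [IsAlgClosed K] {G : Type*} [Group G] (ρ : Representation K G V) (h g : G)
    (hh : orderOf h = 3) (hg : g ≠ 1) {r : ℕ} (hr : Nat.Coprime 3 r) (hgr : g ^ r = 1)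
    (hcomm : Commute g (h * g * h⁻¹)) (hprod : g * (h * g * h⁻¹) * (h ^ 2 * g * (h ^ 2)⁻¹) = 1) :
    ∃ x : G, x ≠ 1 ∧ finrank K V ≤ 6 * fx (ρ x) := by
  have hh3 : h ^ 3 = 1 := by rw [← hh, pow_orderOf_eq_one]
  have hh1 : h ≠ 1 := by
    rintro rfl
    rw [orderOf_one] at hh
    omega
  by_cases h3 : (3 : K) = 0
  · have : Fact (Nat.Prime 3) := ⟨Nat.prime_three⟩
    have := (CharP.charP_iff_prime_eq_zero (R := K) Nat.prime_three).2 (by exact_mod_cast h3)
    refine ⟨h, hh1, ?_⟩
    have h1 : (ρ h) ^ 3 = 1 := by rw [← map_pow, hh3, map_one]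
    have h2 := finrank_le_mul_fx (p := 3) h1
    omega
  · obtain ⟨ω, hω⟩ := exists_omega K
    set g1 := h * g * h⁻¹ with hg1
    set g2 := h ^ 2 * g * (h ^ 2)⁻¹ with hg2
    have e1 : h * g = g1 * h := by rw [hg1]; group
    have e2 : h * g1 = g2 * h := by rw [hg1, hg2, pow_two]; group
    have e3 : h * g2 = g * h := by
      have : h * g2 = h ^ 3 * g * (h ^ 3)⁻¹ * h := by rw [hg2, pow_two, pow_three]; group
      rw [this, hh3]
      group
    have c1 : g * g1 = g1 * g := hcomm
    have c2 : g1 * g2 = g2 * g1 := by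
      have h4 : g2 = h * g1 * h⁻¹ := by rw [hg1, hg2, pow_two]; group
      have h5 : h * (g * g1) * h⁻¹ = h * (g1 * g) * h⁻¹ := by rw [c1]
      calc g1 * g2 = h * (g * g1) * h⁻¹ := by rw [h4, hg1]; group
        _ = h * (g1 * g) * h⁻¹ := h5
        _ = g2 * g1 := by rw [h4, hg1]; group
    have c3 : g * g2 = g2 * g := by
      have h6 : g2 = (g * g1)⁻¹ := eq_inv_of_mul_eq_one_right hprod
      have : Commute g (g * g1)⁻¹ := ((Commute.refl g).mul_right c1).inv_right
      rw [h6]
      exact this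
    have key := three_conf ω hω h3 (ρ h) (ρ g) (ρ g1) (ρ g2) (by rw [← map_pow, hh3, map_one])
      (by rw [← map_mul, e1, map_mul]) (by rw [← map_mul, e2, map_mul]) (by rw [← map_mul, e3, map_mul])
      (by rw [← map_mul, c1, map_mul]) (by rw [← map_mul, c3, map_mul]) (by rw [← map_mul, c2, map_mul])
      (by rw [← map_mul, ← map_mul, hprod, map_one]) hr (by rw [← map_pow, hgr, map_one])
    by_contra hcon
    push Not at hcon
    have h7 := hcon h hh1
    have h8 := hcon g hg
    omega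

end Cfsg.Agent.H892.ThreeConf
end

-- part: H892/CoprimeChar
section
/-!
# Elements of order three of `SL₂(p)`, `p ≡ 2 mod 3`, in characteristic different from `p`
-/

set_option autoImplicit false

namespace Cfsg.Agent.H892.CoprimeChar

open Module Matrix Cfsg.Agent.H892.FixDim Cfsg.Agent.H892.MultOne Cfsg.Agent.H892.GLTorus
open Cfsg.Agent.ClassicalGeometry.SplitTorus

variable {p : ℕ} [Fact p.Prime]

/-- `SL₂(p)` -/
abbrev SS (p : ℕ) := _root_.Matrix.SpecialLinearGroup (Fin 2) (ZMod p)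

/-- the element of order three in the nonsplit torus -/
noncomputable def y0 (hp : 3 < p) : SS p := ⟨mat (-1 / 2) (1 / 2), by
  have h2 := _root_.Cfsg.Agent.H892.GLTorus.two_ne_zero' hp
  rw [det_mat]
  field_simp
  norm_num⟩

theorem coe_y0 (hp : 3 < p) : ((y0 hp : SS p) : Matrix (Fin 2) (Fin 2) (ZMod p)) = mat (-1 / 2) (1 / 2) := rfl

theorem mat_mul (a b c d : ZMod p) : mat a b * mat c d = mat (a * c - 3 * (b * d)) (a * d + b * c) := by
  ext i j
  (revert i j; simp only [mat, Matrix.mul_apply, Fin.sum_univ_two, _root_.Fin.forall_fin_succ, _root_.neg_mul, _root_.Matrix.of_apply, _root_.Matrix.cons_val', _root_.Matrix.cons_val_fin_one, Fin.isValue, _root_.Matrix.cons_val_zero, _root_.Matrix.cons_val_one, _root_.Matrix.cons_val_succ, _root_.mul_neg, _root_.forall_const]) <;> (repeat' with_reducible apply And.intro) <;> ring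

theorem mat_one_zero : mat (1 : ZMod p) 0 = 1 := by
  ext i j
  (revert i j; simp only [mat, _root_.Fin.forall_fin_succ, _root_.MulZeroClass.mul_zero, _root_.Matrix.of_apply, _root_.Matrix.cons_val', _root_.Matrix.cons_val_fin_one, Fin.isValue, _root_.Matrix.cons_val_zero, _root_.Matrix.cons_val_succ, _root_.IsEmpty.forall_iff, _root_.and_true, _root_.Matrix.one_apply_eq, Nat.reduceAdd, _root_.Fin.succ_zero_eq_one, _root_.ne_eq, _root_.zero_ne_one, _root_.not_false_eq_true, _root_.Matrix.one_apply_ne, _root_.and_self, _root_.Fin.succ_ne_zero, _root_.true_and])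

theorem y0_sq (hp : 3 < p) : ((y0 hp * y0 hp : SS p) : Matrix (Fin 2) (Fin 2) (ZMod p)) = mat (-1 / 2) (-1 / 2) := by
  have h2 := _root_.Cfsg.Agent.H892.GLTorus.two_ne_zero' hp
  change mat (-1 / 2) (1 / 2) * mat (-1 / 2) (1 / 2) = _
  rw [mat_mul]
  congr 1
  · field_simp
    ring
  · field_simp
    ring

theorem y0_pow_three (hp : 3 < p) : (y0 hp : SS p) ^ 3 = 1 := by
  have h2 := _root_.Cfsg.Agent.H892.GLTorus.two_ne_zero' hp
  rw [pow_succ, pow_two]
  apply Subtype.ext
  change ((y0 hp * y0 hp : SS p) : Matrix (Fin 2) (Fin 2) (ZMod p)) * mat (-1 / 2) (1 / 2) = (1 : Matrix (Fin 2) (Fin 2) (ZMod p))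
  rw [y0_sq, mat_mul, ← mat_one_zero]
  congr 1
  · field_simp
    ring
  · field_simp
    ring

theorem y0_ne_one (hp : 3 < p) : (y0 hp : SS p) ≠ 1 := by
  have h2 := _root_.Cfsg.Agent.H892.GLTorus.two_ne_zero' hp
  intro h
  have h1 : (y0 hp) 1 0 = (1 : SS p) 1 0 := by
    rw [h]
  have h5 : (1 / 2 : ZMod p) = 0 := h1
  rw [div_eq_zero_iff] at h5
  exact h5.elim one_ne_zero h2

theorem exists_cube (h3 : p % 3 = 2) (c : (ZMod p)ˣ) : ∃ z : (ZMod p)ˣ, z ^ 3 = c := by
  have hp2 := (Fact.out : p.Prime).two_le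
  have h1 : c ^ (p - 1) = 1 := ZMod.units_pow_card_sub_one_eq_one p c
  refine ⟨c ^ ((2 * p - 1) / 3), ?_⟩
  rw [← pow_mul]
  have h2 : (2 * p - 1) / 3 * 3 = (p - 1) * 2 + 1 := by omega
  rw [h2, pow_succ, pow_mul, h1, one_pow, one_mul]

/-- The elements of order dividing three in the torus. -/
theorem tor_pow_three (hp : 3 < p) (h3 : p % 3 = 2) {t : GG p} (ht : t ∈ Tor hp) (ht3 : t ^ 3 = 1) :
    ∃ i : ℕ, t = (SpecialLinearGroup.toGL (y0 hp)) ^ i := by
  have h2 := _root_.Cfsg.Agent.H892.GLTorus.two_ne_zero' hp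
  have h3' := _root_.Cfsg.Agent.H892.GLTorus.three_ne_zero' hp
  have hm := coe_eq_mat hp ht
  set a := t 0 0 with ha
  set b := t 1 0 with hb
  have h4 : (t : Matrix (Fin 2) (Fin 2) (ZMod p)) * t * t = 1 := by
    have := congrArg (fun x : GG p => (x : Matrix (Fin 2) (Fin 2) (ZMod p))) ht3
    simp only [Units.val_pow_eq_pow_val, Units.val_one] at this
    rw [← this, pow_succ, pow_two]
  rw [hm, mat_mul, mat_mul, ← mat_one_zero] at h4
  have e0 := congrFun (congrFun h4 0) 0
  have e1 := congrFun (congrFun h4 1) 0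
  simp only [mat, _root_.neg_mul, _root_.Fin.isValue, _root_.Matrix.of_apply, _root_.Matrix.cons_val', _root_.Matrix.cons_val_zero, _root_.Matrix.cons_val_fin_one, _root_.MulZeroClass.mul_zero, _root_.Matrix.cons_val_one] at e0 e1
  have e2 : b * (a - b) * (a + b) = 0 := by
    have : 3 * (b * (a - b) * (a + b)) = 0 := by linear_combination e1
    exact (mul_eq_zero.1 this).resolve_left h3'
  rcases mul_eq_zero.1 e2 with e3 | e3
  · rcases mul_eq_zero.1 e3 with e4 | e4
    · refine ⟨0, ?_⟩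
      rw [pow_zero]
      apply Units.ext
      rw [hm, e4, Units.val_one, ← mat_one_zero]
      congr 1
      apply eq_one_of_pow_three h3
      rw [e4] at e0
      linear_combination e0
    · refine ⟨2, ?_⟩
      have hab : a = b := sub_eq_zero.1 e4
      have h5 : (-2 * a) ^ 3 = 1 := by
        rw [← hab] at e0
        linear_combination e0
      have h6 := eq_one_of_pow_three h3 h5
      have h7 : a = -1 / 2 := by
        rw [eq_div_iff h2]
        linear_combination -h6
      rw [pow_two, ← map_mul]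
      apply Units.ext
      change (t : Matrix (Fin 2) (Fin 2) (ZMod p)) = ((y0 hp * y0 hp : SS p) : Matrix (Fin 2) (Fin 2) (ZMod p))
      rw [hm, y0_sq, ← hab, h7]
  · refine ⟨1, ?_⟩
    have hab : b = -a := by linear_combination e3
    have h5 : (-2 * a) ^ 3 = 1 := by
      rw [hab] at e0
      linear_combination e0
    have h6 := eq_one_of_pow_three h3 h5
    have h7 : a = -1 / 2 := by
      rw [eq_div_iff h2]
      linear_combination -h6
    rw [pow_one]
    apply Units.ext
    change (t : Matrix (Fin 2) (Fin 2) (ZMod p)) = ((y0 hp : SS p) : Matrix (Fin 2) (Fin 2) (ZMod p))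
    rw [hm, coe_y0, hab, h7]
    congr 1
    ring

theorem y0_mem_Tor (hp : 3 < p) : SpecialLinearGroup.toGL (y0 hp) ∈ Tor hp := by
  rw [mem_Tor]
  exact ⟨rfl, rfl⟩

section rep

variable {K U : Type*} [Field K] [AddCommGroup U] [Module K U] [FiniteDimensional K U]

theorem irr_bound [IsAlgClosed K] (hp : 3 < p) (h3 : p % 3 = 2) (ρ : Representation K (GG p) U)
    (hirr : Irr ρ) [Nontrivial U] :
    finrank K U ≤ fx (ρ (SpecialLinearGroup.toGL (y0 hp))) + 2 * ((p + 1) / 3) := by
  set y := SpecialLinearGroup.toGL (y0 hp) with hy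
  have hy3 : y ^ 3 = 1 := by rw [hy, ← map_pow, y0_pow_three, map_one]
  obtain ⟨⟨θ, hθT⟩, hθ⟩ := (tor_isCyclic hp h3).exists_generator
  have hpow : ∀ t ∈ Tor hp, ∃ k : ℕ, t = θ ^ k := by
    intro t ht
    have h1 := hθ ⟨t, ht⟩
    rw [← mem_powers_iff_mem_zpowers] at h1
    obtain ⟨k, hk⟩ := h1
    exact ⟨k, (congrArg Subtype.val hk).symm⟩
  have hdim : ∀ μ : K, finrank K (LinearMap.ker (ρ θ - μ • (1 : Module.End K U))) ≤ 1 := by
    intro μ
    apply finrank_eigenspace_le_one ρ hirr (_root_.Cfsg.Agent.H892.GLTorus.star hp) (star_mul hp) (star_surjective hp) θ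
    intro g
    obtain ⟨t, ht, htg⟩ := exists_star hp h3 g
    obtain ⟨k, hk⟩ := hpow t ht
    exact ⟨k, by rw [← hk]; exact htg⟩
  set n := (p + 1) / 3 with hn
  have hn0 : 0 < n := by omega
  have hn3 : n * 3 = p + 1 := by omega
  obtain ⟨c, hc⟩ := tor_pow hp h3 hθT
  obtain ⟨z, hz⟩ := exists_cube h3 c
  have hscal : ∀ k : ℕ, (scal z : GG p) ^ k = scal (z ^ k) := fun k => by
    rw [scal, scal, map_pow]
  have hcomm : ∀ g : GG p, Commute (scal z)⁻¹ g := fun g => by
    have : Commute (scal z) g := scal_comm z g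
    exact this.inv_left
  obtain ⟨i, hi⟩ := tor_pow_three hp h3 (t := (scal z)⁻¹ * θ ^ n) (by
      apply mul_mem
      · apply inv_mem
        rw [Tor, Subgroup.mem_centralizer_singleton_iff]
        exact scal_comm z _
      · exact pow_mem hθT n) (by
      rw [(hcomm _).mul_pow, ← pow_mul, hn3, inv_pow, hscal, hz, hc, inv_mul_cancel])
  have hφ : θ ^ n = scal z * y ^ i := by
    rw [← hi, mul_inv_cancel_left]
  obtain ⟨lam, hlam⟩ := schur ρ hirr (ρ (scal z)) (by
    intro g v
    rw [← Module.End.mul_apply, ← map_mul, scal_comm, map_mul, Module.End.mul_apply])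
  have hE : ∀ μ : K, finrank K (LinearMap.ker (ρ y - μ • (1 : Module.End K U))) ≤ n := by
    intro μ
    have h1 := finrank_ker_aeval_le (ρ θ) hdim n (Polynomial.X ^ n - Polynomial.C (lam * μ ^ i))
      (Polynomial.X_pow_sub_C_ne_zero hn0 _) (Polynomial.natDegree_X_pow_sub_C)
    refine le_trans (Submodule.finrank_mono ?_) h1
    intro v hv
    have hv' : ρ y v = μ • v := by
      rw [LinearMap.mem_ker, LinearMap.sub_apply, LinearMap.smul_apply, Module.End.one_apply, sub_eq_zero] at hv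
      exact hv
    have hk : ∀ k : ℕ, ρ (y ^ k) v = μ ^ k • v := by
      intro k
      induction k with
      | zero => simp only [_root_.pow_zero, _root_.map_one, _root_.Module.End.one_apply, _root_.one_smul]
      | succ k ih =>
        rw [pow_succ, map_mul, Module.End.mul_apply, hv', map_smul, ih, smul_smul, pow_succ, mul_comm]
    rw [LinearMap.mem_ker, map_sub, map_pow, Polynomial.aeval_X, Polynomial.aeval_C,
      Algebra.algebraMap_eq_smul_one, LinearMap.sub_apply, LinearMap.smul_apply, Module.End.one_apply,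
      ← map_pow, hφ, map_mul, Module.End.mul_apply, hk, hlam, smul_smul, sub_self]
  obtain ⟨ω, hω⟩ := ThreeConf.exists_omega K
  have hprod : (ρ y - (ω ^ 2) • (1 : Module.End K U)) ∘ₗ ((ρ y - ω • (1 : Module.End K U)) ∘ₗ (ρ y - 1)) = 0 := by
    have hf3 : ρ y * (ρ y * ρ y) = 1 := by
      rw [← map_mul, ← map_mul, ← pow_three, hy3, map_one]
    have h1 : (ρ y - (ω ^ 2) • (1 : Module.End K U)) * ((ρ y - ω • (1 : Module.End K U)) * (ρ y - 1)) = 0 := by
      simp only [sub_mul, mul_sub, smul_mul_assoc, mul_smul_comm, one_mul, mul_one]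
      rw [hf3]
      have h3 : ω * ω ^ 2 = 1 := by linear_combination (ω - 1) * hω
      have e3 : ω ^ 2 = -1 - ω := by linear_combination hω
      simp only [smul_sub, smul_smul, h3]
      rw [e3]
      module
    exact h1
  have h1 := finrank_ker_comp_le (ρ y - (ω ^ 2) • (1 : Module.End K U))
    ((ρ y - ω • (1 : Module.End K U)) ∘ₗ (ρ y - 1))
  have h2 := finrank_ker_comp_le (ρ y - ω • (1 : Module.End K U)) (ρ y - 1)
  rw [hprod, LinearMap.ker_zero, finrank_top] at h1
  have h4 := hE ω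
  have h5 := hE (ω ^ 2)
  unfold fx
  omega

/-- diagonal elements -/
noncomputable def dd (c : (ZMod p)ˣ) : GG p where
  val := !![(c : ZMod p), 0; 0, 1]
  inv := !![((c⁻¹ : (ZMod p)ˣ) : ZMod p), 0; 0, 1]
  val_inv := by
    rw [Matrix.mul_fin_two, Matrix.one_fin_two, Units.mul_inv]
    simp only [mul_zero, zero_mul, add_zero, mul_one, zero_add]
  inv_val := by
    rw [Matrix.mul_fin_two, Matrix.one_fin_two, Units.inv_mul]
    simp only [mul_zero, zero_mul, add_zero, mul_one, zero_add]

theorem coe_dd (c : (ZMod p)ˣ) : ((dd c : GG p) : Matrix (Fin 2) (Fin 2) (ZMod p)) = !![(c : ZMod p), 0; 0, 1] := rfl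

theorem coe_dd_inv (c : (ZMod p)ˣ) : (((dd c)⁻¹ : GG p) : Matrix (Fin 2) (Fin 2) (ZMod p)) =
    !![((c⁻¹ : (ZMod p)ˣ) : ZMod p), 0; 0, 1] := rfl

theorem up_pow (b : ZMod p) (k : ℕ) : (up b : SS p) ^ k = up (k * b) := by
  induction k with
  | zero => simp [up_zero]
  | succ k ih =>
    rw [pow_succ, ih, ← up_add]
    congr 1
    push_cast
    ring

theorem dd_conj_up (c : (ZMod p)ˣ) : dd c * SpecialLinearGroup.toGL (up 1) * (dd c)⁻¹ =
    (SpecialLinearGroup.toGL (up 1) : GG p) ^ (c : ZMod p).val := by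
  rw [← map_pow, up_pow, ZMod.natCast_zmod_val, mul_one, mul_inv_eq_iff_eq_mul]
  apply Units.ext
  rw [Units.val_mul, Units.val_mul, coe_dd]
  ext i j
  (revert i j; simp only [Matrix.mul_apply, Fin.sum_univ_two, _root_.Fin.forall_fin_succ, _root_.Matrix.SpecialLinearGroup.coe_GL_coe_matrix, _root_.Matrix.of_apply, _root_.Matrix.cons_val', _root_.Matrix.cons_val_fin_one, Fin.isValue, _root_.Matrix.cons_val_zero, _root_.Matrix.cons_val_one, _root_.Cfsg.Agent.ClassicalGeometry.SplitTorus.up00, _root_.mul_one, _root_.Cfsg.Agent.ClassicalGeometry.SplitTorus.up10, _root_.MulZeroClass.mul_zero, _root_.add_zero, _root_.Matrix.cons_val_succ, _root_.zero_add, _root_.Fin.succ_zero_eq_one, _root_.Cfsg.Agent.ClassicalGeometry.SplitTorus.up01, _root_.Cfsg.Agent.ClassicalGeometry.SplitTorus.up11, _root_.IsEmpty.forall_iff, _root_.and_true, _root_.one_mul, _root_.and_self, _root_.zero_eq_mul, _root_.Units.ne_zero, _root_.or_false])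

theorem toGL_up_pow : (SpecialLinearGroup.toGL (up (1 : ZMod p)) : GG p) ^ p = 1 := by
  rw [← map_pow, up_pow, CharP.cast_eq_zero, zero_mul, up_zero, map_one]

theorem big_of_ne_one [IsAlgClosed K] (hK : (p : K) ≠ 0) (ρ : Representation K (GG p) U)
    (h : ρ (SpecialLinearGroup.toGL (up 1)) ≠ 1) : p - 1 ≤ finrank K U := by
  set u := ρ (SpecialLinearGroup.toGL (up 1)) with hu
  have hup : u ^ p = 1 := by rw [hu, ← map_pow, toGL_up_pow, map_one]
  set W := LinearMap.range (u - 1) with hW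
  have hWne : W ≠ ⊥ := by
    intro h1
    rw [hW, LinearMap.range_eq_bot, sub_eq_zero] at h1
    exact h h1
  have hWinv : ∀ w ∈ W, u w ∈ W := by
    rintro _ ⟨v, rfl⟩
    refine ⟨u v, ?_⟩
    simp only [_root_.LinearMap.sub_apply, _root_.Module.End.one_apply, _root_.map_sub]
  have hWnt : Nontrivial W := Submodule.nontrivial_iff_ne_bot.2 hWne
  obtain ⟨ζ, hζ⟩ := Module.End.exists_eigenvalue (u.restrict hWinv)
  obtain ⟨⟨v, hvW⟩, hv⟩ := hζ.exists_hasEigenvector
  have hv0 : v ≠ 0 := by
    intro h1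
    apply hv.2
    exact Subtype.ext h1
  have huv : u v = ζ • v := by
    have := hv.apply_eq_smul
    exact congrArg Subtype.val this
  have hkv : ∀ k : ℕ, (u ^ k) v = ζ ^ k • v := by
    intro k
    induction k with
    | zero => simp
    | succ k ih => rw [pow_succ, Module.End.mul_apply, huv, map_smul, ih, smul_smul, pow_succ, mul_comm]
  have hζp : ζ ^ p = 1 := by
    have h1 := hkv p
    rw [hup, Module.End.one_apply] at h1
    have h2 : (ζ ^ p - 1) • v = 0 := by rw [sub_smul, one_smul, ← h1, sub_self]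
    exact sub_eq_zero.1 ((smul_eq_zero.1 h2).resolve_right hv0)
  have hζ1 : ζ ≠ 1 := by
    rintro rfl
    obtain ⟨w, hw⟩ := hvW
    have h1 : (∑ k ∈ Finset.range p, u ^ k) v = 0 := by
      rw [← hw, ← Module.End.mul_apply, geom_sum_mul, hup, sub_self, LinearMap.zero_apply]
    rw [LinearMap.sum_apply] at h1
    simp only [hkv, one_pow, one_smul, Finset.sum_const, Finset.card_range] at h1
    rw [← Nat.cast_smul_eq_nsmul K] at h1
    exact hv0 ((smul_eq_zero.1 h1).resolve_left hK)
  have hprim : IsPrimitiveRoot ζ p := by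
    rw [← orderOf_eq_prime hζp hζ1]
    exact IsPrimitiveRoot.orderOf ζ
  -- the eigenvectors
  have hvec : ∀ c : (ZMod p)ˣ, Module.End.HasEigenvector u (ζ ^ (c : ZMod p).val) (ρ (dd c)⁻¹ v) := by
    intro c
    rw [Module.End.hasEigenvector_iff, Module.End.mem_eigenspace_iff]
    constructor
    · have h1 : u (ρ (dd c)⁻¹ v) = ρ (dd c)⁻¹ ((u ^ (c : ZMod p).val) v) := by
        rw [hu, ← map_pow, ← Module.End.mul_apply, ← Module.End.mul_apply, ← map_mul, ← map_mul, ← dd_conj_up]
        congr 2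
        group
      rw [h1, hkv, map_smul]
    · intro h1
      apply hv0
      have h2 : ρ (dd c) (ρ (dd c)⁻¹ v) = v := by
        rw [← Module.End.mul_apply, ← map_mul, mul_inv_cancel, map_one, Module.End.one_apply]
      rw [h1, map_zero] at h2
      exact h2.symm
  have hinj : Function.Injective (fun c : (ZMod p)ˣ => ζ ^ (c : ZMod p).val) := by
    intro c d hcd
    have := hprim.pow_inj (ZMod.val_lt _) (ZMod.val_lt _) hcd
    exact Units.ext (ZMod.val_injective p this)
  have hli := Module.End.eigenvectors_linearIndependent' u _ hinj _ hvec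
  have := hli.fintype_card_le_finrank
  rwa [ZMod.card_units] at this

omit [FiniteDimensional K U] in
theorem y0_of_eq_one (ρ : Representation K (SS p) U) (h : ρ (up 1) = 1) (g : SS p) : ρ g = 1 := by
  have h1 : ∀ b : ZMod p, ρ (up b) = 1 := by
    intro b
    have : up b = (up 1 : SS p) ^ b.val := by
      rw [up_pow, ZMod.natCast_zmod_val, mul_one]
    rw [this, map_pow, h, one_pow]
  have h2 : ∀ b : ZMod p, ρ (lo b) = 1 := by
    intro b
    rw [← wl_mul_up, map_mul, map_mul, h1, mul_one, ← map_mul, mul_inv_cancel, map_one]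
  have h3 := mem_of_up_lo (MonoidHom.ker ρ) (fun b => MonoidHom.mem_ker.2 (h1 b)) (fun b => MonoidHom.mem_ker.2 (h2 b)) g
  exact MonoidHom.mem_ker.1 h3

end rep

universe u v

theorem gl_bound {K : Type u} [Field K] [IsAlgClosed K] (hp : 11 ≤ p) (h3 : p % 3 = 2) (hK : (p : K) ≠ 0)
    (hK3 : (3 : K) ≠ 0) (n : ℕ) : ∀ (U : Type v) [AddCommGroup U] [Module K U] [FiniteDimensional K U]
    (ρ : Representation K (GG p) U), finrank K U = n →
    finrank K U ≤ 6 * fx (ρ (SpecialLinearGroup.toGL (y0 (by omega)))) := by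
  have hp3 : 3 < p := by omega
  induction n using Nat.strong_induction_on with
  | _ n ih =>
    intro U _ _ _ ρ hn
    by_cases hirr : Irr ρ
    · rcases subsingleton_or_nontrivial U with hU | hU
      · rw [Module.finrank_zero_of_subsingleton]
        exact Nat.zero_le _
      · by_cases h1 : ρ (SpecialLinearGroup.toGL (up 1)) = 1
        · have h2 := y0_of_eq_one (ρ.comp SpecialLinearGroup.toGL) h1 (y0 hp3)
          have h4 : ρ (SpecialLinearGroup.toGL (y0 hp3)) = 1 := h2
          rw [h4, fx_one]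
          omega
        · have h2 := big_of_ne_one hK ρ h1
          have h4 := irr_bound hp3 h3 ρ hirr
          omega
    · unfold Irr at hirr
      push Not at hirr
      obtain ⟨W, hW, hW1, hW2⟩ := hirr
      have h1 := fx_add (n := 3) (by exact_mod_cast hK3) (ρ (SpecialLinearGroup.toGL (y0 hp3)))
        (by rw [← map_pow, ← map_pow, y0_pow_three, map_one, map_one]) W (hW _)
      have h2 := Submodule.finrank_quotient_add_finrank W
      have h4 : 0 < finrank K W := by
        rw [Module.finrank_pos_iff]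
        exact Submodule.nontrivial_iff_ne_bot.2 hW1
      have h5 : finrank K W < finrank K U := Submodule.finrank_lt hW2
      have h6 := ih (finrank K W) (by omega) W (ρ.subrepresentation W hW) rfl
      have h7 := ih (finrank K (U ⧸ W)) (by omega) (U ⧸ W) (ρ.quotient W hW) rfl
      have h8 : (ρ.subrepresentation W hW) (SpecialLinearGroup.toGL (y0 hp3)) =
        (ρ (SpecialLinearGroup.toGL (y0 hp3))).restrict (hW _) := rfl
      have h9 : (ρ.quotient W hW) (SpecialLinearGroup.toGL (y0 hp3)) =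
        W.mapQ W (ρ (SpecialLinearGroup.toGL (y0 hp3))) (hW _) := rfl
      rw [h8] at h6
      rw [h9] at h7
      omega

/-! ### Induction from `SL₂(p)` to `GL₂(p)` -/

theorem det_dd (c : (ZMod p)ˣ) : GeneralLinearGroup.det (dd c : GG p) = c := by
  apply Units.ext
  change ((dd c : GG p) : Matrix (Fin 2) (Fin 2) (ZMod p)).det = _
  rw [coe_dd, det_fin_two_of]
  ring

theorem exists_sl {g : GG p} (h : GeneralLinearGroup.det g = 1) : ∃ s : SS p, SpecialLinearGroup.toGL s = g :=
  ⟨⟨g, congrArg Units.val h⟩, Units.ext rfl⟩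

theorem toGL_inj {a b : SS p} (h : (SpecialLinearGroup.toGL a : GG p) = SpecialLinearGroup.toGL b) : a = b := by
  apply Subtype.ext
  exact congrArg (fun x : GG p => (x : Matrix (Fin 2) (Fin 2) (ZMod p))) h

theorem det_coc (g : GG p) (c : (ZMod p)ˣ) :
    GeneralLinearGroup.det ((dd c)⁻¹ * g * dd ((GeneralLinearGroup.det g)⁻¹ * c)) = 1 := by
  rw [map_mul, map_mul, map_inv, det_dd, det_dd]
  group

/-- the cocycle -/
noncomputable def coc (g : GG p) (c : (ZMod p)ˣ) : SS p := (exists_sl (det_coc g c)).choose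

theorem toGL_coc (g : GG p) (c : (ZMod p)ˣ) :
    SpecialLinearGroup.toGL (coc g c) = (dd c)⁻¹ * g * dd ((GeneralLinearGroup.det g)⁻¹ * c) :=
  (exists_sl (det_coc g c)).choose_spec

theorem coc_mul (g h : GG p) (c : (ZMod p)ˣ) :
    coc (g * h) c = coc g c * coc h ((GeneralLinearGroup.det g)⁻¹ * c) := by
  apply toGL_inj
  rw [map_mul, toGL_coc, toGL_coc, toGL_coc, map_mul, _root_.mul_inv_rev, mul_assoc (GeneralLinearGroup.det h)⁻¹]
  group

theorem coc_one (c : (ZMod p)ˣ) : coc (1 : GG p) c = 1 := by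
  apply toGL_inj
  rw [toGL_coc, map_one, map_one, inv_one, one_mul, mul_one, inv_mul_cancel]

/-- The induced representation. -/
noncomputable def indRep {K U : Type*} [Field K] [AddCommGroup U] [Module K U] (ρ : Representation K (SS p) U) :
    Representation K (GG p) ((ZMod p)ˣ → U) where
  toFun g :=
    { toFun := fun f c => ρ (coc g c) (f ((GeneralLinearGroup.det g)⁻¹ * c))
      map_add' := fun f f' => by
        funext c
        simp only [Pi.add_apply, map_add]
      map_smul' := fun a f => by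
        funext c
        simp only [Pi.smul_apply, map_smul, RingHom.id_apply] }
  map_one' := by
    ext f c
    simp only [coc_one, _root_.map_one, _root_.inv_one, _root_.one_mul, _root_.Module.End.one_apply, _root_.LinearMap.coe_comp, _root_.LinearMap.coe_mk, _root_.AddHom.coe_mk, _root_.LinearMap.coe_single, _root_.Function.comp_apply]
  map_mul' g h := by
    apply LinearMap.ext
    intro f
    funext c
    change ρ (coc (g * h) c) (f ((GeneralLinearGroup.det (g * h))⁻¹ * c)) =
      ρ (coc g c) (ρ (coc h ((GeneralLinearGroup.det g)⁻¹ * c))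
        (f ((GeneralLinearGroup.det h)⁻¹ * ((GeneralLinearGroup.det g)⁻¹ * c))))
    rw [coc_mul, map_mul, Module.End.mul_apply, map_mul, _root_.mul_inv_rev, mul_assoc]

theorem indRep_apply {K U : Type*} [Field K] [AddCommGroup U] [Module K U] (ρ : Representation K (SS p) U)
    (g : GG p) (f : (ZMod p)ˣ → U) (c : (ZMod p)ˣ) :
    indRep ρ g f c = ρ (coc g c) (f ((GeneralLinearGroup.det g)⁻¹ * c)) := rfl

/-- `coc y₀ c` is conjugate to `y₀`. -/
theorem exists_conj_coc (hp : 3 < p) (h3 : p % 3 = 2) (c : (ZMod p)ˣ) :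
    ∃ s : SS p, coc (SpecialLinearGroup.toGL (y0 hp)) c = s * y0 hp * s⁻¹ := by
  obtain ⟨t, ht, htc⟩ := exists_det hp h3 c
  have hdet : GeneralLinearGroup.det ((dd c)⁻¹ * t) = 1 := by
    rw [map_mul, map_inv, det_dd]
    have : GeneralLinearGroup.det t = c := Units.ext htc
    rw [this, inv_mul_cancel]
  obtain ⟨s, hs⟩ := exists_sl hdet
  refine ⟨s, ?_⟩
  apply toGL_inj
  have h1 : GeneralLinearGroup.det (SpecialLinearGroup.toGL (y0 hp) : GG p) = 1 := by
    apply Units.ext
    exact (y0 hp).2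
  have h2 : t * SpecialLinearGroup.toGL (y0 hp) = SpecialLinearGroup.toGL (y0 hp) * t := by
    have := tor_isCyclic hp h3
    have hc : IsMulCommutative (Tor hp (p := p)) := IsCyclic.isMulCommutative
    exact congrArg Subtype.val (hc.is_comm.comm ⟨t, ht⟩ ⟨_, y0_mem_Tor hp⟩)
  rw [toGL_coc, map_mul, map_mul, map_inv, hs, h1, inv_one, one_mul, _root_.mul_inv_rev, inv_inv]
  calc (dd c)⁻¹ * SpecialLinearGroup.toGL (y0 hp) * dd c
      = (dd c)⁻¹ * (SpecialLinearGroup.toGL (y0 hp) * t) * (t⁻¹ * dd c) := by group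
    _ = (dd c)⁻¹ * t * SpecialLinearGroup.toGL (y0 hp) * (t⁻¹ * dd c) := by rw [← h2]; group

/-- **The coprime case.** -/
theorem coprime_case {K : Type u} {U : Type v} [Field K] [IsAlgClosed K] [AddCommGroup U] [Module K U]
    [FiniteDimensional K U] (hp : 11 ≤ p) (h3 : p % 3 = 2) (hK : (p : K) ≠ 0) (ρ : Representation K (SS p) U) :
    finrank K U ≤ 6 * fx (ρ (y0 (by omega))) := by
  have hp3 : 3 < p := by omega
  by_cases hK3 : (3 : K) = 0
  · have : CharP K 3 := by
      have h1 : ((3 : ℕ) : K) = 0 := by exact_mod_cast hK3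
      exact (CharP.charP_iff_prime_eq_zero (by norm_num)).2 h1
    have : Fact (Nat.Prime 3) := ⟨by norm_num⟩
    have h1 := finrank_le_mul_fx (p := 3) (f := ρ (y0 hp3)) (by rw [← map_pow, y0_pow_three, map_one])
    omega
  · have h1 := gl_bound hp h3 hK hK3 _ ((ZMod p)ˣ → U) (indRep ρ) rfl
    have hdet : GeneralLinearGroup.det (SpecialLinearGroup.toGL (y0 hp3) : GG p) = 1 := by
      apply Units.ext
      exact (y0 hp3).2
    have h2 : fx (indRep ρ (SpecialLinearGroup.toGL (y0 hp3))) ≤ (p - 1) * fx (ρ (y0 hp3)) := by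
      let F : LinearMap.ker (indRep ρ (SpecialLinearGroup.toGL (y0 hp3)) - 1) →ₗ[K]
          ((c : (ZMod p)ˣ) → LinearMap.ker (ρ (coc (SpecialLinearGroup.toGL (y0 hp3)) c) - 1)) :=
        { toFun := fun f c => ⟨f.1 c, by
            have h4 := mem_ker_sub_one.1 f.2
            rw [mem_ker_sub_one]
            have h5 := congrFun h4 c
            rw [indRep_apply, hdet, inv_one, one_mul] at h5
            exact h5⟩
          map_add' := fun f f' => rfl
          map_smul' := fun a f => rfl }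
      have hF : Function.Injective F := by
        intro f f' hff
        apply Subtype.ext
        funext c
        exact congrArg Subtype.val (congrFun hff c)
      have h4 := LinearMap.finrank_le_finrank_of_injective hF
      rw [Module.finrank_pi_fintype] at h4
      have h5 : ∀ c : (ZMod p)ˣ, finrank K (LinearMap.ker (ρ (coc (SpecialLinearGroup.toGL (y0 hp3)) c) - 1)) =
          fx (ρ (y0 hp3)) := by
        intro c
        obtain ⟨s, hs⟩ := exists_conj_coc hp3 h3 c
        rw [hs, map_mul, map_mul]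
        have := fx_conj (ρ (y0 hp3)) (ρ s) (ρ s⁻¹) (by rw [← map_mul, mul_inv_cancel, map_one])
          (by rw [← map_mul, inv_mul_cancel, map_one])
        exact this
      simp only [h5, Finset.sum_const, Finset.card_univ, ZMod.card_units, smul_eq_mul] at h4
      exact h4
    rw [Module.finrank_pi_fintype] at h1
    simp only [Finset.sum_const, Finset.card_univ, ZMod.card_units, smul_eq_mul] at h1
    have h6 : (p - 1) * finrank K U ≤ (p - 1) * (6 * fx (ρ (y0 hp3))) := by
      calc _ ≤ _ := h1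
        _ ≤ 6 * ((p - 1) * fx (ρ (y0 hp3))) := Nat.mul_le_mul_left _ h2
        _ = _ := by ring
    exact Nat.le_of_mul_le_mul_left h6 (by omega)

end Cfsg.Agent.H892.CoprimeChar
end

-- part: H892/RowQuot
section
/-!
# Invariant functionals of modules for `SL₂(p)` in characteristic `p`

A functional that is invariant under the upper unipotent group and is multiplied by the `-c`-th power under the split
torus gives a map to homogeneous functions of degree `c` on row vectors.
-/

set_option autoImplicit false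

namespace Cfsg.Agent.H892.RowQuot

open Module Matrix Cfsg.Agent.H892.FixDim Cfsg.Agent.H892.CoprimeChar
open Cfsg.Agent.ClassicalGeometry.SplitTorus

variable {p : ℕ} [Fact p.Prime]

/-- the matrix with second row `(1, b)` -/
def gam (b : ZMod p) : SS p := ⟨!![0, -1; 1, b], by rw [det_fin_two_of]; ring⟩

@[simp] theorem gam00 (b : ZMod p) : (gam b) 0 0 = 0 := rfl
@[simp] theorem gam01 (b : ZMod p) : (gam b) 0 1 = -1 := rfl
@[simp] theorem gam10 (b : ZMod p) : (gam b) 1 0 = 1 := rfl
@[simp] theorem gam11 (b : ZMod p) : (gam b) 1 1 = b := rfl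

theorem gam_mul_up (b t : ZMod p) : gam b * up t = gam (b + t) := by
  apply ext2
  · rw [mul00]; simp
  · rw [mul01]; simp
  · rw [mul10]; simp
  · rw [mul11]; simp [add_comm]

/-- elements with the same second row differ by an upper transvection -/
theorem exists_up {g h : SS p} (h10 : g 1 0 = h 1 0) (h11 : g 1 1 = h 1 1) : ∃ z, g = up z * h := by
  have hg := det_eq g
  have hh := det_eq h
  refine ⟨g 0 1 * h 0 0 - g 0 0 * h 0 1, ?_⟩
  apply ext2
  · rw [mul00, up00, up01]
    rw [h10, h11] at hg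
    linear_combination (h 0 0) * hg - (g 0 0) * hh
  · rw [mul01, up00, up01]
    rw [h10, h11] at hg
    linear_combination (h 0 1) * hg - (g 0 1) * hh
  · rw [mul10, up10, up11, h10]
    ring
  · rw [mul11, up10, up11, h11]
    ring

variable {K V : Type*} [Field K] [AddCommGroup V] [Module K V]

/-- A functional invariant under the upper unipotent group and of weight `-c`. -/
structure IsRow (a : ZMod p →+* K) (ρ : Representation K (SS p) V) (l : Module.Dual K V) (c : ℕ) : Prop where
  up_inv : ∀ b v, l (ρ (up b) v) = l v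
  dg_act : ∀ (t : (ZMod p)ˣ) v, l (ρ (dg t)⁻¹ v) = a t ^ c * l v

variable {a : ZMod p →+* K} {ρ : Representation K (SS p) V} {l : Module.Dual K V} {c : ℕ}

theorem IsRow.congr (h : IsRow a ρ l c) {g g' : SS p} (h10 : g 1 0 = g' 1 0) (h11 : g 1 1 = g' 1 1) (v : V) :
    l (ρ g v) = l (ρ g' v) := by
  obtain ⟨z, rfl⟩ := exists_up h10 h11
  rw [map_mul, Module.End.mul_apply, h.up_inv]

theorem IsRow.eval_smul (h : IsRow a ρ l c) {g g' : SS p} (t : (ZMod p)ˣ) (h10 : g 1 0 = t * g' 1 0)
    (h11 : g 1 1 = t * g' 1 1) (v : V) : l (ρ g v) = a t ^ c * l (ρ g' v) := by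
  rw [← h.dg_act, ← Module.End.mul_apply, ← map_mul, ← dg_inv]
  apply h.congr
  · rw [mul10, h10]
    simp
  · rw [mul11, h11]
    simp

theorem IsRow.eval_of_ne (h : IsRow a ρ l c) (g : SS p) (hx : g 1 0 ≠ 0) (v : V) :
    l (ρ g v) = a (g 1 0) ^ c * l (ρ (gam (g 1 1 / g 1 0)) v) := by
  have := h.eval_smul (g := g) (g' := gam (g 1 1 / g 1 0)) (Units.mk0 _ hx) (by simp) (by
    rw [gam11, Units.val_mk0]
    field_simp) v
  exact this

theorem IsRow.eval_of_eq (h : IsRow a ρ l c) (g : SS p) (hx : g 1 0 = 0) (v : V) :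
    l (ρ g v) = a (g 1 1) ^ c * l v := by
  have hg := det_eq g
  have hy : g 1 1 ≠ 0 := by
    intro h0
    rw [h0, hx] at hg
    simp at hg
  have := h.eval_smul (g := g) (g' := 1) (Units.mk0 _ hy) (by
    rw [hx]
    change _ = _ * (1 : Matrix (Fin 2) (Fin 2) (ZMod p)) 1 0
    simp) (by
    change _ = _ * (1 : Matrix (Fin 2) (Fin 2) (ZMod p)) 1 1
    simp) v
  rw [map_one, Module.End.one_apply] at this
  exact this

theorem sum_eq_units {M : Type*} [AddCommMonoid M] (f : ZMod p → M) : ∑ b, f b = f 0 + ∑ u : (ZMod p)ˣ, f u := by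
  classical
  rw [Fintype.sum_eq_add_sum_subtype_ne f 0]
  congr 1
  exact (Fintype.sum_equiv unitsEquivNeZero _ _ fun u => rfl).symm

/-- the auxiliary matrix -/
def gal (α : ZMod p) : SS p := ⟨!![0, 1; -1, α], by rw [det_fin_two_of]; ring⟩

@[simp] theorem gal00 (b : ZMod p) : (gal b) 0 0 = 0 := rfl
@[simp] theorem gal01 (b : ZMod p) : (gal b) 0 1 = 1 := rfl
@[simp] theorem gal10 (b : ZMod p) : (gal b) 1 0 = -1 := rfl
@[simp] theorem gal11 (b : ZMod p) : (gal b) 1 1 = b := rfl

theorem IsRow.sum_gal (h : IsRow a ρ l c) (hc : c < p - 1) (hS : ∀ v, ∑ b, l (ρ (gam b) v) = 0) (α : ZMod p) (v : V) :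
    l v + ∑ b, (a (b + α)) ^ (p - 1 - c) * l (ρ (gam b) v) = 0 := by
  have h1 := hS (ρ (gal α) v)
  have h2 : ∀ b, l (ρ (gam b) (ρ (gal α) v)) = l (ρ (gam b * gal α) v) := fun b => by
    rw [map_mul, Module.End.mul_apply]
  simp only [h2] at h1
  rw [sum_eq_units] at h1
  have h3 : l (ρ (gam 0 * gal α) v) = l v := by
    rw [h.eval_of_eq (gam 0 * gal α) (by rw [mul10]; simp), mul11]
    simp
  have h4 : ∀ u : (ZMod p)ˣ, l (ρ (gam (u : ZMod p) * gal α) v) =
      a (-(u : ZMod p)) ^ c * l (ρ (gam (-((u⁻¹ : (ZMod p)ˣ) : ZMod p) - α)) v) := by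
    intro u
    have hu : (u : ZMod p) ≠ 0 := u.ne_zero
    have e1 : (gam (u : ZMod p) * gal α) 1 0 = -(u : ZMod p) := by
      rw [mul10]; simp
    have e2 : (gam (u : ZMod p) * gal α) 1 1 = 1 + u * α := by
      rw [mul11]; simp
    rw [h.eval_of_ne _ (by rw [e1]; exact neg_ne_zero.2 hu), e1, e2]
    congr 5
    rw [Units.val_inv_eq_inv_val]
    field_simp
    ring
  rw [h3] at h1
  simp only [h4] at h1
  rw [← h1]
  congr 1
  have h5 : ∑ b, (a (b + α)) ^ (p - 1 - c) * l (ρ (gam b) v) =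
      ∑ b, (a b) ^ (p - 1 - c) * l (ρ (gam (b - α)) v) := by
    rw [← Equiv.sum_comp (Equiv.addRight α) (fun b => (a b) ^ (p - 1 - c) * l (ρ (gam (b - α)) v))]
    refine Finset.sum_congr rfl fun b _ => ?_
    simp
  rw [h5, sum_eq_units, map_zero, zero_pow (by omega), zero_mul, zero_add]
  refine Fintype.sum_equiv ((Equiv.inv (ZMod p)ˣ).trans (Equiv.neg (ZMod p)ˣ)) _ _ fun u => ?_
  have e3 : (((Equiv.inv (ZMod p)ˣ).trans (Equiv.neg (ZMod p)ˣ)) u) = -u⁻¹ := rfl
  rw [e3, Units.val_neg]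
  have hu : a (u : ZMod p) ≠ 0 := by
    rw [Ne, map_eq_zero]
    exact u.ne_zero
  have e4 : (-((-u⁻¹)⁻¹ : (ZMod p)ˣ) : ZMod p) = u := by
    rw [inv_neg, inv_inv, Units.val_neg, neg_neg]
  rw [e4, neg_neg]
  have e5 : (a (u : ZMod p)) ^ (p - 1) = 1 := by
    rw [← map_pow, ZMod.pow_card_sub_one_eq_one u.ne_zero, map_one]
  have e6 : a ((u⁻¹ : (ZMod p)ˣ) : ZMod p) ^ c * a (u : ZMod p) ^ c = 1 := by
    rw [← mul_pow, ← map_mul, Units.inv_mul, map_one, one_pow]
  have e7 : (a (u : ZMod p)) ^ (p - 1 - c) * a (u : ZMod p) ^ c = 1 := by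
    rw [← pow_add]
    have : p - 1 - c + c = p - 1 := by omega
    rw [this, e5]
  have e8 : (a (u : ZMod p)) ^ (p - 1 - c) = a ((u⁻¹ : (ZMod p)ˣ) : ZMod p) ^ c :=
    mul_right_cancel₀ (pow_ne_zero c hu) (e7.trans e6.symm)
  rw [e8]

theorem choose_ne_zero [CharP K p] {m k : ℕ} (hm : m < p) (hk : k ≤ m) : ((m.choose k : ℕ) : K) ≠ 0 := by
  rw [Ne, CharP.cast_eq_zero_iff K p]
  intro h
  have h1 : p ∣ m.factorial := by
    rw [← Nat.choose_mul_factorial_mul_factorial hk, mul_assoc]
    exact h.mul_right _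
  rw [(Fact.out : p.Prime).dvd_factorial] at h1
  omega

section poly

open Polynomial

theorem IsRow.poly_eq_zero [CharP K p] (h : IsRow a ρ l c) (hc : c < p - 1)
    (hS : ∀ v, ∑ b, l (ρ (gam b) v) = 0) (v : V) :
    C (l v) + ∑ b, C (l (ρ (gam b) v)) * (X + C (a b)) ^ (p - 1 - c) = 0 := by
  have hp := (Fact.out : p.Prime).two_le
  refine Polynomial.eq_zero_of_natDegree_lt_card_of_eval_eq_zero _ (f := a) a.injective ?_ ?_
  · intro α
    have h1 := h.sum_gal hc hS α v
    rw [← h1]
    simp only [eval_add, eval_C, eval_finsetSum, eval_mul, eval_pow, eval_X]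
    congr 1
    refine Finset.sum_congr rfl fun b _ => ?_
    rw [← map_add, add_comm α b, mul_comm]
  · rw [ZMod.card]
    apply lt_of_le_of_lt (b := p - 1 - c)
    · apply (natDegree_add_le _ _).trans
      rw [natDegree_C]
      apply max_le (Nat.zero_le _)
      apply natDegree_sum_le_of_forall_le
      intro b _
      apply (natDegree_C_mul_le _ _).trans
      rw [natDegree_pow, natDegree_X_add_C, mul_one]
    · omega

theorem IsRow.moment [CharP K p] (h : IsRow a ρ l c) (hc : c < p - 1)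
    (hS : ∀ v, ∑ b, l (ρ (gam b) v) = 0) (v : V) {k : ℕ} (hk : k < p - 1 - c) :
    ∑ b, a b ^ k * l (ρ (gam b) v) = 0 := by
  have h1 := congrArg (fun Q : K[X] => Q.coeff (p - 1 - c - k)) (h.poly_eq_zero hc hS v)
  simp only [coeff_add, finsetSum_coeff, coeff_C_mul, coeff_X_add_C_pow, coeff_zero] at h1
  rw [coeff_C_of_ne_zero (by omega), zero_add] at h1
  have h2 : p - 1 - c - (p - 1 - c - k) = k := by omega
  rw [h2] at h1
  have h3 := choose_ne_zero (K := K) (p := p) (m := p - 1 - c) (k := p - 1 - c - k) (by omega) (by omega)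
  apply mul_right_cancel₀ h3
  rw [zero_mul, ← h1, Finset.sum_mul]
  refine Finset.sum_congr rfl fun b _ => ?_
  ring

theorem IsRow.moment_top [CharP K p] (h : IsRow a ρ l c) (hc : c < p - 1)
    (hS : ∀ v, ∑ b, l (ρ (gam b) v) = 0) (v : V) :
    ∑ b, a b ^ (p - 1 - c) * l (ρ (gam b) v) = - l v := by
  have h1 := congrArg (fun Q : K[X] => Q.coeff 0) (h.poly_eq_zero hc hS v)
  simp only [coeff_add, finsetSum_coeff, coeff_C_mul, coeff_X_add_C_pow, coeff_zero, coeff_C_zero] at h1
  rw [eq_neg_iff_add_eq_zero, add_comm, ← h1]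
  congr 1
  refine Finset.sum_congr rfl fun b _ => ?_
  simp only [_root_.tsub_zero, _root_.Nat.choose_zero_right, _root_.Nat.cast_one, _root_.mul_one]
  ring

/-- the interpolating polynomial -/
noncomputable def AA (a : ZMod p →+* K) (ρ : Representation K (SS p) V) (l : Module.Dual K V) : V →ₗ[K] K[X] where
  toFun v := ∑ b, C (l (ρ (gam b) v)) * (1 - (X + C (a (-b))) ^ (p - 1))
  map_add' v w := by
    simp only [map_add, add_mul, Finset.sum_add_distrib]
  map_smul' r v := by
    simp only [map_smul, smul_eq_mul, C_mul, RingHom.id_apply, Finset.smul_sum, smul_eq_C_mul, mul_assoc]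

theorem AA_apply (v : V) : AA a ρ l v = ∑ b, C (l (ρ (gam b) v)) * (1 - (X + C (a (-b))) ^ (p - 1)) := rfl

theorem AA_eval (v : V) (b : ZMod p) : (AA a ρ l v).eval (a b) = l (ρ (gam b) v) := by
  have hp := (Fact.out : p.Prime).two_le
  rw [AA_apply, eval_finsetSum, Finset.sum_eq_single b]
  · simp only [eval_mul, eval_C, eval_sub, eval_one, eval_pow, eval_add, eval_X, ← map_add, add_neg_cancel, map_zero]
    rw [zero_pow (by omega), sub_zero, mul_one]
  · intro d _ hd
    simp only [eval_mul, eval_C, eval_sub, eval_one, eval_pow, eval_add, eval_X, ← map_add, ← map_pow]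
    rw [ZMod.pow_card_sub_one_eq_one, map_one, sub_self, mul_zero]
    intro h
    apply hd
    rw [← sub_eq_add_neg, sub_eq_zero] at h
    exact h.symm
  · intro h
    exact absurd (Finset.mem_univ _) h

theorem AA_natDegree_lt (v : V) : (AA a ρ l v).natDegree < p := by
  have hp := (Fact.out : p.Prime).two_le
  rw [AA_apply]
  apply lt_of_le_of_lt (b := p - 1)
  · apply natDegree_sum_le_of_forall_le
    intro b _
    apply (natDegree_C_mul_le _ _).trans
    apply (natDegree_sub_le _ _).trans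
    rw [natDegree_one, natDegree_pow, natDegree_X_add_C, mul_one]
    exact max_le (Nat.zero_le _) le_rfl
  · omega

theorem IsRow.AA_natDegree_le [CharP K p] (h : IsRow a ρ l c) (hc : c < p - 1)
    (hS : ∀ v, ∑ b, l (ρ (gam b) v) = 0) (v : V) : (AA a ρ l v).natDegree ≤ c := by
  rw [Polynomial.natDegree_le_iff_coeff_eq_zero]
  intro j hj
  by_cases hjp : p ≤ j
  · exact coeff_eq_zero_of_natDegree_lt (lt_of_lt_of_le (AA_natDegree_lt v) hjp)
  · rw [AA_apply, finsetSum_coeff]
    simp only [coeff_C_mul, coeff_sub, coeff_X_add_C_pow]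
    rw [coeff_one, if_neg (by omega)]
    have h1 := h.moment hc hS v (k := p - 1 - j) (by omega)
    have h2 : ∀ b, l (ρ (gam b) v) * (0 - a (-b) ^ (p - 1 - j) * (((p - 1).choose j : ℕ) : K)) =
        (-(-1) ^ (p - 1 - j) * (((p - 1).choose j : ℕ) : K)) * (a b ^ (p - 1 - j) * l (ρ (gam b) v)) := by
      intro b
      rw [map_neg, neg_pow]
      ring
    simp only [h2]
    rw [← Finset.mul_sum, h1, mul_zero]

theorem IsRow.AA_coeff [CharP K p] (h : IsRow a ρ l c) (hc : c < p - 1)
    (hS : ∀ v, ∑ b, l (ρ (gam b) v) = 0) (v : V) : (AA a ρ l v).coeff c = l v := by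
  have h1 := h.moment_top hc hS v
  have h2 : ∀ b, l (ρ (gam b) v) = ∑ j ∈ Finset.range (c + 1), (AA a ρ l v).coeff j * a b ^ j := by
    intro b
    rw [← AA_eval (a := a), eval_eq_sum_range' (Nat.lt_succ_of_le (h.AA_natDegree_le hc hS v))]
  have h3 : ∑ b, a b ^ (p - 1 - c) * l (ρ (gam b) v) =
      ∑ j ∈ Finset.range (c + 1), (AA a ρ l v).coeff j * ∑ b : ZMod p, a b ^ (p - 1 - c + j) := by
    simp only [h2, Finset.mul_sum]
    rw [Finset.sum_comm]
    refine Finset.sum_congr rfl fun j _ => Finset.sum_congr rfl fun b _ => ?_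
    rw [pow_add]
    ring
  have h4 : ∀ i, i < p - 1 → ∑ b : ZMod p, a b ^ i = 0 := by
    intro i hi
    have := FiniteField.sum_pow_lt_card_sub_one (K := ZMod p) i (by rw [ZMod.card]; exact hi)
    simp only [← map_pow]
    rw [← map_sum, this, map_zero]
  have h5 : ∑ b : ZMod p, a b ^ (p - 1) = -1 := by
    have hp := (Fact.out : p.Prime).two_le
    rw [sum_eq_units, map_zero, zero_pow (by omega), zero_add]
    have : ∀ u : (ZMod p)ˣ, a (u : ZMod p) ^ (p - 1) = 1 := fun u => by
      rw [← map_pow, ZMod.pow_card_sub_one_eq_one u.ne_zero, map_one]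
    simp only [this, Finset.sum_const, Finset.card_univ, ZMod.card_units, nsmul_eq_mul, mul_one]
    rw [Nat.cast_sub (by omega), CharP.cast_eq_zero, Nat.cast_one, zero_sub]
  rw [h3, Finset.sum_range_succ, Finset.sum_eq_zero, zero_add] at h1
  · have h6 : p - 1 - c + c = p - 1 := by omega
    rw [h6, h5, mul_neg, mul_one, neg_inj] at h1
    exact h1
  · intro j hj
    rw [Finset.mem_range] at hj
    rw [h4 _ (by omega), mul_zero]

/-- homogenisation -/
noncomputable def hom (c : ℕ) (A : K[X]) (x y : K) : K := ∑ j ∈ Finset.range (c + 1), A.coeff j * x ^ (c - j) * y ^ j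

theorem hom_of_ne {A : K[X]} (hA : A.natDegree ≤ c) {x y : K} (hx : x ≠ 0) :
    hom c A x y = x ^ c * A.eval (y / x) := by
  rw [hom, eval_eq_sum_range' (Nat.lt_succ_of_le hA), Finset.mul_sum]
  refine Finset.sum_congr rfl fun j hj => ?_
  have hj' : j ≤ c := Nat.lt_succ_iff.1 (Finset.mem_range.1 hj)
  have h1 : x ^ c = x ^ (c - j) * x ^ j := by rw [← pow_add, Nat.sub_add_cancel hj']
  rw [h1, div_pow]
  field_simp

theorem hom_zero {A : K[X]} (y : K) : hom c A 0 y = y ^ c * A.coeff c := by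
  rw [hom, Finset.sum_range_succ, Finset.sum_eq_zero]
  · simp [mul_comm]
  · intro j hj
    rw [Finset.mem_range] at hj
    rw [zero_pow (by omega)]
    ring

theorem IsRow.eval_hom [CharP K p] (h : IsRow a ρ l c) (hc : c < p - 1)
    (hS : ∀ v, ∑ b, l (ρ (gam b) v) = 0) (v : V) (g : SS p) :
    l (ρ g v) = hom c (AA a ρ l v) (a (g 1 0)) (a (g 1 1)) := by
  by_cases hx : g 1 0 = 0
  · rw [h.eval_of_eq g hx, hx, map_zero, hom_zero, h.AA_coeff hc hS]
  · rw [h.eval_of_ne g hx, hom_of_ne (h.AA_natDegree_le hc hS v) (by rwa [Ne, map_eq_zero]), ← map_div₀, AA_eval]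

theorem AA_up (v : V) : AA a ρ l (ρ (up 1) v) = taylor 1 (AA a ρ l v) := by
  rw [← sub_eq_zero]
  refine Polynomial.eq_zero_of_natDegree_lt_card_of_eval_eq_zero _ (f := a) a.injective ?_ ?_
  · intro b
    rw [eval_sub, AA_eval, taylor_apply, eval_comp, eval_add, eval_X, eval_C, ← map_one a, ← map_add, AA_eval,
      ← Module.End.mul_apply, ← map_mul, gam_mul_up, sub_self]
  · rw [ZMod.card]
    apply lt_of_le_of_lt (natDegree_sub_le _ _)
    rw [natDegree_taylor]
    exact max_lt (AA_natDegree_lt _) (AA_natDegree_lt _)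

theorem delta_spec {A : K[X]} {k : ℕ} (hA : A.natDegree = k + 1) (hk : ((k + 1 : ℕ) : K) ≠ 0) :
    (taylor 1 A - A).natDegree = k ∧ taylor 1 A - A ≠ 0 := by
  have hA0 : A.coeff (k + 1) ≠ 0 := by
    rw [← hA]
    apply leadingCoeff_ne_zero.2
    rintro rfl
    simp at hA
  have h1 : (taylor 1 A - A).coeff k ≠ 0 := by
    rw [coeff_sub, taylor_coeff, eval_eq_sum_range' (n := 2), Finset.sum_range_succ, Finset.sum_range_one]
    · simp only [hasseDeriv_coeff, one_pow, mul_one, zero_add, Nat.choose_self, Nat.cast_one, one_mul]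
      rw [add_comm 1 k, Nat.choose_succ_self_right, add_sub_cancel_left]
      exact mul_ne_zero hk hA0
    · have := natDegree_hasseDeriv_le A k
      omega
  have h2 : (taylor 1 A - A).natDegree ≤ k := by
    rw [natDegree_le_iff_coeff_eq_zero]
    intro j hj
    rw [coeff_sub]
    rcases Nat.lt_or_ge (k + 1) j with h3 | h3
    · rw [coeff_eq_zero_of_natDegree_lt (p := A) (by omega),
        coeff_eq_zero_of_natDegree_lt (by rw [natDegree_taylor]; omega), sub_zero]
    · have h4 : j = A.natDegree := by omega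
      rw [h4, coeff_taylor_natDegree, leadingCoeff, sub_self]
  refine ⟨le_antisymm h2 (le_natDegree_of_ne_zero h1), ?_⟩
  intro h
  rw [h, coeff_zero] at h1
  exact h1 rfl

theorem IsRow.delta_pow [CharP K p] (h : IsRow a ρ l c) (hc : c < p - 1)
    (hS : ∀ v, ∑ b, l (ρ (gam b) v) = 0) {v : V} (hv : l v ≠ 0) {k : ℕ} (hk : k ≤ c) :
    (AA a ρ l (((ρ (up 1) - 1) ^ k) v)).natDegree = c - k ∧ AA a ρ l (((ρ (up 1) - 1) ^ k) v) ≠ 0 := by
  induction k with
  | zero =>
    have h1 := h.AA_coeff hc hS v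
    have h2 := h.AA_natDegree_le hc hS v
    rw [pow_zero, Module.End.one_apply]
    have h3 : (AA a ρ l v).coeff c ≠ 0 := by rwa [h1]
    refine ⟨le_antisymm h2 (le_natDegree_of_ne_zero h3), ?_⟩
    intro h4
    rw [h4, coeff_zero] at h3
    exact h3 rfl
  | succ k ih =>
    obtain ⟨h1, h2⟩ := ih (by omega)
    rw [pow_succ', Module.End.mul_apply, LinearMap.sub_apply, Module.End.one_apply, map_sub, AA_up]
    have h3 := delta_spec (A := AA a ρ l (((ρ (up 1) - 1) ^ k) v)) (k := c - (k + 1)) (by rw [h1]; omega) (by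
      rw [Ne, CharP.cast_eq_zero_iff K p]
      intro h4
      have := Nat.le_of_dvd (by omega) h4
      omega)
    exact h3

/-- Every polynomial of degree at most `c` occurs. -/
theorem IsRow.AA_surj [CharP K p] (h : IsRow a ρ l c) (hc : c < p - 1)
    (hS : ∀ v, ∑ b, l (ρ (gam b) v) = 0) {v : V} (hv : l v ≠ 0) (k : ℕ) (hk : k ≤ c) :
    ∀ A : K[X], A.natDegree ≤ k → ∃ w, AA a ρ l w = A := by
  have key : ∀ (k : ℕ), k ≤ c → ∀ A : K[X], A.natDegree ≤ k →
      ∃ (w : V) (r : K), (A - r • AA a ρ l w).natDegree ≤ k - 1 ∧ (k = 0 → A - r • AA a ρ l w = 0) := by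
    intro k hk A hA
    obtain ⟨h1, h2⟩ := h.delta_pow hc hS hv (k := c - k) (by omega)
    set B := AA a ρ l (((ρ (up 1) - 1) ^ (c - k)) v) with hB
    have h3 : B.natDegree = k := by rw [h1]; omega
    have h4 : B.coeff k ≠ 0 := by
      rw [← h3]
      exact leadingCoeff_ne_zero.2 h2
    refine ⟨((ρ (up 1) - 1) ^ (c - k)) v, A.coeff k / B.coeff k, ?_, ?_⟩
    · rw [← hB, natDegree_le_iff_coeff_eq_zero]
      intro j hj
      rw [coeff_sub, coeff_smul, smul_eq_mul]
      rcases Nat.lt_or_ge k j with h5 | h5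
      · rw [coeff_eq_zero_of_natDegree_lt (p := A) (n := j) (by omega), coeff_eq_zero_of_natDegree_lt (p := B) (n := j) (by omega)]
        ring
      · have h6 : j = k := by omega
        rw [h6]
        field_simp
        ring
    · intro hk0
      subst hk0
      rw [← hB]
      apply Polynomial.ext
      intro j
      rw [coeff_sub, coeff_smul, smul_eq_mul, coeff_zero]
      rcases Nat.lt_or_ge 0 j with h5 | h5
      · rw [coeff_eq_zero_of_natDegree_lt (p := A) (n := j) (by omega), coeff_eq_zero_of_natDegree_lt (p := B) (n := j) (by omega)]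
        ring
      · have h6 : j = 0 := by omega
        rw [h6]
        field_simp
        ring
  induction k with
  | zero =>
    intro A hA
    obtain ⟨w, r, _, h2⟩ := key 0 hk A hA
    refine ⟨r • w, ?_⟩
    rw [map_smul]
    exact (sub_eq_zero.1 (h2 rfl)).symm
  | succ k ih =>
    intro A hA
    obtain ⟨w, r, h1, _⟩ := key (k + 1) hk A hA
    obtain ⟨w', hw'⟩ := ih (by omega) _ (by simpa only [_root_.add_tsub_cancel_right] using h1)
    refine ⟨w' + r • w, ?_⟩
    rw [map_add, map_smul, hw']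
    ring

end poly

/-! ### The quotient -/

/-- The kernel of the map to homogeneous functions. -/
def WW (ρ : Representation K (SS p) V) (l : Module.Dual K V) : Submodule K V := ⨅ g, LinearMap.ker (l ∘ₗ ρ g)

omit [Fact p.Prime] in
theorem mem_WW {v : V} : v ∈ WW ρ l ↔ ∀ g, l (ρ g v) = 0 := by
  rw [WW, Submodule.mem_iInf]
  rfl

omit [Fact p.Prime] in
theorem WW_inv (h : SS p) : WW ρ l ≤ (WW ρ l).comap (ρ h) := by
  intro v hv
  rw [Submodule.mem_comap, mem_WW]
  intro g
  rw [← Module.End.mul_apply, ← map_mul]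
  exact mem_WW.1 hv _

theorem fx_eq_card {ι X : Type*} [Finite ι] [AddCommGroup X] [Module K X]
    (b : Basis ι K X) (f : X →ₗ[K] X) (lam : ι → K) (hf : ∀ i, f (b i) = lam i • b i) :
    fx f = Nat.card {i // lam i = 1} := by
  classical
  have := Fintype.ofFinite ι
  have hfd : FiniteDimensional K X := b.finiteDimensional_of_finite
  have h1 := fx_add_range f
  have h2 : LinearMap.toMatrix b b (f - 1) = Matrix.diagonal (fun i => lam i - 1) := by
    ext i j
    have h5 : (f - 1) (b j) = (lam j - 1) • b j := by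
      rw [LinearMap.sub_apply, Module.End.one_apply, hf, sub_smul, one_smul]
    rw [LinearMap.toMatrix_apply, h5, map_smul, Finsupp.smul_apply, b.repr_self, Matrix.diagonal_apply, smul_eq_mul]
    by_cases hij : i = j
    · subst hij
      simp
    · rw [Finsupp.single_eq_of_ne hij, if_neg hij, mul_zero]
  have h3 := Matrix.rank_eq_finrank_range_toLin (LinearMap.toMatrix b b (f - 1)) b b
  rw [Matrix.toLin_toMatrix, h2, Matrix.rank_diagonal] at h3
  rw [← h3, finrank_eq_card_basis b] at h1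
  rw [Nat.card_eq_fintype_card]
  have h4 : Fintype.card {i // lam i = 1} + Fintype.card {i // lam i - 1 ≠ 0} = Fintype.card ι := by
    have h6 := Fintype.card_subtype_compl (fun i => lam i = 1)
    have h7 := Fintype.card_subtype_le (fun i => lam i = 1)
    have h8 : Fintype.card {i // lam i - 1 ≠ 0} = Fintype.card {i // ¬ lam i = 1} := by
      apply Fintype.card_congr
      exact Equiv.subtypeEquivRight fun i => by rw [sub_ne_zero]
    omega
  omega

section quot

open Polynomial

variable [FiniteDimensional K V]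

omit [FiniteDimensional K V] in
theorem IsRow.mem_WW_iff [CharP K p] (h : IsRow a ρ l c) (hc : c < p - 1)
    (hS : ∀ v, ∑ b, l (ρ (gam b) v) = 0) (v : V) : v ∈ WW ρ l ↔ AA a ρ l v = 0 := by
  rw [mem_WW]
  constructor
  · intro h1
    rw [AA_apply]
    apply Finset.sum_eq_zero
    intro b _
    rw [h1, C_0, zero_mul]
  · intro h1 g
    rw [h.eval_hom hc hS, h1, hom]
    simp

omit [FiniteDimensional K V] in
theorem IsRow.range_AA [CharP K p] (h : IsRow a ρ l c) (hc : c < p - 1)
    (hS : ∀ v, ∑ b, l (ρ (gam b) v) = 0) {v : V} (hv : l v ≠ 0) :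
    LinearMap.range (AA a ρ l) = degreeLT K (c + 1) := by
  ext A
  rw [mem_degreeLT]
  constructor
  · rintro ⟨w, rfl⟩
    have h1 := h.AA_natDegree_le hc hS w
    exact lt_of_le_of_lt degree_le_natDegree (by exact_mod_cast Nat.lt_succ_of_le h1)
  · intro hA
    have h1 : A.natDegree ≤ c := by
      by_cases hA0 : A = 0
      · rw [hA0]
        simp
      · rw [degree_eq_natDegree hA0] at hA
        exact Nat.lt_succ_iff.1 (by exact_mod_cast hA)
    exact h.AA_surj hc hS hv c le_rfl A h1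

omit [Fact p.Prime] in
theorem finrank_degreeLT (n : ℕ) : finrank K (degreeLT K n) = n := by
  rw [(degreeLTEquiv K n).finrank_eq, Module.finrank_fin_fun]

theorem IsRow.finrank_quot [CharP K p] (h : IsRow a ρ l c) (hc : c < p - 1)
    (hS : ∀ v, ∑ b, l (ρ (gam b) v) = 0) {v : V} (hv : l v ≠ 0) : finrank K (V ⧸ WW ρ l) = c + 1 := by
  have h1 := LinearMap.finrank_range_add_finrank_ker (AA a ρ l)
  rw [h.range_AA hc hS hv, finrank_degreeLT] at h1
  have h2 := Submodule.finrank_quotient_add_finrank (WW ρ l)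
  have h3 : LinearMap.ker (AA a ρ l) = WW ρ l := by
    ext w
    rw [LinearMap.mem_ker, h.mem_WW_iff hc hS]
  rw [h3] at h1
  omega

theorem IsRow.fx_quot [CharP K p] (h : IsRow a ρ l c) (hc : c < p - 1)
    (hS : ∀ v, ∑ b, l (ρ (gam b) v) = 0) {v : V} (hv : l v ≠ 0) {k : SS p} {μ : K}
    (A : Fin (c + 1) → K[X]) (hdeg : ∀ i, (A i).natDegree ≤ c) (hli : LinearIndependent K A)
    (lam : Fin (c + 1) → K)
    (heig : ∀ i (x y : ZMod p), hom c (A i) (a (x * k 0 0 + y * k 1 0)) (a (x * k 0 1 + y * k 1 1)) =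
      lam i * hom c (A i) (a x) (a y)) {f : V →ₗ[K] V} (hf : f = μ • ρ k) (hW : WW ρ l ≤ (WW ρ l).comap f) :
    fx ((WW ρ l).mapQ (WW ρ l) f hW) = Nat.card {i // μ * lam i = 1} := by
  subst hf
  choose w hw using fun i => h.AA_surj hc hS hv c le_rfl (A i) (hdeg i)
  have hlix : LinearIndependent K (fun i => (WW ρ l).mkQ (w i)) := by
    rw [Fintype.linearIndependent_iff]
    intro g hg
    rw [Fintype.linearIndependent_iff] at hli
    apply hli g
    have h1 : (WW ρ l).mkQ (∑ i, g i • w i) = 0 := by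
      rw [map_sum, ← hg]
      refine Finset.sum_congr rfl fun i _ => ?_
      rw [map_smul]
    rw [Submodule.mkQ_apply, Submodule.Quotient.mk_eq_zero, h.mem_WW_iff hc hS, map_sum] at h1
    rw [← h1]
    refine Finset.sum_congr rfl fun i _ => ?_
    rw [map_smul, hw]
  let b := basisOfLinearIndependentOfCardEqFinrank hlix (by
    rw [h.finrank_quot hc hS hv, Fintype.card_fin])
  refine fx_eq_card b _ _ fun i => ?_
  have hb : b i = (WW ρ l).mkQ (w i) := by
    rw [coe_basisOfLinearIndependentOfCardEqFinrank]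
  rw [hb, Submodule.mkQ_apply, Submodule.mapQ_apply, ← Submodule.Quotient.mk_smul, Submodule.Quotient.eq, mem_WW]
  intro g
  rw [map_sub, map_sub, LinearMap.smul_apply, map_smul, map_smul, map_smul, map_smul, ← Module.End.mul_apply, ← map_mul,
    h.eval_hom hc hS, h.eval_hom hc hS, hw, mul10, mul11]
  have h1 := heig i (g 1 0) (g 1 1)
  rw [h1, smul_eq_mul, smul_eq_mul]
  ring

end quot

end Cfsg.Agent.H892.RowQuot
end

private theorem dce_69b9fdaf507d : _root_.True := by
  try have : _root_.True := by simp only [_root_.Cfsg.Agent.H892.GLTorus.star.congr_simp]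
  try have : _root_.True := by simp only [_root_.Cfsg.Agent.H892.GLTorus.mat.congr_simp]
  try have : _root_.True := by simp only [_root_.Cfsg.Agent.H892.RowQuot.gal.congr_simp]
  try have : _root_.True := by simp only [_root_.Cfsg.Agent.H892.RowQuot.WW.eq_1]
  try have : _root_.True := by simp only [_root_.Matrix.GeneralLinearGroup.scalar.eq_1]
  try have : _root_.True := by simp only [_root_.Cfsg.Agent.H892.GLTorus.scal.eq_1]
  try have : _root_.True := by simp only [_root_.Cfsg.Agent.H892.GLTorus.Tor.eq_1]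
  try have : _root_.True := by simp only [_root_.Cfsg.Agent.H892.RowQuot.gam.congr_simp]
  try have : _root_.True := by simp only [_root_.Cfsg.Agent.H892.RowQuot.hom.eq_1]
  try have : _root_.True := by simp only [_root_.Cfsg.Agent.H892.CoprimeChar.y0.congr_simp]
  try have : _root_.True := by simp only [_root_.Cfsg.Agent.H892.GLTorus.mat.eq_1]
  exact _root_.True.intro
end

-- part: H892/GroupB
section
prune_inst 0x40000000000000000000080210000000000000000000000000000000000000000000000000001000000000000000000000000000000000000000000000000000000000000000008400080000100000000000000000000000000000000000000000000000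
set_option linter.all false
open scoped Cfsg.Agent.FastGrp

-- part: H892/Weights
section
/-!
# Weights and the raising operator for `SL₂(p)` in characteristic `p`
-/

set_option autoImplicit false

namespace Cfsg.Agent.H892.Weights

open Module Matrix Cfsg.Agent.H892.FixDim Cfsg.Agent.H892.CoprimeChar Cfsg.Agent.H892.RowQuot
open Cfsg.Agent.H892.GLTorus
open Cfsg.Agent.ClassicalGeometry.SplitTorus

variable {p : ℕ} [Fact p.Prime]
variable {K V : Type*} [Field K] [AddCommGroup V] [Module K V]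

/-- weight spaces -/
def Wt (a : ZMod p →+* K) (ρ : Representation K (SS p) V) (i : ℤ) : Submodule K V :=
  ⨅ t : (ZMod p)ˣ, LinearMap.ker (ρ (dg t) - (a ((t ^ i : (ZMod p)ˣ) : ZMod p)) • (1 : Module.End K V))

variable {a : ZMod p →+* K} {ρ : Representation K (SS p) V}

theorem mem_Wt {i : ℤ} {v : V} : v ∈ Wt a ρ i ↔ ∀ t : (ZMod p)ˣ, ρ (dg t) v = a ((t ^ i : (ZMod p)ˣ) : ZMod p) • v := by
  rw [Wt, Submodule.mem_iInf]
  refine forall_congr' fun t => ?_
  rw [LinearMap.mem_ker, LinearMap.sub_apply, LinearMap.smul_apply, Module.End.one_apply, sub_eq_zero]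

theorem zpow_congr (t : (ZMod p)ˣ) {i j : ℤ} (h : ((p - 1 : ℕ) : ℤ) ∣ i - j) : t ^ i = t ^ j := by
  obtain ⟨k, hk⟩ := h
  have : i = j + ((p - 1 : ℕ) : ℤ) * k := by linarith only [hk]
  rw [this, _root_.zpow_add, _root_.zpow_mul, zpow_natCast, ZMod.units_pow_card_sub_one_eq_one, _root_.one_zpow, mul_one]

theorem Wt_congr {i j : ℤ} (h : ((p - 1 : ℕ) : ℤ) ∣ i - j) : Wt a ρ i = Wt a ρ j := by
  ext v
  rw [mem_Wt, mem_Wt]
  refine forall_congr' fun t => ?_
  rw [zpow_congr t h]

/-- the raising operator -/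
noncomputable def EE (a : ZMod p →+* K) (ρ : Representation K (SS p) V) : Module.End K V :=
  ∑ k : (ZMod p)ˣ, a ((k⁻¹ : (ZMod p)ˣ) : ZMod p) • ρ (up (k : ZMod p))

theorem EE_apply (v : V) : EE a ρ v = ∑ k : (ZMod p)ˣ, a ((k⁻¹ : (ZMod p)ˣ) : ZMod p) • ρ (up (k : ZMod p)) v := by
  rw [EE, LinearMap.sum_apply]
  rfl

theorem dg_EE (t : (ZMod p)ˣ) (v : V) : ρ (dg t) (EE a ρ v) = a ((t ^ 2 : (ZMod p)ˣ) : ZMod p) • EE a ρ (ρ (dg t) v) := by
  rw [EE_apply, EE_apply, map_sum, Finset.smul_sum]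
  refine Fintype.sum_equiv (Equiv.mulLeft (t ^ 2)) _ _ fun k => ?_
  rw [map_smul, smul_smul, Equiv.coe_mulLeft, ← Module.End.mul_apply, ← map_mul, ← Module.End.mul_apply, ← map_mul]
  have h1 : dg t * up (k : ZMod p) = up ((t ^ 2 * k : (ZMod p)ˣ) : ZMod p) * dg t := by
    rw [← mul_inv_eq_iff_eq_mul, dg_conj_up]
    congr 1
  rw [h1, ← map_mul, ← Units.val_mul]
  congr 3
  rw [_root_.mul_inv_rev, mul_comm k⁻¹, mul_inv_cancel_left]

theorem EE_mem {i : ℤ} {v : V} (hv : v ∈ Wt a ρ i) : EE a ρ v ∈ Wt a ρ (i + 2) := by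
  rw [mem_Wt] at hv ⊢
  intro t
  rw [dg_EE, hv, map_smul, smul_smul, ← map_mul, ← Units.val_mul, _root_.zpow_add, mul_comm]
  rfl

theorem EE_pow_mem {i : ℤ} {v : V} (hv : v ∈ Wt a ρ i) (k : ℕ) : ((EE a ρ) ^ k) v ∈ Wt a ρ (i + 2 * k) := by
  induction k with
  | zero => simpa using hv
  | succ k ih =>
    rw [pow_succ', Module.End.mul_apply]
    have := EE_mem ih
    have e : i + 2 * (k : ℤ) + 2 = i + 2 * ((k + 1 : ℕ) : ℤ) := by push_cast; ring
    rwa [e] at this

theorem up_one_pow_p [CharP K p] : (ρ (up 1) - 1 : Module.End K V) ^ p = 0 := by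
  have h0 : CharP (Module.End K V) p ∨ Subsingleton V := by
    rcases subsingleton_or_nontrivial V with h | h
    · exact Or.inr h
    · left
      exact charP_of_injective_algebraMap (algebraMap K (Module.End K V)).injective p
  rcases h0 with h0 | h0
  · rw [sub_pow_char_of_commute _ (Commute.one_right _), one_pow, ← map_pow, up_pow, CharP.cast_eq_zero, zero_mul,
      up_zero, map_one, sub_self]
  · ext v
    exact Subsingleton.elim _ _

open Polynomial in
theorem exists_unit [CharP K p] (hp : 3 < p) :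
    ∃ U : (Module.End K V)ˣ, Commute (ρ (up 1) - 1 : Module.End K V) U ∧ EE a ρ = (ρ (up 1) - 1) * U := by
  set u := ρ (up 1) with hu
  let f : K[X] := ∑ k : (ZMod p)ˣ, C (a ((k⁻¹ : (ZMod p)ˣ) : ZMod p)) * X ^ (k : ZMod p).val
  have hf1 : f.eval 1 = 0 := by
    simp only [f, eval_finsetSum, eval_mul, eval_C, eval_pow, eval_X, one_pow, mul_one]
    rw [← map_sum]
    have h1 : ∑ k : (ZMod p)ˣ, ((k⁻¹ : (ZMod p)ˣ) : ZMod p) = ∑ k : (ZMod p)ˣ, (k : ZMod p) :=
      Fintype.sum_equiv (Equiv.inv _) _ _ fun k => rfl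
    have h2 := FiniteField.sum_pow_lt_card_sub_one (K := ZMod p) 1 (by rw [ZMod.card]; omega)
    simp only [pow_one] at h2
    rw [sum_eq_units, zero_add] at h2
    rw [h1, h2, map_zero]
  have hf' : (derivative f).eval 1 = -1 := by
    have h1 : ∀ k : (ZMod p)ˣ, eval 1 (derivative (C (a ((k⁻¹ : (ZMod p)ˣ) : ZMod p)) * X ^ (k : ZMod p).val)) = 1 := by
      intro k
      rw [derivative_C_mul, derivative_X_pow, eval_mul, eval_mul, eval_C, eval_C, eval_pow, eval_X, one_pow, mul_one]
      have : (((k : ZMod p).val : ℕ) : K) = a (k : ZMod p) := by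
        rw [← map_natCast a, ZMod.natCast_zmod_val]
      rw [this, ← map_mul, Units.inv_mul, map_one]
    simp only [f]
    rw [derivative_sum, eval_finsetSum, Finset.sum_congr rfl fun k _ => h1 k]
    rw [Finset.sum_const, Finset.card_univ, ZMod.card_units, nsmul_eq_mul, mul_one, Nat.cast_sub (by omega),
      CharP.cast_eq_zero, Nat.cast_one, zero_sub]
  obtain ⟨g, hg⟩ := dvd_iff_isRoot.2 (show IsRoot f 1 from hf1)
  have hg1 : g.eval 1 = -1 := by
    rw [hg, derivative_mul, derivative_X_sub_C] at hf'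
    simpa using hf'
  obtain ⟨h, hh⟩ := dvd_iff_isRoot.2 (show IsRoot (g + 1) 1 by rw [IsRoot.def, eval_add, hg1, eval_one]; ring)
  have hE : EE a ρ = aeval u f := by
    simp only [f]
    rw [map_sum, EE]
    refine Finset.sum_congr rfl fun k _ => ?_
    rw [map_mul, aeval_C, map_pow, aeval_X, hu, ← map_pow, up_pow, ZMod.natCast_zmod_val, mul_one,
      Algebra.algebraMap_eq_smul_one, smul_mul_assoc, one_mul]
  have hX : aeval u (X - C (1 : K)) = u - 1 := by
    rw [map_sub, aeval_X, aeval_C, map_one]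
  have hcomm : ∀ q : K[X], Commute (u - 1) (aeval u q) := by
    intro q
    rw [← hX]
    exact Commute.map (Commute.all _ _) (aeval u)
  have hnil : IsNilpotent ((u - 1) * aeval u h) := by
    apply (hcomm h).isNilpotent_mul_right
    exact ⟨p, up_one_pow_p⟩
  have hgu : aeval u g = (u - 1) * aeval u h - 1 := by
    have : g = (X - C 1) * h - 1 := by rw [← hh]; ring
    rw [this, map_sub, map_mul, hX, map_one]
  have hunit : IsUnit (aeval u g) := by
    rw [hgu]
    exact hnil.isUnit_sub_one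
  obtain ⟨U, hU⟩ := hunit
  refine ⟨U, ?_, ?_⟩
  · rw [hU]
    exact hcomm g
  · rw [hE, hg, map_mul, hX, hU]

theorem EE_eq_zero_iff [CharP K p] (hp : 3 < p) (v : V) : EE a ρ v = 0 ↔ ρ (up 1) v = v := by
  obtain ⟨U, h1, h2⟩ := exists_unit (a := a) (ρ := ρ) hp
  rw [h2, h1.eq, Module.End.mul_apply]
  constructor
  · intro h
    have h3 : ((U⁻¹ : (Module.End K V)ˣ) : Module.End K V) ((U : Module.End K V) ((ρ (up 1) - 1 : Module.End K V) v)) = 0 := by
      rw [h, map_zero]
    rw [← Module.End.mul_apply, Units.inv_mul, Module.End.one_apply, LinearMap.sub_apply, Module.End.one_apply,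
      sub_eq_zero] at h3
    exact h3
  · intro h
    rw [LinearMap.sub_apply, h, Module.End.one_apply, sub_self, map_zero]

theorem EE_range [CharP K p] (hp : 3 < p) : LinearMap.range (EE a ρ) = LinearMap.range (ρ (up 1) - 1) := by
  obtain ⟨U, h1, h2⟩ := exists_unit (a := a) (ρ := ρ) hp
  apply le_antisymm
  · rintro _ ⟨v, rfl⟩
    rw [h2]
    exact ⟨_, rfl⟩
  · rintro _ ⟨v, rfl⟩
    refine ⟨((U⁻¹ : (Module.End K V)ˣ) : Module.End K V) v, ?_⟩
    rw [h2, Module.End.mul_apply, ← Module.End.mul_apply (U : Module.End K V), Units.mul_inv, Module.End.one_apply]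

theorem EE_pow_eq_zero_iff [CharP K p] (hp : 3 < p) (k : ℕ) : (EE a ρ) ^ k = 0 ↔ (ρ (up 1) - 1 : Module.End K V) ^ k = 0 := by
  obtain ⟨U, h1, h2⟩ := exists_unit (a := a) (ρ := ρ) hp
  rw [h2, h1.mul_pow, ← Units.val_pow_eq_pow_val]
  exact Units.mul_left_eq_zero _

/-! ### Projections to weight spaces -/

/-- projection to a weight space -/
noncomputable def pr (a : ZMod p →+* K) (ρ : Representation K (SS p) V) (i : ℤ) : Module.End K V :=
  - ∑ t : (ZMod p)ˣ, a ((t ^ (-i) : (ZMod p)ˣ) : ZMod p) • ρ (dg t)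

theorem pr_apply (i : ℤ) (v : V) :
    pr a ρ i v = - ∑ t : (ZMod p)ˣ, a ((t ^ (-i) : (ZMod p)ˣ) : ZMod p) • ρ (dg t) v := by
  rw [pr, LinearMap.neg_apply, LinearMap.sum_apply]
  rfl

theorem pr_mem (i : ℤ) (v : V) : pr a ρ i v ∈ Wt a ρ i := by
  rw [mem_Wt]
  intro s
  rw [pr_apply, map_neg, map_sum, smul_neg, Finset.smul_sum]
  congr 1
  refine Fintype.sum_equiv (Equiv.mulLeft s) _ _ fun t => ?_
  rw [map_smul, smul_smul, Equiv.coe_mulLeft, ← Module.End.mul_apply, ← map_mul, ← dg_mul, ← map_mul, ← Units.val_mul,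
    mul_zpow, ← mul_assoc, _root_.zpow_neg s, mul_inv_cancel, one_mul]

theorem sum_pr [CharP K p] (v : V) : ∑ i ∈ Finset.range (p - 1), pr a ρ (i : ℤ) v = v := by
  have hp := (Fact.out : p.Prime).two_le
  simp only [pr_apply]
  rw [Finset.sum_neg_distrib, Finset.sum_comm]
  rw [Finset.sum_eq_single 1]
  · simp only [_root_.one_zpow, Units.val_one, map_one, one_smul, dg_one, Module.End.one_apply, Finset.sum_const,
      Finset.card_range]
    rw [← Nat.cast_smul_eq_nsmul K, Nat.cast_sub (by omega), CharP.cast_eq_zero, Nat.cast_one, zero_sub, neg_smul,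
      one_smul, neg_neg]
  · intro t _ ht
    rw [← Finset.sum_smul]
    have h1 : ∀ i : ℕ, a ((t ^ (-(i : ℤ)) : (ZMod p)ˣ) : ZMod p) = (a ((t⁻¹ : (ZMod p)ˣ) : ZMod p)) ^ i := by
      intro i
      rw [← map_pow, ← Units.val_pow_eq_pow_val, _root_.zpow_neg, zpow_natCast, inv_pow]
    simp only [h1]
    have h2 : (a ((t⁻¹ : (ZMod p)ˣ) : ZMod p) - 1) * ∑ i ∈ Finset.range (p - 1), (a ((t⁻¹ : (ZMod p)ˣ) : ZMod p)) ^ i = 0 := by
      rw [mul_geom_sum, ← map_pow, ZMod.pow_card_sub_one_eq_one (Units.ne_zero _), map_one, sub_self]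
    have h3 : a ((t⁻¹ : (ZMod p)ˣ) : ZMod p) - 1 ≠ 0 := by
      intro h
      rw [sub_eq_zero, ← map_one a] at h
      have h4 := a.injective h
      apply ht
      rw [Units.val_eq_one, inv_eq_one] at h4
      exact h4
    rw [(mul_eq_zero.1 h2).resolve_left h3, zero_smul]
  · intro h
    exact absurd (Finset.mem_univ _) h

theorem exists_pr_ne [CharP K p] {W : Type*} [AddCommGroup W] [Module K W] (f : V →ₗ[K] W) (hf : f ≠ 0) :
    ∃ (i : ℤ) (x : V), x ∈ Wt a ρ i ∧ f x ≠ 0 := by
  by_contra hcon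
  push Not at hcon
  apply hf
  ext v
  rw [← sum_pr (a := a) (ρ := ρ) v, map_sum]
  apply Finset.sum_eq_zero
  intro i _
  exact hcon i _ (pr_mem _ _)

theorem exists_pr_notMem [CharP K p] (W : Submodule K V) (hW : W ≠ ⊤) : ∃ (i : ℤ) (x : V), x ∈ Wt a ρ i ∧ x ∉ W := by
  obtain ⟨i, x, h1, h2⟩ := exists_pr_ne (a := a) (ρ := ρ) W.mkQ (by
    intro h
    apply hW
    rw [eq_top_iff]
    intro x _
    rw [← Submodule.Quotient.mk_eq_zero, ← Submodule.mkQ_apply, h, LinearMap.zero_apply])
  refine ⟨i, x, h1, ?_⟩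
  intro h3
  apply h2
  rwa [Submodule.mkQ_apply, Submodule.Quotient.mk_eq_zero]

/-! ### Functionals -/

/-- the residue of `-i` modulo `p - 1` -/
theorem exists_res (p : ℕ) [Fact p.Prime] (i : ℤ) : ∃ c : ℕ, c < p - 1 ∧ ((p - 1 : ℕ) : ℤ) ∣ (i + c) := by
  have hp := (Fact.out : p.Prime).two_le
  have h0 : (0 : ℤ) < ((p - 1 : ℕ) : ℤ) := by
    have : 0 < p - 1 := by omega
    exact_mod_cast this
  have h1 := Int.emod_nonneg (-i) h0.ne'
  have h2 := Int.emod_lt_of_pos (-i) h0
  refine ⟨((-i) % ((p - 1 : ℕ) : ℤ)).toNat, ?_, ?_⟩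
  · omega
  · rw [Int.toNat_of_nonneg h1]
    have := Int.emod_add_mul_ediv (-i) ((p - 1 : ℕ) : ℤ)
    refine ⟨-((-i) / ((p - 1 : ℕ) : ℤ)), ?_⟩
    linarith only [this]

theorem exists_isRow [CharP K p] {i : ℤ} {x : V} (hx : x ∈ Wt a ρ i) (hx' : x ∉ LinearMap.range (ρ (up 1) - 1)) :
    ∃ (l : Module.Dual K V) (c : ℕ), IsRow a ρ l c ∧ c < p - 1 ∧ ((p - 1 : ℕ) : ℤ) ∣ (i + c) ∧ l x ≠ 0 := by
  have hp := (Fact.out : p.Prime).two_le
  obtain ⟨l0, hl0, hl0'⟩ := Submodule.exists_le_ker_of_notMem hx'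
  have h1 : ∀ w, l0 (ρ (up 1) w) = l0 w := by
    intro w
    have : l0 ((ρ (up 1) - 1 : Module.End K V) w) = 0 := hl0' ⟨w, rfl⟩
    rwa [LinearMap.sub_apply, Module.End.one_apply, map_sub, sub_eq_zero] at this
  have h2 : ∀ b w, l0 (ρ (up b) w) = l0 w := by
    intro b
    have h3 : ∀ (k : ℕ) w, l0 (ρ (up (k : ZMod p)) w) = l0 w := by
      intro k
      induction k with
      | zero => intro w; rw [Nat.cast_zero, up_zero, map_one, Module.End.one_apply]
      | succ k ih =>
        intro w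
        rw [Nat.cast_succ, up_add, map_mul, Module.End.mul_apply, ih, h1]
    intro w
    rw [← ZMod.natCast_zmod_val b]
    exact h3 _ w
  obtain ⟨c, hc, hc'⟩ := exists_res p i
  let l : Module.Dual K V := ∑ t : (ZMod p)ˣ, a ((t ^ (-i) : (ZMod p)ˣ) : ZMod p) • (l0 ∘ₗ ρ (dg t))
  have hl : ∀ v, l v = ∑ t : (ZMod p)ˣ, a ((t ^ (-i) : (ZMod p)ˣ) : ZMod p) * l0 (ρ (dg t) v) := by
    intro v
    simp only [l]
    rw [LinearMap.sum_apply]
    rfl
  have hdg : ∀ s v, l (ρ (dg s) v) = a ((s ^ i : (ZMod p)ˣ) : ZMod p) * l v := by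
    intro s v
    rw [hl, hl, Finset.mul_sum]
    refine Fintype.sum_equiv (Equiv.mulLeft s) _ _ fun t => ?_
    rw [Equiv.coe_mulLeft, ← mul_assoc, ← map_mul, ← Units.val_mul, mul_zpow, ← mul_assoc, _root_.zpow_neg s,
      mul_inv_cancel, one_mul]
    beta_reduce
    rw [mul_comm s t, dg_mul, map_mul, Module.End.mul_apply]
  refine ⟨l, c, ⟨?_, ?_⟩, hc, hc', ?_⟩
  · intro b v
    rw [hl, hl]
    refine Finset.sum_congr rfl fun t _ => ?_
    have h3 : dg t * up b = up ((t : ZMod p) ^ 2 * b) * dg t := by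
      rw [← mul_inv_eq_iff_eq_mul, dg_conj_up]
    rw [← Module.End.mul_apply, ← map_mul, h3, map_mul, Module.End.mul_apply, h2]
  · intro t v
    rw [← dg_inv, hdg, _root_.inv_zpow']
    congr 1
    rw [← map_pow, ← Units.val_pow_eq_pow_val, ← zpow_natCast]
    congr 2
    apply zpow_congr
    have : -i - (c : ℤ) = -(i + c) := by ring
    rw [this]
    exact (dvd_neg).2 hc'
  · rw [hl]
    have h3 : ∀ t : (ZMod p)ˣ, a ((t ^ (-i) : (ZMod p)ˣ) : ZMod p) * l0 (ρ (dg t) x) = l0 x := by
      intro t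
      rw [mem_Wt.1 hx t, map_smul, smul_eq_mul, ← mul_assoc, ← map_mul, ← Units.val_mul, ← _root_.zpow_add,
        neg_add_cancel, zpow_zero, Units.val_one, map_one, one_mul]
    simp only [h3, Finset.sum_const, Finset.card_univ, ZMod.card_units]
    rw [← Nat.cast_smul_eq_nsmul K, Nat.cast_sub (by omega), CharP.cast_eq_zero, Nat.cast_one, zero_sub, neg_smul,
      one_smul, neg_ne_zero]
    exact hl0

end Cfsg.Agent.H892.Weights
end

-- part: H892/QuotBounds
section
/-!
# Fixed points of the element of order three on the quotients defined by invariant functionals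
-/

set_option autoImplicit false

namespace Cfsg.Agent.H892.QuotBounds

open Module Matrix Cfsg.Agent.H892.FixDim Cfsg.Agent.H892.CoprimeChar Cfsg.Agent.H892.RowQuot
open Cfsg.Agent.H892.GLTorus
open Cfsg.Agent.ClassicalGeometry.SplitTorus

variable {p : ℕ} [Fact p.Prime]

theorem exists_theta (hp : 3 < p) (h3 : p % 3 = 2) : ∃ θ ∈ Tor hp (p := p), (∀ t ∈ Tor hp, ∃ k : ℕ, t = θ ^ k) ∧
    ∃ (z : (ZMod p)ˣ) (i : ℕ), θ ^ ((p + 1) / 3) = scal z * SpecialLinearGroup.toGL (y0 hp) ^ i := by
  obtain ⟨⟨θ, hθT⟩, hθ⟩ := (tor_isCyclic hp h3).exists_generator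
  refine ⟨θ, hθT, ?_, ?_⟩
  · intro t ht
    have h1 := hθ ⟨t, ht⟩
    rw [← mem_powers_iff_mem_zpowers] at h1
    obtain ⟨k, hk⟩ := h1
    exact ⟨k, (congrArg Subtype.val hk).symm⟩
  · set n := (p + 1) / 3 with hn
    have hn3 : n * 3 = p + 1 := by omega
    obtain ⟨c, hc⟩ := tor_pow hp h3 hθT
    obtain ⟨z, hz⟩ := exists_cube h3 c
    have hscal : ∀ k : ℕ, (scal z : GG p) ^ k = scal (z ^ k) := fun k => by
      rw [scal, scal, map_pow]
    have hcomm : ∀ g : GG p, Commute (scal z)⁻¹ g := fun g => by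
      have : Commute (scal z) g := scal_comm z g
      exact this.inv_left
    obtain ⟨i, hi⟩ := tor_pow_three hp h3 (t := (scal z)⁻¹ * θ ^ n) (by
        apply mul_mem
        · apply inv_mem
          rw [Tor, Subgroup.mem_centralizer_singleton_iff]
          exact scal_comm z _
        · exact pow_mem hθT n) (by
        rw [(hcomm _).mul_pow, ← pow_mul, hn3, inv_pow, hscal, hz, hc, inv_mul_cancel])
    refine ⟨z, i, ?_⟩
    rw [← hi, mul_inv_cancel_left]

theorem det_norm (M : GG p) : GeneralLinearGroup.det ((dd (GeneralLinearGroup.det M))⁻¹ * M) = 1 := by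
  rw [map_mul, map_inv, det_dd, inv_mul_cancel]

/-- the matrix of determinant one with the same second row -/
noncomputable def sl (M : GG p) : SS p := (exists_sl (det_norm M)).choose

theorem toGL_sl (M : GG p) : SpecialLinearGroup.toGL (sl M) = (dd (GeneralLinearGroup.det M))⁻¹ * M :=
  (exists_sl (det_norm M)).choose_spec

theorem sl_one (M : GG p) (j : Fin 2) : sl M 1 j = M 1 j := by
  have h1 : (SpecialLinearGroup.toGL (sl M) : GG p) 1 j = ((dd (GeneralLinearGroup.det M))⁻¹ * M : GG p) 1 j := by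
    rw [toGL_sl]
  have h2 : (SpecialLinearGroup.toGL (sl M) : GG p) 1 j = sl M 1 j := rfl
  rw [← h2, h1, Units.val_mul, coe_dd_inv, Matrix.mul_apply, Fin.sum_univ_two]
  simp

variable {K V : Type*} [Field K] [AddCommGroup V] [Module K V]
variable {a : ZMod p →+* K} {ρ : Representation K (SS p) V} {l : Module.Dual K V} {c : ℕ}

theorem psi_scal (h : IsRow a ρ l c) (M : GG p) (z : (ZMod p)ˣ) (v : V) :
    l (ρ (sl (M * scal z)) v) = a z ^ c * l (ρ (sl M) v) := by
  have h1 : ∀ j, (M * scal z : GG p) 1 j = z * M 1 j := by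
    intro j
    rw [Units.val_mul, coe_scal, Matrix.mul_apply, Fin.sum_univ_two]
    fin_cases j <;> simp [mul_comm]
  apply h.eval_smul
  · rw [sl_one, sl_one, h1]
  · rw [sl_one, sl_one, h1]

theorem psi_mul (h : IsRow a ρ l c) (M : GG p) (g : SS p) (v : V) :
    l (ρ (sl (M * SpecialLinearGroup.toGL g)) v) = l (ρ (sl M) (ρ g v)) := by
  rw [← Module.End.mul_apply, ← map_mul]
  have h1 : ∀ j, (M * SpecialLinearGroup.toGL g : GG p) 1 j = M 1 0 * g 0 j + M 1 1 * g 1 j := by
    intro j
    rw [Units.val_mul, Matrix.mul_apply, Fin.sum_univ_two]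
    rfl
  apply h.congr
  · rw [sl_one, h1, mul10, sl_one, sl_one]
  · rw [sl_one, h1, mul11, sl_one, sl_one]

/-- A vector which is an eigenvector for `y₀` modulo `WW` is determined by few values. -/
theorem eigen_zero (h : IsRow a ρ l c) (hp : 3 < p) (h3 : p % 3 = 2) {θ : GG p}
    (hθ : ∀ t ∈ Tor hp, ∃ k : ℕ, t = θ ^ k) {z : (ZMod p)ˣ} {i : ℕ}
    (hz : θ ^ ((p + 1) / 3) = scal z * SpecialLinearGroup.toGL (y0 hp) ^ i) {μ : K} {v : V}
    (hv : ∀ g, l (ρ g (ρ (y0 hp) v)) = μ * l (ρ g v))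
    (h0 : ∀ k < (p + 1) / 3, l (ρ (sl (θ ^ k)) v) = 0) (g : SS p) : l (ρ g v) = 0 := by
  have hpow : ∀ (i : ℕ) (M : GG p), l (ρ (sl (M * SpecialLinearGroup.toGL (y0 hp) ^ i)) v) = μ ^ i * l (ρ (sl M) v) := by
    intro i
    induction i with
    | zero => intro M; simp
    | succ i ih =>
      intro M
      rw [pow_succ, ← mul_assoc, psi_mul h, hv, ih, pow_succ]
      ring
  have hall : ∀ k : ℕ, l (ρ (sl (θ ^ k)) v) = 0 := by
    intro k
    induction k using Nat.strong_induction_on with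
    | _ k ih =>
      by_cases hk : k < (p + 1) / 3
      · exact h0 k hk
      · have h1 : θ ^ k = θ ^ (k - (p + 1) / 3) * SpecialLinearGroup.toGL (y0 hp) ^ i * scal z := by
          have h2 : k = k - (p + 1) / 3 + (p + 1) / 3 := by omega
          conv_lhs => rw [h2]
          rw [pow_add, hz, scal_comm, mul_assoc]
        rw [h1, psi_scal h, hpow, ih _ (by omega), mul_zero, mul_zero]
  have hrow : ¬ (g 1 1 = 0 ∧ g 1 0 = 0) := by
    rintro ⟨h1, h2⟩
    have := det_eq g
    rw [h1, h2] at this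
    simp at this
  obtain ⟨t, ht, htm⟩ := exists_tor hp h3 hrow
  obtain ⟨k, hk⟩ := hθ t ht
  have h1 := hall k
  rw [← hk] at h1
  rw [← h1]
  apply h.congr
  · rw [sl_one, htm]
    rfl
  · rw [sl_one, htm]
    rfl

theorem finrank_eigen_le (h : IsRow a ρ l c) (hp : 3 < p) (h3 : p % 3 = 2) (μ : K) (hW : WW ρ l ≤ (WW ρ l).comap (ρ (y0 hp))) :
    finrank K (LinearMap.ker ((WW ρ l).mapQ (WW ρ l) (ρ (y0 hp)) hW - μ • (1 : Module.End K (V ⧸ WW ρ l)))) ≤ (p + 1) / 3 := by
  obtain ⟨θ, _, hθ, z, i, hz⟩ := exists_theta hp h3 (p := p)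
  let L : (V ⧸ WW ρ l) →ₗ[K] (Fin ((p + 1) / 3) → K) :=
    (WW ρ l).liftQ (LinearMap.pi fun k => l ∘ₗ ρ (sl (θ ^ (k : ℕ)))) (by
      intro v hv
      rw [LinearMap.mem_ker]
      funext k
      exact mem_WW.1 hv _)
  have hL : Function.Injective (L ∘ₗ (LinearMap.ker ((WW ρ l).mapQ (WW ρ l) (ρ (y0 hp)) hW -
      μ • (1 : Module.End K (V ⧸ WW ρ l)))).subtype) := by
    rw [← LinearMap.ker_eq_bot, eq_bot_iff]
    rintro ⟨x, hx⟩ hx'
    obtain ⟨v, rfl⟩ := (WW ρ l).mkQ_surjective x
    rw [LinearMap.mem_ker, LinearMap.sub_apply, LinearMap.smul_apply, Module.End.one_apply, Submodule.mkQ_apply,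
      Submodule.mapQ_apply, ← Submodule.Quotient.mk_smul, ← Submodule.Quotient.mk_sub, Submodule.Quotient.mk_eq_zero,
      mem_WW] at hx
    have hx2 : ∀ k : Fin ((p + 1) / 3), l (ρ (sl (θ ^ (k : ℕ))) v) = 0 := fun k => congrFun hx' k
    have hv : v ∈ WW ρ l := by
      rw [mem_WW]
      refine eigen_zero h hp h3 hθ hz (μ := μ) (fun g => ?_) (fun k hk => hx2 ⟨k, hk⟩)
      have := hx g
      rw [map_sub, map_sub, map_smul, map_smul, sub_eq_zero] at this
      exact this
    rw [Submodule.mem_bot]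
    apply Subtype.ext
    change (WW ρ l).mkQ v = 0
    rwa [Submodule.mkQ_apply, Submodule.Quotient.mk_eq_zero]
  have := LinearMap.finrank_le_finrank_of_injective hL
  rwa [Module.finrank_fin_fun] at this

variable [FiniteDimensional K V]

/-- The general bound for the fixed points of `y₀` on the quotient. -/
theorem finrank_quot_le [IsAlgClosed K] (h : IsRow a ρ l c) (hp : 3 < p) (h3 : p % 3 = 2)
    (hW : WW ρ l ≤ (WW ρ l).comap (ρ (y0 hp))) :
    finrank K (V ⧸ WW ρ l) ≤ fx ((WW ρ l).mapQ (WW ρ l) (ρ (y0 hp)) hW) + 2 * ((p + 1) / 3) := by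
  set f := (WW ρ l).mapQ (WW ρ l) (ρ (y0 hp)) hW with hf
  have hf3 : f * (f * f) = 1 := by
    ext x
    have h1 : ρ (y0 hp) (ρ (y0 hp) (ρ (y0 hp) x)) = x := by
      rw [← Module.End.mul_apply, ← Module.End.mul_apply, ← map_mul, ← map_mul, ← pow_two, ← pow_succ,
        y0_pow_three, map_one, Module.End.one_apply]
    change f (f (f ((WW ρ l).mkQ x))) = (WW ρ l).mkQ x
    rw [hf, Submodule.mkQ_apply, Submodule.mapQ_apply, Submodule.mapQ_apply, Submodule.mapQ_apply, h1]
  obtain ⟨ω, hω⟩ := ThreeConf.exists_omega K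
  have hprod : (f - (ω ^ 2) • (1 : Module.End K _)) ∘ₗ ((f - ω • (1 : Module.End K _)) ∘ₗ (f - 1)) = 0 := by
    have h1 : (f - (ω ^ 2) • (1 : Module.End K _)) * ((f - ω • (1 : Module.End K _)) * (f - 1)) = 0 := by
      simp only [sub_mul, mul_sub, smul_mul_assoc, mul_smul_comm, one_mul, mul_one]
      rw [hf3]
      have h3 : ω * ω ^ 2 = 1 := by linear_combination (ω - 1) * hω
      have e3 : ω ^ 2 = -1 - ω := by linear_combination hω
      simp only [smul_sub, smul_smul, h3]
      rw [e3]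
      module
    exact h1
  have h1 := finrank_ker_comp_le (f - (ω ^ 2) • (1 : Module.End K _)) ((f - ω • (1 : Module.End K _)) ∘ₗ (f - 1))
  have h2 := finrank_ker_comp_le (f - ω • (1 : Module.End K _)) (f - 1)
  rw [hprod, LinearMap.ker_zero, finrank_top] at h1
  have h4 := finrank_eigen_le h hp h3 ω hW
  have h5 := finrank_eigen_le h hp h3 (ω ^ 2) hW
  rw [← hf] at h4 h5
  unfold fx
  omega

/-! ### The polynomial case -/

section poly

open Polynomial

omit [FiniteDimensional K V] [AddCommGroup V] [Module K V] in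
theorem hom_X_pow {j : ℕ} (hj : j ≤ c) (x y : K) : hom c (X ^ j) x y = x ^ (c - j) * y ^ j := by
  rw [hom, Finset.sum_eq_single j]
  · simp
  · intro i _ hi
    rw [coeff_X_pow, if_neg hi]
    ring
  · intro h
    exact absurd (Finset.mem_range.2 (Nat.lt_succ_of_le hj)) h

theorem li_X_pow : LinearIndependent K (fun j : Fin (c + 1) => (X ^ (j : ℕ) : K[X])) := by
  rw [Fintype.linearIndependent_iff]
  intro g hg i
  have h1 := congrArg (fun Q : K[X] => Q.coeff i) hg
  simp only [finsetSum_coeff, coeff_smul, coeff_X_pow, coeff_zero, smul_eq_mul, mul_ite, mul_one, mul_zero] at h1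
  rw [Finset.sum_eq_single i] at h1
  · simpa using h1
  · intro j _ hj
    rw [if_neg]
    intro h
    exact hj (Fin.ext h).symm
  · intro h
    exact absurd (Finset.mem_univ _) h

/-- weight spaces of the quotient -/
theorem fx_weight_quot [CharP K p] (h : IsRow a ρ l c) (hc : c < p - 1)
    (hS : ∀ v, ∑ b, l (ρ (gam b) v) = 0) {v : V} (hv : l v ≠ 0) (t : (ZMod p)ˣ) (μ : K)
    {f : V →ₗ[K] V} (hf : f = μ • ρ (dg t)) (hW : WW ρ l ≤ (WW ρ l).comap f) :
    fx ((WW ρ l).mapQ (WW ρ l) f hW) =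
      Nat.card {j : Fin (c + 1) // μ * (a t ^ (c - (j : ℕ)) * a (t⁻¹ : (ZMod p)ˣ) ^ (j : ℕ)) = 1} := by
  refine h.fx_quot hc hS hv (fun j : Fin (c + 1) => (X ^ (j : ℕ) : K[X])) ?_ li_X_pow _ ?_ hf hW
  · intro j
    rw [natDegree_X_pow]
    omega
  · intro j x y
    rw [hom_X_pow (by omega), hom_X_pow (by omega), dg00, dg10, dg01, dg11]
    simp only [mul_zero, add_zero, zero_add, map_mul, mul_pow]
    ring

theorem hom_prod {s : K} {i : ℕ} (hi : i ≤ c) (x y : K) :
    hom c ((X + C s) ^ i * (X - C s) ^ (c - i)) x y = (y + s * x) ^ i * (y - s * x) ^ (c - i) := by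
  have hm : ((X + C s) ^ i * (X - C s) ^ (c - i)).Monic := ((monic_X_add_C s).pow i).mul ((monic_X_sub_C s).pow _)
  have hd : ((X + C s) ^ i * (X - C s) ^ (c - i)).natDegree = c := by
    rw [((monic_X_add_C s).pow i).natDegree_mul ((monic_X_sub_C s).pow _), natDegree_pow, natDegree_pow,
      natDegree_X_add_C, natDegree_X_sub_C]
    omega
  by_cases hx : x = 0
  · rw [hx, hom_zero]
    have : ((X + C s) ^ i * (X - C s) ^ (c - i)).coeff c = 1 := by
      have := hm.coeff_natDegree
      rwa [hd] at this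
    rw [this, mul_zero, add_zero, sub_zero, mul_one, ← pow_add]
    congr 1
    omega
  · rw [hom_of_ne hd.le hx]
    simp only [eval_mul, eval_pow, eval_add, eval_sub, eval_X, eval_C]
    have h1 : x ^ c = x ^ i * x ^ (c - i) := by
      rw [← pow_add]
      congr 1
      omega
    rw [h1]
    calc x ^ i * x ^ (c - i) * ((y / x + s) ^ i * (y / x - s) ^ (c - i))
        = (x * (y / x + s)) ^ i * (x * (y / x - s)) ^ (c - i) := by rw [mul_pow, mul_pow]; ring
      _ = _ := by
        congr 2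
        · field_simp
        · field_simp

theorem li_prod_aux {s : K} (hs : 2 * s ≠ 0) (c : ℕ) : ∀ e : ℕ → K,
    ∑ i ∈ Finset.range (c + 1), C (e i) * ((X + C s) ^ i * (X - C s) ^ (c - i)) = 0 → ∀ i ≤ c, e i = 0 := by
  induction c with
  | zero =>
    intro e he i hi
    have : i = 0 := by omega
    subst this
    simpa using he
  | succ c ih =>
    intro e he
    have h0 : e 0 = 0 := by
      have h1 := congrArg (fun Q : K[X] => Q.eval (-s)) he
      simp only [eval_finsetSum, eval_mul, eval_C, eval_pow, eval_add, eval_sub, eval_X, neg_add_cancel, eval_zero] at h1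
      rw [Finset.sum_eq_single 0] at h1
      · rw [pow_zero, one_mul, Nat.sub_zero] at h1
        have h2 : (-s - s) ^ (c + 1) ≠ 0 := by
          apply pow_ne_zero
          intro h
          apply hs
          linear_combination -h
        exact (mul_eq_zero.1 h1).resolve_right h2
      · intro j _ hj
        rw [zero_pow hj]
        ring
      · intro h
        simp only [_root_.Finset.mem_range, _root_.lt_add_iff_pos_left, _root_.add_pos_iff, _root_.Order.lt_two_iff, _root_.zero_le, _root_.or_true, _root_.not_true_eq_false] at h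
    have h1 : (X + C s) * ∑ i ∈ Finset.range (c + 1), C (e (i + 1)) * ((X + C s) ^ i * (X - C s) ^ (c - i)) = 0 := by
      rw [← he, Finset.sum_range_succ' _ (c + 1), h0, C_0, zero_mul, add_zero, Finset.mul_sum]
      refine Finset.sum_congr rfl fun i _ => ?_
      have h2 : c + 1 - (i + 1) = c - i := by omega
      rw [h2, pow_succ]
      ring
    have h2 : ∑ i ∈ Finset.range (c + 1), C (e (i + 1)) * ((X + C s) ^ i * (X - C s) ^ (c - i)) = 0 :=
      (mul_eq_zero.1 h1).resolve_left (X_add_C_ne_zero s)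
    have h3 := ih (fun i => e (i + 1)) h2
    intro i hi
    rcases Nat.eq_zero_or_pos i with hi0 | hi0
    · rw [hi0, h0]
    · have := h3 (i - 1) (by omega)
      rwa [Nat.sub_add_cancel hi0] at this

theorem li_prod {s : K} (hs : 2 * s ≠ 0) :
    LinearIndependent K (fun i : Fin (c + 1) => ((X + C s) ^ (i : ℕ) * (X - C s) ^ (c - (i : ℕ)) : K[X])) := by
  rw [Fintype.linearIndependent_iff]
  intro g hg i
  have h1 := li_prod_aux hs c (fun j => if h : j < c + 1 then g ⟨j, h⟩ else 0) (by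
    rw [← Fin.sum_univ_eq_sum_range (fun i => C (if h : i < c + 1 then g ⟨i, h⟩ else 0) *
      ((X + C s) ^ i * (X - C s) ^ (c - i))) (c + 1), ← hg]
    refine Finset.sum_congr rfl fun j _ => ?_
    rw [dif_pos j.2, smul_eq_C_mul]) i (by omega)
  rwa [dif_pos i.2] at h1

/-- the fixed points of `y₀` on the quotient -/
theorem fx_y0_quot [CharP K p] (hp : 3 < p) (h : IsRow a ρ l c) (hc : c < p - 1)
    (hS : ∀ v, ∑ b, l (ρ (gam b) v) = 0) {v : V} (hv : l v ≠ 0) {s : K} (hs : s ^ 2 = -3)
    {f : V →ₗ[K] V} (hf : f = ρ (y0 hp)) (hW : WW ρ l ≤ (WW ρ l).comap f) :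
    fx ((WW ρ l).mapQ (WW ρ l) f hW) =
      Nat.card {i : Fin (c + 1) // ((s - 1) / 2) ^ ((i : ℕ) + 2 * (c - (i : ℕ))) = 1} := by
  have ha2 : (2 : K) ≠ 0 := by
    have := _root_.Cfsg.Agent.H892.GLTorus.two_ne_zero' hp
    rw [← map_ofNat a, Ne, map_eq_zero]
    exact this
  have ha3 : (3 : K) ≠ 0 := by
    have := _root_.Cfsg.Agent.H892.GLTorus.three_ne_zero' hp
    rw [← map_ofNat a, Ne, map_eq_zero]
    exact this
  have hs2 : 2 * s ≠ 0 := by
    intro h1
    rcases mul_eq_zero.1 h1 with h2 | h2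
    · exact ha2 h2
    · rw [h2] at hs
      apply ha3
      linear_combination hs
  have h1 := h.fx_quot hc hS hv (k := y0 hp) (μ := 1)
    (fun i : Fin (c + 1) => ((X + C s) ^ (i : ℕ) * (X - C s) ^ (c - (i : ℕ)) : K[X])) (by
      intro i
      apply natDegree_mul_le.trans
      apply (Nat.add_le_add natDegree_pow_le natDegree_pow_le).trans
      rw [natDegree_X_add_C, natDegree_X_sub_C]
      omega) (li_prod hs2) (fun i => ((s - 1) / 2) ^ ((i : ℕ) + 2 * (c - (i : ℕ)))) (by
      intro i x y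
      have hi : (i : ℕ) ≤ c := by omega
      rw [hom_prod hi, hom_prod hi]
      have e00 : (y0 hp) 0 0 = (-1 / 2 : ZMod p) := rfl
      have e01 : (y0 hp) 0 1 = (-3 * (1 / 2) : ZMod p) := rfl
      have e10 : (y0 hp) 1 0 = (1 / 2 : ZMod p) := rfl
      have e11 : (y0 hp) 1 1 = (-1 / 2 : ZMod p) := rfl
      rw [e00, e01, e10, e11]
      simp only [map_add, map_mul, map_div₀, map_neg, map_one, map_ofNat]
      have f1 : a x * (-3 * (1 / 2)) + a y * (-1 / 2) + s * (a x * (-1 / 2) + a y * (1 / 2)) =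
          ((s - 1) / 2) * (a y + s * a x) := by
        field_simp
        linear_combination (-a x) * hs
      have f2 : a x * (-3 * (1 / 2)) + a y * (-1 / 2) - s * (a x * (-1 / 2) + a y * (1 / 2)) =
          ((s - 1) / 2) ^ 2 * (a y - s * a x) := by
        field_simp
        linear_combination (-a x * (2 - s) - a y) * hs
      rw [f1, f2, mul_pow, mul_pow, pow_add, pow_mul]
      ring) (f := f) (by rw [hf, one_smul]) hW
  rw [h1]
  simp only [one_mul]

end poly

end Cfsg.Agent.H892.QuotBounds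
end

-- part: H892/WeightsDim
section
/-!
# Dimensions of weight spaces, duals and quotients
-/

set_option autoImplicit false

namespace Cfsg.Agent.H892.WeightsDim

open Module Matrix Cfsg.Agent.H892.FixDim Cfsg.Agent.H892.CoprimeChar Cfsg.Agent.H892.RowQuot
open Cfsg.Agent.H892.GLTorus Cfsg.Agent.H892.Weights Cfsg.Agent.H892.QuotBounds
open Cfsg.Agent.ClassicalGeometry.SplitTorus

variable {p : ℕ} [Fact p.Prime]
variable {K V : Type*} [Field K] [AddCommGroup V] [Module K V]

/-- The operator whose fixed space is a weight space. -/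
noncomputable def wf (a : ZMod p →+* K) (ρ : Representation K (SS p) V) (t : (ZMod p)ˣ) (i : ℤ) : Module.End K V :=
  a ((t ^ (-i) : (ZMod p)ˣ) : ZMod p) • ρ (dg t)

variable {a : ZMod p →+* K} {ρ : Representation K (SS p) V}

theorem ker_wf {t : (ZMod p)ˣ} (ht : ∀ s : (ZMod p)ˣ, ∃ k : ℕ, s = t ^ k) (i : ℤ) :
    LinearMap.ker (wf a ρ t i - 1) = Wt a ρ i := by
  ext v
  rw [mem_ker_sub_one, mem_Wt, wf, LinearMap.smul_apply]
  constructor
  · intro h
    have h1 : ρ (dg t) v = a ((t ^ i : (ZMod p)ˣ) : ZMod p) • v := by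
      conv_rhs => rw [← h]
      rw [smul_smul, ← map_mul, ← Units.val_mul, ← _root_.zpow_add, add_neg_cancel, zpow_zero, Units.val_one, map_one,
        one_smul]
    intro s
    obtain ⟨k, rfl⟩ := ht s
    induction k with
    | zero => simp only [dg_one, _root_.pow_zero, _root_.map_one, _root_.Module.End.one_apply, _root_.one_zpow, _root_.Units.val_one, _root_.one_smul]
    | succ k ih =>
      rw [pow_succ, dg_mul, map_mul, Module.End.mul_apply, h1, map_smul, ih, smul_smul, ← map_mul, ← Units.val_mul,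
        mul_comm, ← mul_zpow]
  · intro h
    rw [h t, smul_smul, ← map_mul, ← Units.val_mul, ← _root_.zpow_add, neg_add_cancel, zpow_zero, Units.val_one, map_one,
        one_smul]

theorem fx_wf {t : (ZMod p)ˣ} (ht : ∀ s : (ZMod p)ˣ, ∃ k : ℕ, s = t ^ k) (i : ℤ) :
    fx (wf a ρ t i) = finrank K (Wt a ρ i) := by
  rw [fx, ker_wf ht]

theorem wf_pow (t : (ZMod p)ˣ) (i : ℤ) : (wf a ρ t i) ^ (p - 1) = 1 := by
  rw [wf, smul_pow, ← map_pow, ← Units.val_pow_eq_pow_val, ZMod.units_pow_card_sub_one_eq_one, Units.val_one, map_one,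
    one_smul, ← map_pow]
  have h1 : ∀ k : ℕ, dg t ^ k = dg (t ^ k) := by
    intro k
    induction k with
    | zero => simp [dg_one]
    | succ k ih => rw [pow_succ, ih, ← dg_mul, pow_succ]
  rw [h1, ZMod.units_pow_card_sub_one_eq_one, dg_one, map_one]

/-! ### Duals -/

theorem up_fix {v : V} (hv : ρ (up 1) v = v) (b : ZMod p) : ρ (up b) v = v := by
  have h3 : ∀ (k : ℕ), ρ (up (k : ZMod p)) v = v := by
    intro k
    induction k with
    | zero => rw [Nat.cast_zero, up_zero, map_one, Module.End.one_apply]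
    | succ k ih =>
      rw [Nat.cast_succ, up_add, map_mul, Module.End.mul_apply, hv, ih]
  rw [← ZMod.natCast_zmod_val b]
  exact h3 _

theorem exists_dual_isRow {i : ℤ} {v : V} (hv : v ∈ Wt a ρ i) (hv1 : ρ (up 1) v = v) (hv0 : v ≠ 0) :
    ∃ (l : Module.Dual K (Module.Dual K V)) (c : ℕ), IsRow a ρ.dual l c ∧ c < p - 1 ∧
      ((p - 1 : ℕ) : ℤ) ∣ (i - c) ∧ l ≠ 0 := by
  obtain ⟨c, hc, hc'⟩ := exists_res p (-i)
  have hdvd : ((p - 1 : ℕ) : ℤ) ∣ (i - c) := by
    have : i - (c : ℤ) = -(-i + c) := by ring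
    rw [this]
    exact (dvd_neg).2 hc'
  refine ⟨Module.Dual.eval K V v, c, ⟨?_, ?_⟩, hc, hdvd, ?_⟩
  · intro b φ
    rw [Module.Dual.eval_apply, Module.Dual.eval_apply, Representation.dual_apply, Module.Dual.transpose_apply,
      LinearMap.comp_apply, ← up_neg, up_fix hv1]
  · intro t φ
    rw [Module.Dual.eval_apply, Module.Dual.eval_apply, Representation.dual_apply, Module.Dual.transpose_apply,
      LinearMap.comp_apply, inv_inv, mem_Wt.1 hv, map_smul, smul_eq_mul, ← map_pow, ← Units.val_pow_eq_pow_val,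
      zpow_congr t hdvd, zpow_natCast]
  · intro h
    apply hv0
    rw [← Module.forall_dual_apply_eq_zero_iff K]
    intro φ
    rw [← Module.Dual.eval_apply, h, LinearMap.zero_apply]

theorem fx_inv {G : Type*} [Group G] (ρ : Representation K G V) (g : G) : fx (ρ g⁻¹) = fx (ρ g) := by
  have : LinearMap.ker (ρ g⁻¹ - 1) = LinearMap.ker (ρ g - 1) := by
    ext v
    rw [mem_ker_sub_one, mem_ker_sub_one]
    constructor
    · intro h
      have : ρ g (ρ g⁻¹ v) = v := by rw [← Module.End.mul_apply, ← map_mul, mul_inv_cancel, map_one, Module.End.one_apply]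
      rwa [h] at this
    · intro h
      have : ρ g⁻¹ (ρ g v) = v := by rw [← Module.End.mul_apply, ← map_mul, inv_mul_cancel, map_one, Module.End.one_apply]
      rwa [h] at this
  rw [fx, fx, this]

theorem fx_dual [FiniteDimensional K V] {G : Type*} [Group G] (ρ : Representation K G V) (g : G) :
    fx (ρ.dual g) = fx (ρ g) := by
  rw [← fx_inv ρ g, ← fx_dualMap (ρ g⁻¹)]
  rfl

/-! ### Nilpotency on quotients -/

theorem le_finrank_of_pow_ne_zero [FiniteDimensional K V] {g : Module.End K V} {n m : ℕ} (hm : g ^ m = 0) (hn : g ^ n ≠ 0) :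
    n + 1 ≤ finrank K V := by
  by_contra hcon
  push Not at hcon
  have h1 : finrank K V ≤ n := by omega
  apply hn
  rcases Nat.lt_or_ge m n with h | h
  · have : n = m + (n - m) := by omega
    rw [this, pow_add, hm, zero_mul]
  · have h2 := Module.End.ker_pow_eq_ker_pow_finrank_of_le (f := g) h1
    have h3 := Module.End.ker_pow_eq_ker_pow_finrank_of_le (f := g) (h1.trans h)
    rw [hm, LinearMap.ker_zero] at h3
    rw [← h3] at h2
    exact LinearMap.ker_eq_top.1 h2

open Polynomial in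
theorem sum_up [CharP K p] : ∑ b : ZMod p, ρ (up b) = (ρ (up 1) - 1 : Module.End K V) ^ (p - 1) := by
  have hp := (Fact.out : p.Prime).two_le
  have h1 : ∑ k ∈ Finset.range p, (X : K[X]) ^ k = (X - 1) ^ (p - 1) := by
    have h2 : (X - 1 : K[X]) ≠ 0 := by
      have := X_sub_C_ne_zero (1 : K)
      rwa [C_1] at this
    apply mul_left_cancel₀ h2
    rw [mul_geom_sum, ← pow_succ', Nat.sub_add_cancel (by omega), sub_pow_char, one_pow]
  have h3 := congrArg (aeval (ρ (up 1))) h1
  simp only [map_sum, map_pow, aeval_X, map_sub, map_one] at h3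
  rw [← h3]
  refine Finset.sum_bij' (fun b _ => b.val) (fun k _ => (k : ZMod p)) ?_ ?_ ?_ ?_ ?_
  · intro b _
    exact Finset.mem_range.2 (ZMod.val_lt b)
  · intro k _
    exact Finset.mem_univ _
  · intro b _
    exact ZMod.natCast_zmod_val b
  · intro k hk
    exact ZMod.val_natCast_of_lt (Finset.mem_range.1 hk)
  · intro b _
    rw [← map_pow, up_pow, ZMod.natCast_zmod_val, mul_one]

/-! ### Case A -/

variable {l : Module.Dual K V} {c : ℕ}

theorem caseA_pow [CharP K p] {v : V} (hv : ∑ b, l (ρ (gam b) v) ≠ 0) :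
    l (ρ (gam 0) (((ρ (up 1) - 1 : Module.End K V) ^ (p - 1)) v)) ≠ 0 := by
  rw [← sum_up, LinearMap.sum_apply, map_sum, map_sum]
  have h1 : ∀ b : ZMod p, l (ρ (gam 0) (ρ (up b) v)) = l (ρ (gam b) v) := by
    intro b
    rw [← Module.End.mul_apply, ← map_mul, gam_mul_up, zero_add]
  simp only [h1]
  exact hv

theorem caseA_ne [CharP K p] {v : V} (hv : ∑ b, l (ρ (gam b) v) ≠ 0) :
    (ρ (up 1) - 1 : Module.End K V) ^ (p - 1) ≠ 0 := by
  intro h
  apply caseA_pow hv
  rw [h, LinearMap.zero_apply, map_zero, map_zero]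

theorem mapQ_sub_pow (W : Submodule K V) (g : Module.End K V) (hW : W ≤ W.comap g) (k : ℕ) (v : V) :
    ((W.mapQ W g hW - 1 : Module.End K (V ⧸ W)) ^ k) (W.mkQ v) = W.mkQ (((g - 1) ^ k) v) := by
  induction k with
  | zero => simp only [_root_.pow_zero, _root_.Submodule.mkQ_apply, _root_.Module.End.one_apply]
  | succ k ih =>
    rw [pow_succ', pow_succ', Module.End.mul_apply, Module.End.mul_apply, ih, LinearMap.sub_apply,
      Module.End.one_apply, LinearMap.sub_apply, Module.End.one_apply, map_sub]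
    rfl

theorem caseA_finrank [CharP K p] [FiniteDimensional K V] {v : V} (hv : ∑ b, l (ρ (gam b) v) ≠ 0) :
    p ≤ finrank K (V ⧸ WW ρ l) := by
  have hp := (Fact.out : p.Prime).two_le
  have h1 := le_finrank_of_pow_ne_zero (g := ((WW ρ l).mapQ (WW ρ l) (ρ (up 1)) (WW_inv _) - 1 : Module.End K (V ⧸ WW ρ l)))
    (m := p) (n := p - 1) (by
      apply LinearMap.ext
      intro x
      obtain ⟨w, rfl⟩ := (WW ρ l).mkQ_surjective x
      rw [mapQ_sub_pow, up_one_pow_p, LinearMap.zero_apply, map_zero, LinearMap.zero_apply]) (by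
      intro h
      have h2 := mapQ_sub_pow (WW ρ l) (ρ (up 1)) (WW_inv _) (p - 1) v
      rw [h, LinearMap.zero_apply, eq_comm, Submodule.mkQ_apply, Submodule.Quotient.mk_eq_zero, mem_WW] at h2
      exact caseA_pow hv (h2 _))
  omega

theorem caseA_bound [CharP K p] [IsAlgClosed K] [FiniteDimensional K V] (hp : 11 ≤ p) (h3 : p % 3 = 2)
    (h : IsRow a ρ l c) {v : V} (hv : ∑ b, l (ρ (gam b) v) ≠ 0)
    (hW : WW ρ l ≤ (WW ρ l).comap (ρ (y0 (by omega)))) :
    finrank K (V ⧸ WW ρ l) ≤ 4 * fx ((WW ρ l).mapQ (WW ρ l) (ρ (y0 (by omega))) hW) := by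
  have h1 := caseA_finrank (l := l) (ρ := ρ) hv
  have h2 := finrank_quot_le h (by omega) h3 hW
  omega

/-! ### Case B -/

/-- the number of fixed eigenvectors -/
def nu (c : ℕ) : ℕ := ((Finset.range (c + 1)).filter (fun i => (i + 2 * (c - i)) % 3 = 0)).card

theorem nu_add_three (c : ℕ) : nu (c + 3) = nu c + 1 := by
  unfold nu
  have h0 : c + 3 + 1 = c + 1 + 1 + 1 + 1 := by ring
  rw [h0, Finset.range_add_one (n := c + 1 + 1 + 1), Finset.range_add_one (n := c + 1 + 1),
    Finset.range_add_one (n := c + 1), Finset.filter_insert, Finset.filter_insert, Finset.filter_insert]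
  have h1 : (Finset.range (c + 1)).filter (fun i => (i + 2 * (c + 3 - i)) % 3 = 0) =
      (Finset.range (c + 1)).filter (fun i => (i + 2 * (c - i)) % 3 = 0) := by
    apply Finset.filter_congr
    intro i hi
    rw [Finset.mem_range] at hi
    omega
  rw [h1]
  have hn : ∀ k, c + 1 ≤ k → k ∉ (Finset.range (c + 1)).filter (fun i => (i + 2 * (c - i)) % 3 = 0) := by
    intro k hk h
    have := Finset.mem_range.1 (Finset.mem_filter.1 h).1
    omega
  have hmod : c % 3 = 0 ∨ c % 3 = 1 ∨ c % 3 = 2 := by omega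
  rcases hmod with h | h | h
  · rw [if_pos (by omega), if_neg (by omega), if_neg (by omega), Finset.card_insert_of_notMem (hn _ (by omega))]
  · rw [if_neg (by omega), if_neg (by omega), if_pos (by omega), Finset.card_insert_of_notMem (hn _ (by omega))]
  · rw [if_neg (by omega), if_pos (by omega), if_neg (by omega), Finset.card_insert_of_notMem (hn _ (by omega))]

theorem nu_bound (c : ℕ) (h1 : c ≠ 1) (h4 : c ≠ 4) : c + 1 ≤ 4 * nu c := by
  induction c using Nat.strong_induction_on with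
  | _ c ih =>
    by_cases h0 : c = 0
    · subst h0; decide
    by_cases h2 : c = 2
    · subst h2; decide
    by_cases h7 : c = 7
    · subst h7; decide
    obtain ⟨d, rfl⟩ : ∃ d, c = d + 3 := ⟨c - 3, by omega⟩
    have := ih d (by omega) (by omega) (by omega)
    rw [nu_add_three]
    omega

theorem nu_four : nu 4 = 1 := by decide

theorem caseB_ne [CharP K p] (h : IsRow a ρ l c) (hc : c < p - 1)
    (hS : ∀ v, ∑ b, l (ρ (gam b) v) = 0) (hl : l ≠ 0) : (ρ (up 1) - 1 : Module.End K V) ^ c ≠ 0 := by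
  obtain ⟨v, hv⟩ : ∃ v, l v ≠ 0 := by
    by_contra hcon
    push Not at hcon
    exact hl (LinearMap.ext hcon)
  intro h0
  have h1 := (h.delta_pow hc hS hv (le_refl c)).2
  rw [h0, LinearMap.zero_apply, map_zero] at h1
  exact h1 rfl

theorem caseB_y [CharP K p] [IsAlgClosed K] [FiniteDimensional K V] (hp : 3 < p) (h : IsRow a ρ l c) (hc : c < p - 1)
    (hS : ∀ v, ∑ b, l (ρ (gam b) v) = 0) {v : V} (hv : l v ≠ 0)
    (hW : WW ρ l ≤ (WW ρ l).comap (ρ (y0 hp))) :
    fx ((WW ρ l).mapQ (WW ρ l) (ρ (y0 hp)) hW) = nu c := by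
  obtain ⟨s, hs⟩ : ∃ s : K, s ^ 2 = -3 := IsAlgClosed.exists_pow_nat_eq _ (by norm_num)
  have ha2 : (2 : K) ≠ 0 := by
    have := _root_.Cfsg.Agent.H892.GLTorus.two_ne_zero' hp
    rw [← map_ofNat a, Ne, map_eq_zero]
    exact this
  have ha3 : (3 : K) ≠ 0 := by
    have := _root_.Cfsg.Agent.H892.GLTorus.three_ne_zero' hp
    rw [← map_ofNat a, Ne, map_eq_zero]
    exact this
  have hord : orderOf ((s - 1) / 2) = 3 := by
    have : Fact (Nat.Prime 3) := ⟨by norm_num⟩
    apply orderOf_eq_prime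
    · field_simp
      linear_combination (s - 3) * hs
    · intro h1
      rw [div_eq_one_iff_eq ha2] at h1
      have h2 : s = 3 := by linear_combination h1
      rw [h2] at hs
      have h3 : (2 : K) * 2 * 3 = 0 := by linear_combination hs
      exact (mul_ne_zero (mul_ne_zero ha2 ha2) ha3) h3
  rw [fx_y0_quot hp h hc hS hv hs rfl hW]
  have h1 : ∀ i : Fin (c + 1), ((s - 1) / 2) ^ ((i : ℕ) + 2 * (c - (i : ℕ))) = 1 ↔ ((i : ℕ) + 2 * (c - (i : ℕ))) % 3 = 0 := by
    intro i
    rw [← orderOf_dvd_iff_pow_eq_one, hord, Nat.dvd_iff_mod_eq_zero]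
  rw [Nat.card_congr (Equiv.subtypeEquivRight h1), Nat.card_eq_fintype_card, Fintype.card_subtype, nu]
  rw [Finset.card_filter, Finset.card_filter, Finset.sum_range]

theorem caseB_wt [CharP K p] [FiniteDimensional K V] (h : IsRow a ρ l c) (hc : c < p - 1)
    (hS : ∀ v, ∑ b, l (ρ (gam b) v) = 0) {v : V} (hv : l v ≠ 0) {t : (ZMod p)ˣ}
    (ht : ∀ s : (ZMod p)ˣ, ∃ k : ℕ, s = t ^ k) (i : ℤ)
    (hW : WW ρ l ≤ (WW ρ l).comap (wf a ρ t i)) :
    fx ((WW ρ l).mapQ (WW ρ l) (wf a ρ t i) hW) =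
      Nat.card {j : Fin (c + 1) // ((p - 1 : ℕ) : ℤ) ∣ ((c : ℤ) - 2 * (j : ℕ) - i)} := by
  rw [fx_weight_quot h hc hS hv t (a ((t ^ (-i) : (ZMod p)ˣ) : ZMod p)) (f := wf a ρ t i) rfl hW]
  have hord : orderOf t = p - 1 := by
    rw [← ZMod.card_units p, ← Nat.card_eq_fintype_card]
    apply orderOf_eq_card_of_forall_mem_zpowers
    intro s
    obtain ⟨k, rfl⟩ := ht s
    exact Subgroup.npow_mem_zpowers t k
  apply Nat.card_congr
  apply Equiv.subtypeEquivRight
  intro j
  rw [← hord, orderOf_dvd_iff_zpow_eq_one]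
  have hj : (j : ℕ) ≤ c := by omega
  have h1 : a ((t ^ (-i) : (ZMod p)ˣ) : ZMod p) * (a t ^ (c - (j : ℕ)) * a (t⁻¹ : (ZMod p)ˣ) ^ (j : ℕ)) =
      a ((t ^ ((c : ℤ) - 2 * (j : ℕ) - i) : (ZMod p)ˣ) : ZMod p) := by
    rw [← map_pow, ← map_pow, ← map_mul, ← map_mul, ← Units.val_pow_eq_pow_val, ← Units.val_pow_eq_pow_val,
      ← Units.val_mul, ← Units.val_mul]
    congr 2
    rw [inv_pow, ← zpow_natCast, ← zpow_natCast, ← _root_.zpow_neg, ← _root_.zpow_add, ← _root_.zpow_add]
    congr 1
    rw [Nat.cast_sub hj]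
    ring
  rw [h1]
  constructor
  · intro h2
    rw [← map_one a] at h2
    have h3 := a.injective h2
    rwa [Units.val_eq_one] at h3
  · intro h2
    rw [h2, Units.val_one, map_one]

end Cfsg.Agent.H892.WeightsDim
end

-- part: H892/DefChar
section
/-!
# Fixed points in the defining characteristic: `dim V ≤ 2 dim C_V(u) + 4 dim C_V(y)` for `SL₂(p)`
-/

set_option autoImplicit false

namespace Cfsg.Agent.H892.DefChar

open Module Matrix Cfsg.Agent.H892.FixDim Cfsg.Agent.H892.CoprimeChar Cfsg.Agent.H892.RowQuot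
open Cfsg.Agent.H892.GLTorus Cfsg.Agent.H892.Weights Cfsg.Agent.H892.QuotBounds Cfsg.Agent.H892.WeightsDim
open Cfsg.Agent.ClassicalGeometry.SplitTorus

variable {p : ℕ} [Fact p.Prime]

section basics

variable {K V : Type*} [Field K] [AddCommGroup V] [Module K V]
variable {a : ZMod p →+* K} {ρ : Representation K (SS p) V} {l : Module.Dual K V} {c : ℕ}

/-- the restriction to the kernel -/
noncomputable def sub (ρ : Representation K (SS p) V) (l : Module.Dual K V) : Representation K (SS p) (WW ρ l) :=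
  ρ.subrepresentation (WW ρ l) (fun g => WW_inv g)

omit [Fact p.Prime] in
theorem sub_apply (g : SS p) : sub ρ l g = (ρ g).restrict (WW_inv g) := rfl

theorem exists_row [CharP K p] [Nontrivial V] : ∃ (l : Module.Dual K V) (c : ℕ), IsRow a ρ l c ∧ c < p - 1 ∧ l ≠ 0 := by
  have h1 : LinearMap.range (ρ (up 1) - 1 : Module.End K V) ≠ ⊤ := by
    intro h
    rw [LinearMap.range_eq_top] at h
    have h2 : ∀ k : ℕ, Function.Surjective ((ρ (up 1) - 1 : Module.End K V) ^ k) := by
      intro k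
      induction k with
      | zero => intro x; exact ⟨x, by simp⟩
      | succ k ih =>
        rw [pow_succ]
        exact ih.comp h
    obtain ⟨x, hx⟩ := exists_ne (0 : V)
    obtain ⟨y, hy⟩ := h2 p x
    rw [up_one_pow_p, LinearMap.zero_apply] at hy
    exact hx hy.symm
  obtain ⟨i, x, hx, hx'⟩ := exists_pr_notMem (a := a) (ρ := ρ) _ h1
  obtain ⟨l, c, h2, h3, _, h4⟩ := exists_isRow hx hx'
  refine ⟨l, c, h2, h3, ?_⟩
  rintro rfl
  exact h4 rfl

theorem exists_ne_of_ne {l : Module.Dual K V} (hl : l ≠ 0) : ∃ v, l v ≠ 0 := by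
  by_contra hcon
  push Not at hcon
  exact hl (LinearMap.ext hcon)

theorem row_parity (h : IsRow a ρ l c) (hl : l ≠ 0) {ε : K} (hε : ρ (dg (-1)) = ε • 1) : (-1 : K) ^ c = ε := by
  obtain ⟨v, hv⟩ := exists_ne_of_ne hl
  have h1 := h.dg_act (-1) v
  have h2 : (dg (-1 : (ZMod p)ˣ))⁻¹ = dg (-1) := by
    rw [← dg_inv]
    congr 1
  rw [h2, hε, LinearMap.smul_apply, Module.End.one_apply, map_smul, smul_eq_mul] at h1
  have h3 := mul_right_cancel₀ hv h1
  rw [h3]
  simp only [_root_.Units.val_neg, _root_.Units.val_one, _root_.map_neg, _root_.map_one]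

variable [FiniteDimensional K V]

omit [Fact p.Prime] in
theorem finrank_WW_lt (hl : l ≠ 0) : finrank K (WW ρ l) < finrank K V := by
  apply Submodule.finrank_lt
  intro h
  obtain ⟨v, hv⟩ := exists_ne_of_ne hl
  have h1 : v ∈ WW ρ l := by rw [h]; trivial
  have h2 := mem_WW.1 h1 1
  rw [map_one, Module.End.one_apply] at h2
  exact hv h2

omit [FiniteDimensional K V] in
theorem wf_le_comap (t : (ZMod p)ˣ) (i : ℤ) : WW ρ l ≤ (WW ρ l).comap (wf a ρ t i) := by
  intro v hv
  rw [Submodule.mem_comap]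
  exact Submodule.smul_mem _ _ (WW_inv _ hv)

theorem fx_wf_add [CharP K p] (t : (ZMod p)ˣ) (i : ℤ) :
    fx (wf a ρ t i) = fx (wf a (sub ρ l) t i) + fx ((WW ρ l).mapQ (WW ρ l) (wf a ρ t i) (wf_le_comap t i)) := by
  have hp := (Fact.out : p.Prime).two_le
  exact fx_add (n := p - 1) (by
    rw [Nat.cast_sub (by omega), CharP.cast_eq_zero, Nat.cast_one, zero_sub]
    exact neg_ne_zero.2 one_ne_zero) (wf a ρ t i) (wf_pow t i) (WW ρ l) (wf_le_comap t i)

theorem fx_y0_add [CharP K p] (hp : 3 < p) :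
    fx (ρ (y0 hp)) = fx (sub ρ l (y0 hp)) + fx ((WW ρ l).mapQ (WW ρ l) (ρ (y0 hp)) (WW_inv _)) := by
  refine fx_add (n := 3) ?_ (ρ (y0 hp)) ?_ (WW ρ l) (WW_inv _)
  · rw [Ne, CharP.cast_eq_zero_iff K p]
    intro h
    have := Nat.le_of_dvd (by norm_num) h
    omega
  · rw [← map_pow, y0_pow_three, map_one]

omit [FiniteDimensional K V] in
theorem finset_exists (p : ℕ) [Fact p.Prime] : ∃ t : (ZMod p)ˣ, ∀ s : (ZMod p)ˣ, ∃ k : ℕ, s = t ^ k := by
  obtain ⟨t, ht⟩ := IsCyclic.exists_generator (α := (ZMod p)ˣ)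
  refine ⟨t, fun s => ?_⟩
  have := ht s
  rw [← mem_powers_iff_mem_zpowers] at this
  obtain ⟨k, hk⟩ := this
  exact ⟨k, hk.symm⟩

/-! ### Bounds for the quotients -/

theorem quot_bound [CharP K p] [IsAlgClosed K] (hp : 11 ≤ p) (h3 : p % 3 = 2)
    (h : IsRow a ρ l c) (hc : c < p - 1) (hl : l ≠ 0) (hc1 : c ≠ 1) (hc4 : c ≠ 4) :
    finrank K (V ⧸ WW ρ l) ≤ 4 * fx ((WW ρ l).mapQ (WW ρ l) (ρ (y0 (by omega))) (WW_inv _)) := by
  have hp3 : 3 < p := by omega
  obtain ⟨v, hv⟩ := exists_ne_of_ne hl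
  by_cases hS : ∀ v, ∑ b, l (ρ (gam b) v) = 0
  · rw [h.finrank_quot hc hS hv, caseB_y hp3 h hc hS hv]
    exact nu_bound c hc1 hc4
  · push Not at hS
    obtain ⟨w, hw⟩ := hS
    exact caseA_bound hp h3 h hw _

theorem quot_even [CharP K p] [IsAlgClosed K] (hp : 11 ≤ p) (h3 : p % 3 = 2)
    (h : IsRow a ρ l c) (hc : c < p - 1) (hl : l ≠ 0) (hρ : ρ (dg (-1)) = 1) {t : (ZMod p)ˣ}
    (ht : ∀ s : (ZMod p)ˣ, ∃ k : ℕ, s = t ^ k) :
    finrank K (V ⧸ WW ρ l) ≤ 4 * fx ((WW ρ l).mapQ (WW ρ l) (ρ (y0 (by omega))) (WW_inv _)) +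
      fx ((WW ρ l).mapQ (WW ρ l) (wf a ρ t 0) (wf_le_comap t 0)) := by
  have hp3 : 3 < p := by omega
  have hpar := row_parity h hl (ε := 1) (by rw [hρ, one_smul])
  have h2 : (2 : K) ≠ 0 := by
    have := _root_.Cfsg.Agent.H892.GLTorus.two_ne_zero' hp3
    rw [← map_ofNat a, Ne, map_eq_zero]
    exact this
  have heven : Even c := by
    rcases Nat.even_or_odd c with h1 | h1
    · exact h1
    · exfalso
      rw [h1.neg_one_pow] at hpar
      apply h2
      linear_combination -hpar
  by_cases hc4 : c = 4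
  · by_cases hS : ∀ v, ∑ b, l (ρ (gam b) v) = 0
    · obtain ⟨v, hv⟩ := exists_ne_of_ne hl
      rw [h.finrank_quot hc hS hv, caseB_y hp3 h hc hS hv, caseB_wt h hc hS hv ht]
      subst hc4
      have h4 : 0 < Nat.card {j : Fin (4 + 1) // ((p - 1 : ℕ) : ℤ) ∣ (((4 : ℕ) : ℤ) - 2 * (j : ℕ) - 0)} := by
        rw [Nat.card_pos_iff]
        exact ⟨⟨⟨⟨2, by norm_num⟩, by norm_num only [_root_.dvd_zero]⟩⟩, inferInstance⟩
      rw [nu_four]
      omega
    · push Not at hS
      obtain ⟨w, hw⟩ := hS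
      have := caseA_bound hp h3 h hw (WW_inv _)
      omega
  · have hc1 : c ≠ 1 := by
      rintro rfl
      exact absurd heven (by decide)
    have := quot_bound hp h3 h hc hl hc1 hc4
    omega

theorem quot_odd [CharP K p] [IsAlgClosed K] (hp : 11 ≤ p)
    (h : IsRow a ρ l c) (hc : c < p - 1) (hl : l ≠ 0) (hρ : ρ (dg (-1)) = -1)
    (hnil : (ρ (up 1) - 1 : Module.End K V) ^ ((p + 3) / 2) = 0) {t : (ZMod p)ˣ}
    (ht : ∀ s : (ZMod p)ˣ, ∃ k : ℕ, s = t ^ k) :
    finrank K (V ⧸ WW ρ l) + 2 * fx ((WW ρ l).mapQ (WW ρ l) (wf a ρ t 3) (wf_le_comap t 3)) ≤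
      4 * fx ((WW ρ l).mapQ (WW ρ l) (ρ (y0 (by omega))) (WW_inv _)) +
      2 * fx ((WW ρ l).mapQ (WW ρ l) (wf a ρ t 1) (wf_le_comap t 1)) := by
  have hp3 : 3 < p := by omega
  have hpar := row_parity h hl (ε := -1) (by rw [hρ, neg_smul, one_smul])
  have h2 : (2 : K) ≠ 0 := by
    have := _root_.Cfsg.Agent.H892.GLTorus.two_ne_zero' hp3
    rw [← map_ofNat a, Ne, map_eq_zero]
    exact this
  have hodd : Odd c := by
    rcases Nat.even_or_odd c with h1 | h1
    · exfalso
      rw [h1.neg_one_pow] at hpar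
      apply h2
      linear_combination hpar
    · exact h1
  by_cases hS : ∀ v, ∑ b, l (ρ (gam b) v) = 0
  · obtain ⟨v, hv⟩ := exists_ne_of_ne hl
    have hcc : c < (p + 3) / 2 := by
      by_contra hcon
      push Not at hcon
      apply caseB_ne h hc hS hl
      have : c = (p + 3) / 2 + (c - (p + 3) / 2) := by omega
      rw [this, pow_add, hnil, zero_mul]
    rw [h.finrank_quot hc hS hv, caseB_y hp3 h hc hS hv, caseB_wt h hc hS hv ht, caseB_wt h hc hS hv ht]
    obtain ⟨k, hk⟩ := hodd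
    have hM1 : 0 < Nat.card {j : Fin (c + 1) // ((p - 1 : ℕ) : ℤ) ∣ ((c : ℤ) - 2 * (j : ℕ) - 1)} := by
      rw [Nat.card_pos_iff]
      refine ⟨⟨⟨⟨k, by omega⟩, ?_⟩⟩, inferInstance⟩
      have : (c : ℤ) - 2 * ((k : ℕ) : ℤ) - 1 = 0 := by rw [hk]; push_cast; ring
      simp only
      rw [this]
      exact dvd_zero _
    have hpp : ((p - 1 : ℕ) : ℤ) = (p : ℤ) - 1 := by
      rw [Nat.cast_sub (by omega)]
      simp
    have hM3 : ∀ j : Fin (c + 1), ((p - 1 : ℕ) : ℤ) ∣ ((c : ℤ) - 2 * (j : ℕ) - 3) → (c : ℤ) - 2 * (j : ℕ) - 3 = 0 := by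
      intro j hj
      apply Int.eq_zero_of_abs_lt_dvd hj
      rw [hpp, abs_lt]
      have hj2 : (j : ℕ) < c + 1 := j.2
      constructor <;> omega
    by_cases hc1 : c = 1
    · have hM3' : Nat.card {j : Fin (c + 1) // ((p - 1 : ℕ) : ℤ) ∣ ((c : ℤ) - 2 * (j : ℕ) - 3)} = 0 := by
        rw [Nat.card_eq_zero]
        left
        refine ⟨fun j => ?_⟩
        have := hM3 j.1 j.2
        omega
      rw [hM3']
      omega
    · have hM3' : Nat.card {j : Fin (c + 1) // ((p - 1 : ℕ) : ℤ) ∣ ((c : ℤ) - 2 * (j : ℕ) - 3)} ≤ 1 := by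
        have : Subsingleton {j : Fin (c + 1) // ((p - 1 : ℕ) : ℤ) ∣ ((c : ℤ) - 2 * (j : ℕ) - 3)} := by
          refine ⟨fun j j' => ?_⟩
          have e1 := hM3 j.1 j.2
          have e2 := hM3 j'.1 j'.2
          apply Subtype.ext
          apply Fin.ext
          omega
        exact Finite.card_le_one_iff_subsingleton.2 this
      have := nu_bound c hc1 (by omega)
      omega
  · exfalso
    push Not at hS
    obtain ⟨w, hw⟩ := hS
    apply caseA_ne hw
    have : p - 1 = (p + 3) / 2 + (p - 1 - (p + 3) / 2) := by omega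
    rw [this, pow_add, hnil, zero_mul]

end basics

universe u v

theorem lin_even {K : Type u} [Field K] [CharP K p] [IsAlgClosed K] {a : ZMod p →+* K} (hp : 11 ≤ p) (h3 : p % 3 = 2)
    {t : (ZMod p)ˣ} (ht : ∀ s : (ZMod p)ˣ, ∃ k : ℕ, s = t ^ k) (n : ℕ) :
    ∀ (V : Type v) [AddCommGroup V] [Module K V] [FiniteDimensional K V] (ρ : Representation K (SS p) V),
      ρ (dg (-1)) = 1 → finrank K V = n →
      finrank K V ≤ 4 * fx (ρ (y0 (by omega))) + fx (wf a ρ t 0) := by
  have hp3 : 3 < p := by omega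
  induction n using Nat.strong_induction_on with
  | _ n ih =>
    intro V _ _ _ ρ hρ hn
    rcases subsingleton_or_nontrivial V with hV | hV
    · rw [Module.finrank_zero_of_subsingleton]
      exact Nat.zero_le _
    · obtain ⟨l, c, h, hc, hl⟩ := exists_row (a := a) (ρ := ρ)
      have h1 := finrank_WW_lt (ρ := ρ) hl
      have h2 := ih (finrank K (WW ρ l)) (by omega) (WW ρ l) (sub ρ l) (by
        rw [sub_apply]
        ext x
        rw [LinearMap.restrict_apply, Module.End.one_apply]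
        simp only [hρ, Module.End.one_apply]) rfl
      have h4 := quot_even hp h3 h hc hl hρ ht
      have h5 := Submodule.finrank_quotient_add_finrank (WW ρ l)
      have h6 := fx_wf_add (a := a) (ρ := ρ) (l := l) t 0
      have h7 := fx_y0_add (ρ := ρ) (l := l) hp3
      omega

theorem lin_odd {K : Type u} [Field K] [CharP K p] [IsAlgClosed K] {a : ZMod p →+* K} (hp : 11 ≤ p)
    {t : (ZMod p)ˣ} (ht : ∀ s : (ZMod p)ˣ, ∃ k : ℕ, s = t ^ k) (n : ℕ) :
    ∀ (V : Type v) [AddCommGroup V] [Module K V] [FiniteDimensional K V] (ρ : Representation K (SS p) V),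
      ρ (dg (-1)) = -1 → (ρ (up 1) - 1 : Module.End K V) ^ ((p + 3) / 2) = 0 → finrank K V = n →
      finrank K V + 2 * fx (wf a ρ t 3) ≤ 4 * fx (ρ (y0 (by omega))) + 2 * fx (wf a ρ t 1) := by
  have hp3 : 3 < p := by omega
  induction n using Nat.strong_induction_on with
  | _ n ih =>
    intro V _ _ _ ρ hρ hnil hn
    rcases subsingleton_or_nontrivial V with hV | hV
    · rw [Module.finrank_zero_of_subsingleton, fx, Module.finrank_zero_of_subsingleton]
      exact Nat.zero_le _
    · obtain ⟨l, c, h, hc, hl⟩ := exists_row (a := a) (ρ := ρ)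
      have h1 := finrank_WW_lt (ρ := ρ) hl
      have hres : ∀ (k : ℕ) (x : WW ρ l), ((((sub ρ l) (up 1) - 1 : Module.End K (WW ρ l)) ^ k) x : V) =
          ((ρ (up 1) - 1 : Module.End K V) ^ k) x := by
        intro k
        induction k with
        | zero => intro x; simp only [_root_.pow_zero, _root_.Module.End.one_apply]
        | succ k ihk =>
          intro x
          rw [pow_succ, pow_succ, Module.End.mul_apply, Module.End.mul_apply, ihk]
          rfl
      have h2 := ih (finrank K (WW ρ l)) (by omega) (WW ρ l) (sub ρ l) (by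
        rw [sub_apply]
        ext x
        rw [LinearMap.restrict_apply, LinearMap.neg_apply, Module.End.one_apply]
        simp only [hρ, LinearMap.neg_apply, Module.End.one_apply, NegMemClass.coe_neg]) (by
        ext x
        rw [hres, hnil]
        rfl) rfl
      have h4 := quot_odd hp h hc hl hρ hnil ht
      have h5 := Submodule.finrank_quotient_add_finrank (WW ρ l)
      have h6 := fx_wf_add (a := a) (ρ := ρ) (l := l) t 1
      have h6' := fx_wf_add (a := a) (ρ := ρ) (l := l) t 3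
      have h7 := fx_y0_add (ρ := ρ) (l := l) hp3
      omega

/-! ### Reduced modules -/

section reduced

variable {K : Type u} [Field K] [CharP K p] {a : ZMod p →+* K}
variable {V : Type v} [AddCommGroup V] [Module K V] {ρ : Representation K (SS p) V}

theorem red_range {c0 : ℕ} (hrow : ∀ (l : Module.Dual K V) (c : ℕ), IsRow a ρ l c → c < p - 1 → l ≠ 0 → c = c0)
    (hp : 3 < p) {i : ℤ} {x : V} (hx : x ∈ Wt a ρ i) (hx' : x ∉ LinearMap.range (EE a ρ)) :
    ((p - 1 : ℕ) : ℤ) ∣ (i + c0) := by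
  rw [EE_range hp] at hx'
  obtain ⟨l, c, h1, h2, h3, h4⟩ := exists_isRow hx hx'
  rw [← hrow l c h1 h2 (by rintro rfl; exact h4 rfl)]
  exact h3

theorem red_ker {c0 : ℕ} (hrow : ∀ (l : Module.Dual K (Module.Dual K V)) (c : ℕ), IsRow a ρ.dual l c → c < p - 1 →
      l ≠ 0 → c = c0)
    (hp : 3 < p) {i : ℤ} {x : V} (hx : x ∈ Wt a ρ i) (hx0 : x ≠ 0) (hx' : EE a ρ x = 0) :
    ((p - 1 : ℕ) : ℤ) ∣ (i - c0) := by
  rw [EE_eq_zero_iff hp] at hx'
  obtain ⟨l, c, h1, h2, h3, h4⟩ := exists_dual_isRow hx hx' hx0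
  rw [← hrow l c h1 h2 h4]
  exact h3

theorem odd_nil (hp : 11 ≤ p)
    (hrow : ∀ (l : Module.Dual K V) (c : ℕ), IsRow a ρ l c → c < p - 1 → l ≠ 0 → c = 1)
    (hdual : ∀ (l : Module.Dual K (Module.Dual K V)) (c : ℕ), IsRow a ρ.dual l c → c < p - 1 → l ≠ 0 → c = 1)
    (j : ℕ) : ∀ k, (p + 3) / 2 ≤ k → k + j = p → (EE a ρ) ^ k = 0 := by
  have hp3 : 3 < p := by omega
  induction j with
  | zero =>
    intro k _ hk
    rw [EE_pow_eq_zero_iff hp3]
    have : k = p := by omega
    rw [this]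
    exact up_one_pow_p
  | succ j ih =>
    intro k hk hkj
    have h1 := ih (k + 1) (by omega) (by omega)
    by_contra hne
    obtain ⟨i, x, hx, hx'⟩ := exists_pr_ne (a := a) (ρ := ρ) ((EE a ρ) ^ k) hne
    have h2 : x ∉ LinearMap.range (EE a ρ) := by
      rintro ⟨w, rfl⟩
      apply hx'
      rw [← Module.End.mul_apply, ← pow_succ, h1, LinearMap.zero_apply]
    have h3 := red_range hrow hp3 hx h2
    have h4 := red_ker hdual hp3 (EE_pow_mem hx k) hx' (by
      rw [← Module.End.mul_apply, ← pow_succ', h1, LinearMap.zero_apply])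
    have h5 : ((p - 1 : ℕ) : ℤ) ∣ 2 * (k : ℤ) - 2 := by
      have := dvd_sub h4 h3
      have e : i + 2 * (k : ℤ) - ((1 : ℕ) : ℤ) - (i + ((1 : ℕ) : ℤ)) = 2 * (k : ℤ) - 2 := by push_cast; ring
      rwa [e] at this
    have hpp : ((p - 1 : ℕ) : ℤ) = (p : ℤ) - 1 := by
      rw [Nat.cast_sub (by omega)]
      simp
    have h6 : ((p - 1 : ℕ) : ℤ) ∣ 2 * (k : ℤ) - 2 - ((p - 1 : ℕ) : ℤ) := dvd_sub h5 (dvd_refl _)
    rw [hpp] at h6
    have h7 := Int.eq_zero_of_abs_lt_dvd h6 (by
      rw [abs_lt]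
      constructor <;> omega)
    have hodd : p % 2 = 1 := Nat.odd_iff.1 ((Fact.out : p.Prime).odd_of_ne_two (by omega))
    omega

theorem even_kill {N : ℕ} (hN : 2 * N = p - 1) (hp : 11 ≤ p)
    (hdual : ∀ (l : Module.Dual K (Module.Dual K V)) (c : ℕ), IsRow a ρ.dual l c → c < p - 1 → l ≠ 0 → c = 4)
    {x : V} (hx : x ∈ Wt a ρ 4) (m : ℕ) (hm : m < N) (h : ((EE a ρ) ^ (m + 1)) x = 0) : EE a ρ x = 0 := by
  have hp3 : 3 < p := by omega
  induction m with
  | zero => simpa using h
  | succ m ih =>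
    apply ih (by omega)
    by_contra hne
    have h4 := red_ker hdual hp3 (EE_pow_mem hx (m + 1)) hne (by
      rw [← Module.End.mul_apply, ← pow_succ']
      exact h)
    have e : (4 : ℤ) + 2 * ((m + 1 : ℕ) : ℤ) - ((4 : ℕ) : ℤ) = 2 * ((m + 1 : ℕ) : ℤ) := by push_cast; ring
    rw [e, ← hN] at h4
    have h5 := Int.eq_zero_of_abs_lt_dvd h4 (by
      rw [abs_lt]
      push_cast
      constructor <;> (clear * - hm; omega))
    push_cast at h5
    omega

variable [FiniteDimensional K V]

theorem wt_one_le (hp : 3 < p) : finrank K (Wt a ρ 1) ≤ fx (ρ (up 1)) + finrank K (Wt a ρ 3) := by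
  have hmem : ∀ x ∈ Wt a ρ 1, EE a ρ x ∈ Wt a ρ 3 := by
    intro x hx
    have h0 := EE_mem hx
    have e : (1 : ℤ) + 2 = 3 := by norm_num
    rwa [e] at h0
  let f : Wt a ρ 1 →ₗ[K] Wt a ρ 3 := (EE a ρ).restrict hmem
  have h1 := LinearMap.finrank_range_add_finrank_ker f
  have h2 : finrank K (LinearMap.range f) ≤ finrank K (Wt a ρ 3) := Submodule.finrank_le _
  have h3 : finrank K (LinearMap.ker f) ≤ fx (ρ (up 1)) := by
    rw [← Submodule.finrank_map_subtype_eq (Wt a ρ 1) (LinearMap.ker f)]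
    apply Submodule.finrank_mono
    rintro _ ⟨x, hx, rfl⟩
    rw [mem_ker_sub_one, ← EE_eq_zero_iff (a := a) hp]
    exact congrArg Subtype.val hx
  omega

theorem wt_zero_le (hp : 11 ≤ p)
    (hdual : ∀ (l : Module.Dual K (Module.Dual K V)) (c : ℕ), IsRow a ρ.dual l c → c < p - 1 → l ≠ 0 → c = 4) :
    finrank K (Wt a ρ 0) ≤ 2 * fx (ρ (up 1)) := by
  have hp3 : 3 < p := by omega
  obtain ⟨N, hN⟩ : ∃ N, 2 * N = p - 1 := by
    have hodd : p % 2 = 1 := Nat.odd_iff.1 ((Fact.out : p.Prime).odd_of_ne_two (by omega))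
    exact ⟨(p - 1) / 2, by omega⟩
  have hE2 : ∀ x ∈ Wt a ρ 0, ((EE a ρ) ^ 2) x ∈ Wt a ρ 4 := by
    intro x hx
    have h0 := EE_pow_mem hx 2
    have e : (0 : ℤ) + 2 * ((2 : ℕ) : ℤ) = 4 := by norm_num
    rwa [e] at h0
  let f : Wt a ρ 0 →ₗ[K] V := ((EE a ρ) ^ (N + 2)) ∘ₗ (Wt a ρ 0).subtype
  have h1 := LinearMap.finrank_range_add_finrank_ker f
  have h2 : finrank K (LinearMap.range f) ≤ fx (ρ (up 1)) := by
    apply Submodule.finrank_mono
    rintro _ ⟨⟨x, hx⟩, rfl⟩
    rw [mem_ker_sub_one, ← EE_eq_zero_iff (a := a) hp3]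
    have h4 : ((EE a ρ) ^ (N + 2)) x ∈ Wt a ρ 4 := by
      have h5 := EE_pow_mem hx (N + 2)
      have h6 : Wt a ρ (0 + 2 * ((N + 2 : ℕ) : ℤ)) = Wt a ρ 4 := by
        apply Wt_congr
        refine ⟨1, ?_⟩
        rw [← hN]
        push_cast
        ring
      rwa [h6] at h5
    refine even_kill hN hp hdual h4 (N - 1) (by omega) ?_
    have e : N - 1 + 1 = N := by omega
    change ((EE a ρ) ^ (N - 1 + 1)) (((EE a ρ) ^ (N + 2)) x) = 0
    rw [e, ← Module.End.mul_apply, ← pow_add]
    have e2 : N + (N + 2) = p + 1 := by omega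
    rw [e2, pow_succ', (EE_pow_eq_zero_iff hp3 p).2 up_one_pow_p, mul_zero, LinearMap.zero_apply]
  have h3 : finrank K (LinearMap.ker f) ≤ fx (ρ (up 1)) := by
    let g : LinearMap.ker f →ₗ[K] LinearMap.ker (ρ (up 1) - 1) :=
      (((EE a ρ) ^ 2) ∘ₗ (Wt a ρ 0).subtype ∘ₗ (LinearMap.ker f).subtype).codRestrict _ (by
        rintro ⟨⟨x, hx⟩, hx'⟩
        rw [mem_ker_sub_one, ← EE_eq_zero_iff (a := a) hp3]
        refine even_kill hN hp hdual (hE2 x hx) (N - 1) (by omega) ?_
        have e : N - 1 + 1 = N := by omega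
        change ((EE a ρ) ^ (N - 1 + 1)) (((EE a ρ) ^ 2) x) = 0
        rw [e, ← Module.End.mul_apply, ← pow_add]
        exact hx')
    apply LinearMap.finrank_le_finrank_of_injective (f := g)
    rw [← LinearMap.ker_eq_bot, eq_bot_iff]
    rintro ⟨⟨x, hx⟩, hx'⟩ hg
    have hg2 : ((EE a ρ) ^ 2) x = 0 := congrArg Subtype.val hg
    have hEx : EE a ρ x = 0 := by
      by_contra hne
      have h4 := red_ker hdual hp3 (EE_mem hx) hne (by
        rw [← Module.End.mul_apply, ← pow_two]
        exact hg2)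
      have h5 := Int.eq_zero_of_abs_lt_dvd h4 (by
        rw [abs_lt, ← hN]
        push_cast
        constructor <;> omega)
      norm_num at h5
    have hx0 : x = 0 := by
      by_contra hne
      have h4 := red_ker hdual hp3 hx hne hEx
      have h5 := Int.eq_zero_of_abs_lt_dvd h4 (by
        rw [abs_lt, ← hN]
        push_cast
        constructor <;> omega)
      norm_num at h5
    rw [Submodule.mem_bot]
    apply Subtype.ext
    apply Subtype.ext
    exact hx0
  omega

end reduced

/-! ### The main induction -/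

theorem fx_superadd {K V : Type*} [Field K] [AddCommGroup V] [Module K V] [FiniteDimensional K V] (f : Module.End K V)
    {A B : Submodule K V} (hAB : Disjoint A B) (hA : ∀ x ∈ A, f x ∈ A) (hB : ∀ x ∈ B, f x ∈ B) :
    fx (f.restrict hA) + fx (f.restrict hB) ≤ fx f := by
  unfold fx
  rw [← Submodule.finrank_map_subtype_eq A (LinearMap.ker (f.restrict hA - 1)),
    ← Submodule.finrank_map_subtype_eq B (LinearMap.ker (f.restrict hB - 1))]
  have hd : Disjoint ((LinearMap.ker (f.restrict hA - 1)).map A.subtype) ((LinearMap.ker (f.restrict hB - 1)).map B.subtype) :=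
    hAB.mono (Submodule.map_subtype_le _ _) (Submodule.map_subtype_le _ _)
  have h1 := Submodule.finrank_sup_add_finrank_inf_eq ((LinearMap.ker (f.restrict hA - 1)).map A.subtype)
    ((LinearMap.ker (f.restrict hB - 1)).map B.subtype)
  rw [hd.eq_bot, finrank_bot, add_zero] at h1
  rw [← h1]
  apply Submodule.finrank_mono
  apply sup_le
  · rintro _ ⟨x, hx, rfl⟩
    rw [SetLike.mem_coe, mem_ker_sub_one] at hx
    rw [mem_ker_sub_one]
    exact congrArg Subtype.val hx
  · rintro _ ⟨x, hx, rfl⟩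
    rw [SetLike.mem_coe, mem_ker_sub_one] at hx
    rw [mem_ker_sub_one]
    exact congrArg Subtype.val hx

theorem bad_row {K : Type u} [Field K] [CharP K p] [IsAlgClosed K] {a : ZMod p →+* K} (hp : 11 ≤ p) (h3 : p % 3 = 2)
    {n : ℕ} (ih : ∀ m < n, ∀ (V : Type v) [AddCommGroup V] [Module K V] [FiniteDimensional K V]
      (ρ : Representation K (SS p) V), finrank K V = m →
      finrank K V ≤ 2 * fx (ρ (up 1)) + 4 * fx (ρ (y0 (by omega))))
    (V : Type v) [AddCommGroup V] [Module K V] [FiniteDimensional K V]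
    (ρ : Representation K (SS p) V) (hn : finrank K V = n) {l : Module.Dual K V} {c : ℕ}
    (h : IsRow a ρ l c) (hc : c < p - 1) (hl : l ≠ 0) (hc1 : c ≠ 1) (hc4 : c ≠ 4) :
    finrank K V ≤ 2 * fx (ρ (up 1)) + 4 * fx (ρ (y0 (by omega))) := by
  have hp3 : 3 < p := by omega
  have h1 := finrank_WW_lt (ρ := ρ) hl
  have h2 := ih (finrank K (WW ρ l)) (by omega) (WW ρ l) (sub ρ l) rfl
  have h4 := quot_bound hp h3 h hc hl hc1 hc4
  have h5 := Submodule.finrank_quotient_add_finrank (WW ρ l)
  have h7 := fx_y0_add (ρ := ρ) (l := l) hp3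
  have h8 : fx (sub ρ l (up 1)) ≤ fx (ρ (up 1)) := fx_restrict_le (ρ (up 1)) (WW ρ l) (WW_inv _)
  omega

theorem neg_comm (g : SS p) : dg (-1) * g = g * dg (-1) := by
  apply ext2
  · rw [mul00, mul00]; simp
  · rw [mul01, mul01]; simp
  · rw [mul10, mul10]; simp only [_root_.Fin.isValue, _root_.Cfsg.Agent.ClassicalGeometry.SplitTorus.dg10, _root_.MulZeroClass.zero_mul, _root_.Cfsg.Agent.ClassicalGeometry.SplitTorus.dg11, _root_.inv_neg, _root_.inv_one, _root_.Units.val_neg, _root_.Units.val_one, _root_.neg_mul, _root_.one_mul, _root_.zero_add, _root_.Cfsg.Agent.ClassicalGeometry.SplitTorus.dg00, _root_.mul_neg, _root_.mul_one, _root_.MulZeroClass.mul_zero, _root_.add_zero]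
  · rw [mul11, mul11]; simp

theorem main {K : Type u} [Field K] [CharP K p] [IsAlgClosed K] (a : ZMod p →+* K) (hp : 11 ≤ p) (h3 : p % 3 = 2)
    (n : ℕ) : ∀ (V : Type u) [AddCommGroup V] [Module K V] [FiniteDimensional K V]
      (ρ : Representation K (SS p) V), finrank K V = n →
      finrank K V ≤ 2 * fx (ρ (up 1)) + 4 * fx (ρ (y0 (by omega))) := by
  have hp3 : 3 < p := by omega
  have h2K : (2 : K) ≠ 0 := by
    have := _root_.Cfsg.Agent.H892.GLTorus.two_ne_zero' hp3
    rw [← map_ofNat a, Ne, map_eq_zero]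
    exact this
  induction n using Nat.strong_induction_on with
  | _ n ih =>
    intro V _ _ _ ρ hn
    obtain ⟨t, ht⟩ := finset_exists p
    by_cases hbad : ∃ (l : Module.Dual K V) (c : ℕ), IsRow a ρ l c ∧ c < p - 1 ∧ l ≠ 0 ∧ c ≠ 1 ∧ c ≠ 4
    · obtain ⟨l, c, h, hc, hl, hc1, hc4⟩ := hbad
      exact bad_row hp h3 ih V ρ hn h hc hl hc1 hc4
    by_cases hbad' : ∃ (l : Module.Dual K (Module.Dual K V)) (c : ℕ), IsRow a ρ.dual l c ∧ c < p - 1 ∧ l ≠ 0 ∧ c ≠ 1 ∧ c ≠ 4
    · obtain ⟨l, c, h, hc, hl, hc1, hc4⟩ := hbad'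
      have := bad_row hp h3 ih (Module.Dual K V) ρ.dual (by rw [Subspace.dual_finrank_eq, hn]) h hc hl hc1 hc4
      rwa [Subspace.dual_finrank_eq, fx_dual, fx_dual] at this
    push Not at hbad hbad'
    by_cases hz1 : ρ (dg (-1)) = 1
    · have hrow : ∀ (l : Module.Dual K (Module.Dual K V)) (c : ℕ), IsRow a ρ.dual l c → c < p - 1 → l ≠ 0 → c = 4 := by
        intro l c h hc hl
        apply hbad' l c h hc hl
        rintro rfl
        have h4 : ρ.dual (dg (-1)) = (1 : K) • 1 := by
          have h5 : (dg (-1 : (ZMod p)ˣ))⁻¹ = dg (-1) := by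
            rw [← dg_inv]
            congr 1
          ext φ v
          rw [Representation.dual_apply, h5, hz1, one_smul]
          rfl
        have h6 := row_parity h hl h4
        apply h2K
        linear_combination -h6
      have h7 := wt_zero_le hp hrow
      have h8 := lin_even (a := a) hp h3 ht n V ρ hz1 hn
      rw [fx_wf ht] at h8
      omega
    by_cases hz2 : ρ (dg (-1)) = -1
    · have hrow : ∀ (l : Module.Dual K V) (c : ℕ), IsRow a ρ l c → c < p - 1 → l ≠ 0 → c = 1 := by
        intro l c h hc hl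
        by_contra hc1
        have hc4 := hbad l c h hc hl hc1
        subst hc4
        have h6 := row_parity h hl (ε := -1) (by rw [hz2, neg_smul, one_smul])
        apply h2K
        linear_combination h6
      have hrow' : ∀ (l : Module.Dual K (Module.Dual K V)) (c : ℕ), IsRow a ρ.dual l c → c < p - 1 → l ≠ 0 → c = 1 := by
        intro l c h hc hl
        by_contra hc1
        have hc4 := hbad' l c h hc hl hc1
        subst hc4
        have h4 : ρ.dual (dg (-1)) = (-1 : K) • 1 := by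
          have h5 : (dg (-1 : (ZMod p)ˣ))⁻¹ = dg (-1) := by
            rw [← dg_inv]
            congr 1
          ext φ v
          rw [Representation.dual_apply, h5, hz2]
          change φ (-v) = (-1 : K) * φ v
          rw [map_neg, neg_mul, one_mul]
        have h6 := row_parity h hl h4
        apply h2K
        linear_combination h6
      have h7 := odd_nil hp hrow hrow' (p - (p + 3) / 2) ((p + 3) / 2) le_rfl (by omega)
      rw [EE_pow_eq_zero_iff hp3] at h7
      have h8 := lin_odd (a := a) hp ht n V ρ hz2 h7 hn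
      have h9 := wt_one_le (a := a) (ρ := ρ) hp3
      rw [fx_wf ht, fx_wf ht] at h8
      omega
    · -- split
      set z := ρ (dg (-1)) with hz
      have hzz : z * z = 1 := by
        rw [hz, ← map_mul, ← dg_mul]
        simp only [dg_one, _root_.mul_neg, _root_.mul_one, _root_.neg_neg, _root_.map_one]
      set A := LinearMap.ker (z - 1) with hA
      set B := LinearMap.ker (z + 1) with hB
      have hcomm : ∀ g v, z (ρ g v) = ρ g (z v) := by
        intro g v
        rw [hz, ← Module.End.mul_apply, ← map_mul, neg_comm, map_mul, Module.End.mul_apply]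
      have mA : ∀ v, v ∈ A ↔ z v = v := fun v => mem_ker_sub_one
      have mB : ∀ v, v ∈ B ↔ z v = -v := by
        intro v
        rw [hB, LinearMap.mem_ker, LinearMap.add_apply, Module.End.one_apply, add_eq_zero_iff_eq_neg]
      have hAi : ∀ g, A ≤ A.comap (ρ g) := by
        intro g v hv
        rw [Submodule.mem_comap, mA, hcomm, (mA v).1 hv]
      have hBi : ∀ g, B ≤ B.comap (ρ g) := by
        intro g v hv
        rw [Submodule.mem_comap, mB, hcomm, (mB v).1 hv, map_neg]
      have hdisj : Disjoint A B := by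
        rw [Submodule.disjoint_def]
        intro v h4 h5
        rw [mA] at h4
        rw [mB, h4] at h5
        have h6 : (2 : K) • v = 0 := by
          rw [two_smul]
          nth_rewrite 1 [h5]
          exact neg_add_cancel v
        exact (smul_eq_zero.1 h6).resolve_left h2K
      have hcod : Codisjoint A B := by
        rw [codisjoint_iff, eq_top_iff]
        intro v _
        have hzv : z (z v) = v := by rw [← Module.End.mul_apply, hzz, Module.End.one_apply]
        have h4 : v = (2 : K)⁻¹ • (v + z v) + (2 : K)⁻¹ • (v - z v) := by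
          rw [← smul_add]
          have : v + z v + (v - z v) = (2 : K) • v := by rw [two_smul]; abel
          rw [this, smul_smul, inv_mul_cancel₀ h2K, one_smul]
        rw [h4]
        apply Submodule.add_mem_sup
        · rw [mA, map_smul, map_add, hzv, add_comm]
        · rw [mB, map_smul, map_sub, hzv, ← smul_neg, neg_sub]
      have hsum := Submodule.finrank_add_eq_of_isCompl ⟨hdisj, hcod⟩
      have hA' : finrank K A < finrank K V := by
        apply Submodule.finrank_lt
        intro h4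
        apply hz1
        ext v
        have : v ∈ A := by rw [h4]; trivial
        exact (mA v).1 this
      have hB' : finrank K B < finrank K V := by
        apply Submodule.finrank_lt
        intro h4
        apply hz2
        ext v
        have : v ∈ B := by rw [h4]; trivial
        exact (mB v).1 this
      have h4 := ih (finrank K A) (by omega) A (ρ.subrepresentation A hAi) rfl
      have h5 := ih (finrank K B) (by omega) B (ρ.subrepresentation B hBi) rfl
      have h6 := fx_superadd (ρ (up 1)) hdisj (hAi _) (hBi _)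
      have h7 := fx_superadd (ρ (y0 hp3)) hdisj (hAi _) (hBi _)
      have e1 : (ρ.subrepresentation A hAi) (up 1) = (ρ (up 1)).restrict (hAi _) := rfl
      have e2 : (ρ.subrepresentation B hBi) (up 1) = (ρ (up 1)).restrict (hBi _) := rfl
      have e3 : (ρ.subrepresentation A hAi) (y0 hp3) = (ρ (y0 hp3)).restrict (hAi _) := rfl
      have e4 : (ρ.subrepresentation B hBi) (y0 hp3) = (ρ (y0 hp3)).restrict (hBi _) := rfl
      rw [e1, e3] at h4
      rw [e2, e4] at h5
      omega

end Cfsg.Agent.H892.DefChar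
end

-- part: H892/SmallConf
section
/-!
# Large fixed spaces: elementary abelian groups of rank two and inverted elements
-/

set_option autoImplicit false

namespace Cfsg.Agent.H892.SmallConf

open Module Cfsg.Agent.H892.FixDim

variable {K V : Type*} [Field K] [AddCommGroup V] [Module K V] [FiniteDimensional K V]

/-- two elements (of order two) with small fixed spaces have a product with a large one -/
theorem involution_pair (f f' : V →ₗ[K] V) (hf : f * f = 1) (hf' : f' * f' = 1) :
    finrank K V ≤ fx f + fx f' + fx (f * f') := by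
  have key : ∀ φ : V →ₗ[K] V, φ * φ = 1 → finrank K V ≤ finrank K (LinearMap.ker (φ + 1)) + fx φ := by
    intro φ hφ
    have h1 := finrank_ker_comp_le (φ - 1) (φ + 1)
    have h2 : (φ - 1) ∘ₗ (φ + 1) = 0 := by
      change (φ - 1) * (φ + 1) = 0
      have : (φ - 1) * (φ + 1) = φ * φ - 1 := by noncomm_ring
      rw [this, hφ, sub_self]
    rw [h2, LinearMap.ker_zero, finrank_top] at h1
    exact h1
  have h1 := key f hf
  have h2 := key f' hf'
  set A := LinearMap.ker (f + 1)
  set B := LinearMap.ker (f' + 1)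
  have h3 : A ⊓ B ≤ LinearMap.ker (f * f' - 1) := by
    rintro v ⟨hA, hB⟩
    have hA' : f v = -v := by
      have : f v + v = 0 := hA
      exact eq_neg_of_add_eq_zero_left this
    have hB' : f' v = -v := by
      have : f' v + v = 0 := hB
      exact eq_neg_of_add_eq_zero_left this
    rw [mem_ker_sub_one, Module.End.mul_apply, hB', map_neg, hA', neg_neg]
  have h4 := Submodule.finrank_mono h3
  have h5 := Submodule.finrank_sup_add_finrank_inf_eq A B
  have h6 : finrank K (A ⊔ B : Submodule K V) ≤ finrank K V := Submodule.finrank_le _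
  have h7 : fx (f * f') = finrank K (LinearMap.ker (f * f' - 1)) := rfl
  omega

section pw

variable {G : Type*} [Group G] {r : ℕ} [NeZero r]

theorem pw_add {x : G} (hx : x ^ r = 1) (k l : ZMod r) :
    x ^ (k + l).val = x ^ k.val * x ^ l.val := by
  rw [ZMod.val_add, ← pow_eq_pow_mod _ hx, pow_add]

omit [NeZero r] in
theorem pw_mul {x : G} (hx : x ^ r = 1) (k l : ZMod r) :
    x ^ (k * l).val = (x ^ k.val) ^ l.val := by
  rw [ZMod.val_mul, ← pow_eq_pow_mod _ hx, pow_mul]

end pw

omit [FiniteDimensional K V] in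
/-- The sum of the powers of an element of order dividing `r` is fixed. -/
theorem sum_pow_fixed {G : Type*} [Group G] {r : ℕ} [NeZero r] (ρ : Representation K G V) {x : G} (hx : x ^ r = 1)
    (v : V) : (∑ k : ZMod r, ρ (x ^ k.val) v) ∈ LinearMap.ker (ρ x - 1) := by
  rw [mem_ker_sub_one, map_sum]
  have h1 : ∀ k : ZMod r, ρ x (ρ (x ^ k.val) v) = ρ (x ^ (k + 1).val) v := by
    intro k
    rw [← Module.End.mul_apply, ← map_mul]
    rcases Nat.lt_or_ge 1 r with h | h
    · have : Fact (1 < r) := ⟨h⟩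
      rw [pw_add hx, ZMod.val_one, pow_one, ← pow_succ', pow_succ]
    · have hr : r = 1 := le_antisymm h (NeZero.pos r)
      subst hr
      rw [pow_one] at hx
      simp only [hx, _root_.one_pow, _root_.mul_one, _root_.map_one, _root_.Module.End.one_apply]
  rw [Finset.sum_congr rfl fun k _ => h1 k]
  exact Equiv.sum_comp (Equiv.addRight (1 : ZMod r)) (fun k : ZMod r => ρ (x ^ k.val) v)

/-- An elementary abelian group of rank two. -/
theorem rank_two {G : Type*} [Group G] (ρ : Representation K G V) {r : ℕ} (hr : r.Prime) (hrK : (r : K) ≠ 0)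
    [NeZero r] (a b : G) (hab : Commute a b) (ha : a ^ r = 1) (hb : b ^ r = 1) :
    finrank K V ≤ (∑ i : ZMod r, fx (ρ (a * b ^ i.val))) + fx (ρ b) := by
  have := Fact.mk hr
  set F : ZMod r → Submodule K V := fun i => LinearMap.ker (ρ (a * b ^ i.val) - 1) with hF
  set F' : Submodule K V := LinearMap.ker (ρ b - 1) with hF'
  have hx : ∀ i : ZMod r, (a * b ^ i.val) ^ r = 1 := by
    intro i
    rw [(hab.pow_right _).mul_pow, ha, one_mul, ← pow_mul, mul_comm, pow_mul, hb, one_pow]
  have htop : (⊤ : Submodule K V) ≤ (⨆ i, F i) ⊔ F' := by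
    intro v _
    set B : V → V := fun w => ∑ l : ZMod r, ρ (b ^ l.val) w with hB
    have hBfix : ∀ w, B w ∈ F' := fun w => sum_pow_fixed ρ hb w
    have h1 : ∀ i, (∑ k : ZMod r, ρ ((a * b ^ i.val) ^ k.val) v) ∈ F i := fun i => sum_pow_fixed ρ (hx i) v
    have h2 : ∑ i : ZMod r, ∑ k : ZMod r, ρ ((a * b ^ i.val) ^ k.val) v =
        (r : K) • v + ∑ k ∈ Finset.univ.erase (0 : ZMod r), ρ (a ^ k.val) (B v) := by
      rw [Finset.sum_comm, ← Finset.add_sum_erase _ _ (Finset.mem_univ (0 : ZMod r))]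
      congr 1
      · simp only [ZMod.val_zero, pow_zero, map_one, Module.End.one_apply]
        rw [Finset.sum_const, Finset.card_univ, ZMod.card, ← Nat.cast_smul_eq_nsmul K]
      · refine Finset.sum_congr rfl fun k hk => ?_
        have hk0 : k ≠ 0 := (Finset.mem_erase.1 hk).1
        rw [hB]
        simp only [map_sum]
        rw [← Equiv.sum_comp (Equiv.mulRight₀ k hk0) (fun l : ZMod r => ρ (a ^ k.val) (ρ (b ^ l.val) v))]
        refine Finset.sum_congr rfl fun i _ => ?_
        rw [← Module.End.mul_apply, ← map_mul, (hab.pow_right _).mul_pow]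
        congr 3
        change (b ^ i.val) ^ k.val = b ^ (i * k).val
        rw [pw_mul hb]
    have h3 : ∀ k : ZMod r, ρ (a ^ k.val) (B v) ∈ F' := by
      intro k
      have h4 : ρ (a ^ k.val) (B v) = B (ρ (a ^ k.val) v) := by
        rw [hB, map_sum]
        refine Finset.sum_congr rfl fun l _ => ?_
        rw [← Module.End.mul_apply, ← map_mul, ((hab.pow_pow _ _).eq), map_mul, Module.End.mul_apply]
      rw [h4]
      exact hBfix _
    have h5 : (r : K) • v = ∑ i : ZMod r, ∑ k : ZMod r, ρ ((a * b ^ i.val) ^ k.val) v -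
        ∑ k ∈ Finset.univ.erase (0 : ZMod r), ρ (a ^ k.val) (B v) := by
      rw [h2, add_sub_cancel_right]
    have h6 : (r : K) • v ∈ (⨆ i, F i) ⊔ F' := by
      rw [h5]
      refine Submodule.sub_mem _ (Submodule.mem_sup_left (Submodule.sum_mem _ fun i _ => ?_))
        (Submodule.mem_sup_right (Submodule.sum_mem _ fun k _ => h3 k))
      exact Submodule.mem_iSup_of_mem i (h1 i)
    have h7 := Submodule.smul_mem _ ((r : K)⁻¹) h6
    rwa [smul_smul, inv_mul_cancel₀ hrK, one_smul] at h7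
  have h8 : finrank K (⊤ : Submodule K V) ≤ finrank K ((⨆ i, F i) ⊔ F' : Submodule K V) := Submodule.finrank_mono htop
  rw [finrank_top] at h8
  have h9 : finrank K ((⨆ i, F i) ⊔ F' : Submodule K V) ≤ finrank K (⨆ i, F i : Submodule K V) + finrank K F' :=
    Submodule.finrank_add_le_finrank_add_finrank _ _
  have h10 : finrank K (⨆ i, F i : Submodule K V) ≤ ∑ i, finrank K (F i) := by
    have : ∀ s : Finset (ZMod r), finrank K (⨆ i ∈ s, F i : Submodule K V) ≤ ∑ i ∈ s, finrank K (F i) := by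
      intro s
      induction s using Finset.induction_on with
      | empty => simp only [_root_.Finset.sum_empty, _root_.nonpos_iff_eq_zero, _root_.Submodule.finrank_eq_zero, _root_.Finset.notMem_empty, _root_.not_false_eq_true, _root_.iSup_neg, _root_.iSup_bot]
      | insert i s his ih =>
        rw [Finset.sum_insert his, Finset.iSup_insert]
        exact (Submodule.finrank_add_le_finrank_add_finrank _ _).trans (by omega)
    have h11 := this Finset.univ
    rwa [iSup_congr fun i => iSup_pos (Finset.mem_univ i)] at h11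
  change _ ≤ ∑ i, finrank K (F i) + finrank K F'
  omega

/-- In every characteristic: an elementary abelian group of order `r ^ 2`, `r ≤ 5`. -/
theorem exists_of_rank_two {G : Type*} [Group G] (ρ : Representation K G V) {r : ℕ} (hr : r.Prime) (hr5 : r ≤ 5)
    (a b : G) (hab : Commute a b) (ha : orderOf a = r) (hb : orderOf b = r) (hnot : a ∉ Subgroup.zpowers b) :
    ∃ h : G, h ≠ 1 ∧ finrank K V ≤ 6 * fx (ρ h) := by
  have := Fact.mk hr
  have ha1 : a ≠ 1 := by
    rintro rfl
    exact hnot (one_mem _)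
  have hb1 : b ≠ 1 := by
    rintro rfl
    rw [orderOf_one] at hb
    exact hr.one_lt.ne hb
  by_cases hrK : (r : K) = 0
  · have := (CharP.charP_iff_prime_eq_zero hr).2 hrK
    refine ⟨a, ha1, ?_⟩
    have h1 : (ρ a) ^ r = 1 := by rw [← map_pow, ← ha, pow_orderOf_eq_one, map_one]
    have h2 := finrank_le_mul_fx (p := r) h1
    calc finrank K V ≤ r * fx (ρ a) := h2
      _ ≤ 6 * fx (ρ a) := Nat.mul_le_mul_right _ (by omega)
  · have hne : NeZero r := ⟨hr.ne_zero⟩
    have h1 := rank_two ρ hr hrK a b hab (ha ▸ pow_orderOf_eq_one a) (hb ▸ pow_orderOf_eq_one b)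
    by_contra hcon
    push Not at hcon
    have h2 : ∀ i : ZMod r, a * b ^ i.val ≠ 1 := by
      intro i hi
      apply hnot
      rw [eq_inv_of_mul_eq_one_left hi]
      exact inv_mem (pow_mem (Subgroup.mem_zpowers b) _)
    have h3 : ∀ i : ZMod r, 6 * fx (ρ (a * b ^ i.val)) < finrank K V := fun i => hcon _ (h2 i)
    have h4 := hcon _ hb1
    have h5 : 6 * ∑ i : ZMod r, fx (ρ (a * b ^ i.val)) ≤ r * (finrank K V - 1) := by
      rw [Finset.mul_sum]
      calc ∑ i : ZMod r, 6 * fx (ρ (a * b ^ i.val)) ≤ ∑ i : ZMod r, (finrank K V - 1) :=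
            Finset.sum_le_sum fun i _ => by have := h3 i; omega
        _ = r * (finrank K V - 1) := by
          rw [Finset.sum_const, Finset.card_univ, ZMod.card, smul_eq_mul]
    have h6 : r * (finrank K V - 1) ≤ 5 * (finrank K V - 1) := Nat.mul_le_mul_right _ hr5
    omega

/-- In every characteristic: an involution which inverts an element. -/
theorem exists_of_inverted {G : Type*} [Group G] (ρ : Representation K G V) (z x : G) (hz : orderOf z = 2)
    (hx : x ≠ 1) (hzx : z * x ≠ 1) (h : z * x * z = x⁻¹) :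
    ∃ h : G, h ≠ 1 ∧ finrank K V ≤ 6 * fx (ρ h) := by
  have hz2 : z * z = 1 := by
    have := pow_orderOf_eq_one z
    rwa [hz, pow_two] at this
  have hz1 : z ≠ 1 := by
    rintro rfl
    rw [orderOf_one] at hz
    omega
  have h2 : (z * x) * (z * x) = 1 := by
    rw [← mul_assoc, h, inv_mul_cancel]
  have h3 := involution_pair (ρ z) (ρ (z * x)) (by rw [← map_mul, hz2, map_one])
    (by rw [← map_mul, h2, map_one])
  rw [← map_mul, ← mul_assoc, hz2, one_mul] at h3
  by_contra hcon
  push Not at hcon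
  have h4 := hcon z hz1
  have h5 := hcon _ hzx
  have h6 := hcon x hx
  omega

end Cfsg.Agent.H892.SmallConf
end

-- part: H892/ModCase
section
/-!
# Large fixed spaces from four configurations
-/

set_option autoImplicit false

namespace Cfsg.Agent.H892.ModCase

open Module Matrix Cfsg.Agent.H892.FixDim Cfsg.Agent.H892.CoprimeChar
open Cfsg.Agent.ClassicalGeometry.SplitTorus

/-- Four configurations which force an element with a large fixed space in every representation. -/
inductive Conf (G : Type*) [Group G] : Prop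
  | rank_two (r : ℕ) (hr : r.Prime) (hr5 : r ≤ 5) (a b : G) (hab : Commute a b) (ha : orderOf a = r)
      (hb : orderOf b = r) (hnot : a ∉ Subgroup.zpowers b) : Conf G
  | inverted (z x : G) (hz : orderOf z = 2) (hx : x ≠ 1) (hzx : z * x ≠ 1) (h : z * x * z = x⁻¹) : Conf G
  | three (h g : G) (hh : orderOf h = 3) (hg : g ≠ 1) (r : ℕ) (hr : Nat.Coprime 3 r) (hgr : g ^ r = 1)
      (hcomm : Commute g (h * g * h⁻¹)) (hprod : g * (h * g * h⁻¹) * (h ^ 2 * g * (h ^ 2)⁻¹) = 1) : Conf G
  | sl (p : ℕ) (hpp : p.Prime) (hp : 11 ≤ p) (h3 : p % 3 = 2) (f : SS p →* G) (hf : Function.Injective f) : Conf G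

/-- Configurations pass to overgroups. -/
theorem Conf.map {G H : Type*} [Group G] [Group H] (φ : G →* H) (hφ : Function.Injective φ) (h : Conf G) : Conf H := by
  rcases h with ⟨r, hr, hr5, a, b, hab, ha, hb, hnot⟩ | ⟨z, x, hz, hx, hzx, h⟩ |
    ⟨h, g, hh, hg, r, hr, hgr, hcomm, hprod⟩ | ⟨p, hpp, hp, h3, f, hf⟩
  · refine Conf.rank_two r hr hr5 (φ a) (φ b) (hab.map φ) (by rw [orderOf_injective φ hφ, ha])
      (by rw [orderOf_injective φ hφ, hb]) ?_
    intro h
    obtain ⟨k, hk⟩ := h
    apply hnot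
    refine ⟨k, hφ ?_⟩
    simpa using hk
  · refine Conf.inverted (φ z) (φ x) (by rw [orderOf_injective φ hφ, hz]) ?_ ?_ ?_
    · intro h1
      exact hx (hφ (by rw [h1, map_one]))
    · intro h1
      exact hzx (hφ (by rw [map_mul, h1, map_one]))
    · rw [← map_mul, ← map_mul, h, map_inv]
  · refine Conf.three (φ h) (φ g) (by rw [orderOf_injective φ hφ, hh]) ?_ r hr (by rw [← map_pow, hgr, map_one]) ?_ ?_
    · intro h1
      exact hg (hφ (by rw [h1, map_one]))
    · have := hcomm.map φ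
      simpa only [_root_.map_mul, _root_.map_inv] using this
    · have := congrArg φ hprod
      simpa only [_root_.map_mul, _root_.map_inv, _root_.map_pow, _root_.map_one] using this
  · exact Conf.sl p hpp hp h3 (φ.comp f) (hφ.comp hf)

universe u v w

theorem up_ne_one (p : ℕ) [Fact p.Prime] : (up 1 : SS p) ≠ 1 := by
  intro h
  have h1 : (up 1 : SS p) 0 1 = (1 : SS p) 0 1 := by rw [h]
  rw [up01] at h1
  have h2 : (1 : SS p) 0 1 = 0 := rfl
  rw [h2] at h1
  exact one_ne_zero h1

theorem sl_case {K : Type u} {V : Type v} [Field K] [IsAlgClosed K] [AddCommGroup V] [Module K V]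
    [FiniteDimensional K V] {p : ℕ} [Fact p.Prime] (hp : 11 ≤ p) (h3 : p % 3 = 2) (ρ : Representation K (SS p) V) :
    ∃ x : SS p, x ≠ 1 ∧ finrank K V ≤ 6 * fx (ρ x) := by
  by_cases hK : (p : K) = 0
  · have hch : CharP K p := (CharP.charP_iff_prime_eq_zero Fact.out).2 hK
    let e : V ≃ₗ[K] (Fin (finrank K V) → K) := (finBasis K V).equivFun
    let ρ' : Representation K (SS p) (Fin (finrank K V) → K) :=
      { toFun := fun g => e.toLinearMap ∘ₗ ρ g ∘ₗ e.symm.toLinearMap
        map_one' := by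
          apply LinearMap.ext
          intro x
          simp only [_root_.map_one, _root_.LinearMap.coe_comp, _root_.LinearEquiv.coe_coe, _root_.Function.comp_apply, _root_.Module.End.one_apply, _root_.LinearEquiv.apply_symm_apply]
        map_mul' := fun g h => by
          apply LinearMap.ext
          intro x
          simp only [_root_.map_mul, _root_.LinearMap.coe_comp, _root_.LinearEquiv.coe_coe, _root_.Function.comp_apply, _root_.Module.End.mul_apply, _root_.LinearEquiv.symm_apply_apply] }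
    have hfx : ∀ g, fx (ρ' g) = fx (ρ g) := by
      intro g
      have : LinearMap.ker (ρ' g - 1) = (LinearMap.ker (ρ g - 1)).map (e : V →ₗ[K] _) := by
        ext x
        rw [mem_ker_sub_one]
        constructor
        · intro hx
          refine ⟨e.symm x, ?_, by simp⟩
          rw [SetLike.mem_coe, mem_ker_sub_one]
          have h1 : e (ρ g (e.symm x)) = x := hx
          apply e.injective
          change e (ρ g (e.symm x)) = e (e.symm x)
          rw [h1, e.apply_symm_apply]
        · rintro ⟨y, hy, rfl⟩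
          rw [SetLike.mem_coe, mem_ker_sub_one] at hy
          change e (ρ g (e.symm (e y))) = e y
          rw [e.symm_apply_apply, hy]
      unfold fx
      rw [this, ← LinearEquiv.finrank_map_eq e (LinearMap.ker (ρ g - 1))]
    have h1 := DefChar.main (K := K) (ZMod.castHom (dvd_refl p) K) hp h3 _ (Fin (finrank K V) → K) ρ' rfl
    rw [hfx, hfx, Module.finrank_fin_fun] at h1
    by_cases h2 : finrank K V ≤ 6 * fx (ρ (up 1))
    · exact ⟨up 1, up_ne_one p, h2⟩
    · exact ⟨y0 (by omega), y0_ne_one _, by omega⟩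
  · exact ⟨y0 (by omega), y0_ne_one _, coprime_case hp h3 hK ρ⟩

theorem Conf.algClosed {G : Type w} [Group G] (h : Conf G) {K : Type u} {V : Type v} [Field K] [IsAlgClosed K]
    [AddCommGroup V] [Module K V] [FiniteDimensional K V] (ρ : Representation K G V) :
    ∃ x : G, x ≠ 1 ∧ finrank K V ≤ 6 * fx (ρ x) := by
  rcases h with ⟨r, hr, hr5, a, b, hab, ha, hb, hnot⟩ | ⟨z, x, hz, hx, hzx, h⟩ |
    ⟨h, g, hh, hg, r, hr, hgr, hcomm, hprod⟩ | ⟨p, hpp, hp, h3, f, hf⟩
  · exact SmallConf.exists_of_rank_two ρ hr hr5 a b hab ha hb hnot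
  · exact SmallConf.exists_of_inverted ρ z x hz hx hzx h
  · exact ThreeConf.exists_of_three ρ h g hh hg hr hgr hcomm hprod
  · have := Fact.mk hpp
    obtain ⟨x, hx, hx'⟩ := sl_case hp h3 (ρ.comp f)
    exact ⟨f x, fun h => hx (hf (by rw [h, map_one])), hx'⟩

/-- **The module-theoretic part.** -/
theorem Conf.exists_fixed {G : Type w} [Group G] (h : Conf G) {K : Type u} {V : Type v} [Field K]
    [AddCommGroup V] [Module K V] [FiniteDimensional K V] (ρ : Representation K G V) :
    ∃ x : G, x ≠ 1 ∧ (finrank K V : ℚ) / 6 ≤ finrank K (LinearMap.ker (ρ x - 1)) := by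
  let ρ' : Representation (AlgebraicClosure K) G (TensorProduct K (AlgebraicClosure K) V) :=
    (Module.End.baseChangeHom K (AlgebraicClosure K) V).toMonoidHom.comp ρ
  obtain ⟨x, hx, hx'⟩ := h.algClosed ρ'
  refine ⟨x, hx, ?_⟩
  have h1 : fx (ρ' x) = fx (ρ x) := fx_baseChange (AlgebraicClosure K) (ρ x)
  rw [h1, Module.finrank_baseChange] at hx'
  unfold fx at hx'
  rw [div_le_iff₀ (by norm_num)]
  have : (finrank K V : ℚ) ≤ 6 * finrank K (LinearMap.ker (ρ x - 1)) := by exact_mod_cast hx'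
  linarith only [this]

end Cfsg.Agent.H892.ModCase
end

-- part: H892/GroupA
section
/-!
# Groups without the four configurations: involutions and small Sylow subgroups
-/

set_option autoImplicit false

namespace Cfsg.Agent.H892.GroupA

open Subgroup Cfsg.Agent.H892.ModCase Cfsg.Agent.Solvable.UniqueOrderP

variable {G : Type*} [Group G]

/-- Every involution is central. -/
theorem invol_central (hG : ¬ Conf G) {z : G} (hz : orderOf z = 2) (y : G) : y * z = z * y := by
  have hz2 : z * z = 1 := by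
    have := pow_orderOf_eq_one z
    rwa [hz, pow_two] at this
  have hzi : z⁻¹ = z := inv_eq_of_mul_eq_one_left hz2
  by_contra hne
  apply hG
  refine Conf.inverted z (y⁻¹ * z * y * z) hz ?_ ?_ ?_
  · intro h
    apply hne
    have h1 : z * y * z = y := by
      calc z * y * z = y * (y⁻¹ * z * y * z) := by group
        _ = y := by rw [h, mul_one]
    calc y * z = z * y * z * z := by rw [h1]
      _ = z * y := by rw [mul_assoc, hz2, mul_one]
  · intro h
    apply hne
    have h1 : y⁻¹ * z * y * z = z := by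
      calc y⁻¹ * z * y * z = z⁻¹ * (z * (y⁻¹ * z * y * z)) := by group
        _ = z := by rw [h, mul_one, hzi]
    have h2 : y⁻¹ * z * y = 1 := by
      calc y⁻¹ * z * y = y⁻¹ * z * y * z * z := by rw [mul_assoc _ z z, hz2, mul_one]
        _ = 1 := by rw [h1, hz2]
    have h3 : z = 1 := by
      calc z = y * (y⁻¹ * z * y) * y⁻¹ := by group
        _ = 1 := by rw [h2]; group
    rw [h3]
    simp
  · rw [_root_.mul_inv_rev, _root_.mul_inv_rev, _root_.mul_inv_rev, inv_inv, hzi]
    calc z * (y⁻¹ * z * y * z) * z = z * (y⁻¹ * z * y) * (z * z) := by group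
      _ = z * (y⁻¹ * (z * y)) := by rw [hz2, mul_one, mul_assoc y⁻¹]

theorem mem_zpowers_of_commute (hG : ¬ Conf G) {r : ℕ} (hr : r.Prime) (hr5 : r ≤ 5) {a b : G} (hab : Commute a b)
    (ha : orderOf a = r) (hb : orderOf b = r) : a ∈ zpowers b := by
  by_contra h
  exact hG (Conf.rank_two r hr hr5 a b hab ha hb h)

theorem uniqueP (hG : ¬ Conf G) {r : ℕ} [hr : Fact r.Prime] (hr5 : r ≤ 5) {P : Subgroup G} [Finite P] (hP : IsPGroup r P) :
    UniqueP r P := by
  intro x y hx hxr hyr
  have hnt : Nontrivial P := ⟨⟨x, 1, hx⟩⟩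
  have hcn : Nontrivial (center P) := hP.center_nontrivial
  have hcp : IsPGroup r (center P) := hP.to_subgroup _
  obtain ⟨c, hc⟩ : ∃ c : center P, orderOf c = r := by
    apply exists_prime_orderOf_dvd_card'
    obtain ⟨n, hn⟩ := IsPGroup.iff_card.1 hcp
    rw [hn]
    apply dvd_pow_self
    rintro rfl
    rw [pow_zero] at hn
    exact (Finite.one_lt_card_iff_nontrivial.2 hcn).ne' hn
  have key : ∀ y : P, y ^ r = 1 → y ≠ 1 → ∃ d : P, d ∈ zpowers (c : P) ∧ zpowers y = zpowers (c : P) := by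
    intro y hy hy1
    have hoy : orderOf y = r := orderOf_eq_prime hy hy1
    have hoc : orderOf (c : P) = r := by rw [Subgroup.orderOf_coe, hc]
    have hcomm : Commute (y : G) ((c : P) : G) := by
      have := mem_center_iff.1 c.2 y
      exact congrArg Subtype.val this
    have h1 := mem_zpowers_of_commute hG hr.out hr5 hcomm (by rw [Subgroup.orderOf_coe, hoy])
      (by rw [Subgroup.orderOf_coe, hoc])
    have h2 := mem_zpowers_of_commute hG hr.out hr5 hcomm.symm (by rw [Subgroup.orderOf_coe, hoc])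
      (by rw [Subgroup.orderOf_coe, hoy])
    refine ⟨1, one_mem _, ?_⟩
    apply le_antisymm
    · rw [zpowers_le]
      obtain ⟨k, hk⟩ := h1
      exact ⟨k, Subtype.ext (by simpa using hk)⟩
    · rw [zpowers_le]
      obtain ⟨k, hk⟩ := h2
      exact ⟨k, Subtype.ext (by simpa using hk)⟩
  obtain ⟨-, -, h1⟩ := key x hxr hx
  by_cases hy : y = 1
  · rw [hy]
    exact one_mem _
  · obtain ⟨-, -, h2⟩ := key y hyr hy
    rw [h1, ← h2]
    exact mem_zpowers y

theorem isCyclic (hG : ¬ Conf G) {r : ℕ} [hr : Fact r.Prime] (hr5 : r ≤ 5) (hr2 : r ≠ 2) {P : Subgroup G} [Finite P]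
    (hP : IsPGroup r P) : IsCyclic P := by
  rcases cyclic_or_quaternion hP (uniqueP hG hr5 hP) with h | h
  · exact h
  · exact absurd h.1 hr2

theorem two_cases (hG : ¬ Conf G) {P : Subgroup G} [Finite P] (hP : IsPGroup 2 P) :
    IsCyclic P ∨ ∃ m : ℕ, 1 ≤ m ∧ Nonempty (P ≃* QuaternionGroup (2 ^ m)) := by
  rcases cyclic_or_quaternion hP (uniqueP hG (by norm_num) hP) with h | ⟨-, m, hm, h⟩
  · exact Or.inl h
  · exact Or.inr ⟨m, Nat.one_le_iff_ne_zero.2 hm, h⟩

end Cfsg.Agent.H892.GroupA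
end

-- part: H892/GroupB
section
/-!
# Perfect groups without the four configurations: the quotient by the odd core
-/

set_option autoImplicit false

namespace Cfsg.Agent.H892.GroupB

open Subgroup Cfsg.Agent.H892.ModCase Cfsg.Agent.H892.GroupA Cfsg.Agent.SylowSp4

universe u

/-- the odd order theorem -/
def FT : Prop := ∀ (X : Type u) [Group X] [Finite X], Odd (Nat.card X) → Group.IsSolvable X

/-- The last term of the derived series. -/
theorem exists_residual (H : Type*) [Group H] [Finite H] : ∃ (L : Subgroup H) (_ : L.Normal), ⁅L, L⁆ = L ∧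
    Group.IsSolvable (H ⧸ L) := by
  obtain ⟨n, hn⟩ : ∃ n, derivedSeries H (n + 1) = derivedSeries H n := by
    by_contra hcon
    push Not at hcon
    have h1 : StrictAnti (derivedSeries H) := by
      apply strictAnti_nat_of_succ_lt
      intro n
      exact lt_of_le_of_ne (derivedSeries_antitone H (Nat.le_succ n)) (hcon n)
    exact not_injective_infinite_finite _ h1.injective
  refine ⟨derivedSeries H n, derivedSeries_normal H n, hn, ⟨⟨n, ?_⟩⟩⟩
  rw [← map_derivedSeries_eq (QuotientGroup.mk'_surjective (derivedSeries H n)), Subgroup.map_eq_bot_iff, QuotientGroup.ker_mk']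

theorem perfect_of_commutator_eq {H : Type*} [Group H] {L : Subgroup H} (h : ⁅L, L⁆ = L) : commutator L = ⊤ := by
  apply (map_injective L.subtype_injective)
  rw [commutator_def, map_commutator, ← MonoidHom.range_eq_map, L.range_subtype, h]

theorem perfect_map {L N : Type*} [Group L] [Group N] (hL : commutator L = ⊤) {f : L →* N} (hf : Function.Surjective f) :
    commutator N = ⊤ := by
  have h1 : (commutator L).map f = commutator N := by
    rw [commutator_def, commutator_def, map_commutator, ← MonoidHom.range_eq_map, MonoidHom.range_eq_top.2 hf]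
  rw [← h1, hL, ← MonoidHom.range_eq_map, MonoidHom.range_eq_top.2 hf]

theorem subsingleton_of_solvable {L : Type*} [Group L] (hL : commutator L = ⊤) (h : Group.IsSolvable L) : Subsingleton L := by
  refine ⟨fun a b => ?_⟩
  have h1 := fun a => TwoFusion.PerfectOnTwo.hom_eq_one hL (MonoidHom.id L) a
  have h2 := h1 a
  have h3 := h1 b
  simp only [MonoidHom.id_apply] at h2 h3
  rw [h2, h3]

theorem not_isCyclic {L : Type*} [Group L] [Finite L] (hL : commutator L = ⊤) (he : 2 ∣ Nat.card L) (P : Sylow 2 L) :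
    ¬ IsCyclic P := by
  intro hc
  have hne : Nat.card L ≠ 1 := by
    intro h
    rw [h] at he
    norm_num at he
  have hmin : (Nat.card L).minFac = 2 := (Nat.minFac_eq_two_iff _).2 he
  have h1 := IsCyclic.isComplement' hmin hc
  have hcomm : IsMulCommutative P := IsCyclic.isMulCommutative
  have h2 : (MonoidHom.transferSylow P (hc.normalizer_le_centralizer hmin)).ker = ⊤ := by
    rw [eq_top_iff, ← hL, commutator_def, commutator_le]
    intro a _ b _
    rw [MonoidHom.mem_ker, map_commutatorElement, commutatorElement_eq_one_iff_mul_comm]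
    exact hcomm.is_comm.comm _ _
  rw [h2, isComplement'_top_left] at h1
  have h3 := P.card_eq_multiplicity
  rw [h1, Subgroup.card_bot] at h3
  have h4 : 0 < (Nat.card L).factorization 2 :=
    Nat.Prime.factorization_pos_of_dvd Nat.prime_two Nat.card_pos.ne' he
  have h5 : 1 < 2 ^ (Nat.card L).factorization 2 := Nat.one_lt_pow h4.ne' (by norm_num)
  omega

/-- The structure of `L / O(L)`. -/
theorem exists_sl_or (hFT : FT.{u}) (hGW : Hyps.GW.{u}) {L : Type u} [Group L] [Finite L] [Nontrivial L]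
    (hL : commutator L = ⊤) (hC : ¬ Conf L) :
    ∃ z : L, orderOf z = 2 ∧ (∀ y, y * z = z * y) ∧
    ((∃ (F : Type) (_ : Field F) (_ : Fintype F), Odd (Fintype.card F) ∧
        Nonempty (L ⧸ Cfsg.oddCore L ≃* Matrix.SpecialLinearGroup (Fin 2) F)) ∨
      (∃ f : L →* alternatingGroup (Fin 7), Function.Surjective f)) := by
  have hfact : Fact (Nat.Prime 2) := ⟨Nat.prime_two⟩
  have hn : (Cfsg.oddCore L).Normal := Cfsg.Agent.Lib.Cores.pPrimeCore_normal 2
  have heven : 2 ∣ Nat.card L := by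
    rw [← even_iff_two_dvd]
    by_contra h
    rw [Nat.not_even_iff_odd] at h
    have := subsingleton_of_solvable hL (hFT L h)
    exact not_subsingleton L this
  obtain ⟨z, hz⟩ := exists_prime_orderOf_dvd_card' 2 heven
  have hzc := invol_central hC hz
  refine ⟨z, hz, hzc, ?_⟩
  obtain ⟨P⟩ : Nonempty (Sylow 2 L) := inferInstance
  rcases two_cases hC P.2 with h | ⟨k, hk, ⟨e⟩⟩
  · exact absurd h (not_isCyclic hL heven P)
  set π := QuotientGroup.mk' (Cfsg.oddCore L) with hπ
  have hsurj : Function.Surjective π := QuotientGroup.mk'_surjective _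
  have hodd := Cfsg.Agent.Lib.Cores.pPrimeCore_coprime (G := L) 2
  have hdisj : ∀ x ∈ (P : Subgroup L), x ∈ Cfsg.oddCore L → x = 1 := by
    intro x hx hx'
    have h1 : IsPGroup 2 (P : Subgroup L) := P.2
    have h2 : Disjoint (P : Subgroup L) (Cfsg.oddCore L) := by
      obtain ⟨n, hn⟩ := IsPGroup.iff_card.1 h1
      apply Subgroup.disjoint_of_coprime_natCard
      rw [hn]
      exact (Nat.Coprime.pow_right n hodd).symm
    exact Subgroup.disjoint_def.1 h2 hx hx'
  let P' : Sylow 2 (L ⧸ Cfsg.oddCore L) := P.mapSurjective hsurj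
  have hbij : Function.Bijective (π.subgroupMap (P : Subgroup L)) := by
    refine ⟨?_, π.subgroupMap_surjective _⟩
    rw [injective_iff_map_eq_one]
    rintro ⟨x, hx⟩ h
    have h1 : π x = 1 := congrArg Subtype.val h
    rw [hπ, QuotientGroup.mk'_apply, QuotientGroup.eq_one_iff] at h1
    exact Subtype.ext (hdisj x hx h1)
  have e' : (P' : Subgroup (L ⧸ Cfsg.oddCore L)) ≃* QuaternionGroup (2 ^ k) :=
    (MulEquiv.ofBijective _ hbij).symm.trans e
  have hzO : z ∉ Cfsg.oddCore L := by
    intro h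
    have h1 : orderOf (⟨z, h⟩ : Cfsg.oddCore L) ∣ Nat.card (Cfsg.oddCore L) := _root_.orderOf_dvd_natCard _
    rw [← Subgroup.orderOf_coe, hz] at h1
    have := (Nat.Prime.coprime_iff_not_dvd Nat.prime_two).1 hodd.symm
    exact this h1
  have ht : orderOf (π z) = 2 := by
    apply orderOf_eq_prime
    · rw [← map_pow, ← hz, pow_orderOf_eq_one, map_one]
    · intro h
      rw [hπ, QuotientGroup.mk'_apply, QuotientGroup.eq_one_iff] at h
      exact hzO h
  have htc : π z ∈ center (L ⧸ Cfsg.oddCore L) := by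
    rw [mem_center_iff]
    intro y
    obtain ⟨x, rfl⟩ := hsurj y
    rw [← map_mul, ← map_mul, hzc]
  have hzn : (zpowers (π z)).Normal := by
    refine ⟨fun n hn' g => ?_⟩
    have h1 : n ∈ center (L ⧸ Cfsg.oddCore L) := (zpowers_le.2 htc) hn'
    rw [mem_center_iff.1 h1 g, mul_inv_cancel_right]
    exact hn'
  have hperf := perfect_map hL hsurj
  rcases QuatId.exists_sl hGW (Cfsg.Agent.Lib.Cores.pPrimeCore_quotient_pPrimeCore 2) hperf P' hk e' ht htc with h | ⟨-, ⟨h⟩⟩
  · exact Or.inl h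
  · right
    refine ⟨h.toMonoidHom.comp ((QuotientGroup.mk' (zpowers (π z))).comp π), ?_⟩
    exact h.surjective.comp ((QuotientGroup.mk'_surjective _).comp hsurj)

theorem mem_zpowers_of_isCyclic {C : Type*} [Group C] [Finite C] [IsCyclic C] {a b : C} {r : ℕ} (hr : 0 < r)
    (ha : a ^ r = 1) (hb : orderOf b = r) : a ∈ zpowers b := by
  classical
  have := Fintype.ofFinite C
  have h1 := IsCyclic.card_pow_eq_one_le (α := C) hr
  set S := Finset.univ.filter (fun x : C => x ^ r = 1) with hS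
  set T := (zpowers b : Set C).toFinset with hT
  have hTS : T ⊆ S := by
    intro x hx
    rw [hT, Set.mem_toFinset] at hx
    obtain ⟨k, rfl⟩ := hx
    rw [hS, Finset.mem_filter]
    refine ⟨Finset.mem_univ _, ?_⟩
    simp only
    rw [← zpow_natCast, ← zpow_mul, mul_comm, zpow_mul, zpow_natCast, ← hb, pow_orderOf_eq_one, one_zpow]
  have hcard : T.card = r := by
    rw [hT, Set.toFinset_card, ← Nat.card_eq_fintype_card]
    change Nat.card (zpowers b) = r
    rw [Nat.card_zpowers, hb]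
  have h2 := Finset.eq_of_subset_of_card_le hTS (by rw [hcard]; exact h1)
  have h3 : a ∈ S := by
    rw [hS, Finset.mem_filter]
    exact ⟨Finset.mem_univ _, ha⟩
  rw [← h2, hT, Set.mem_toFinset] at h3
  exact h3

/-- Commuting elements of order `r` in quotients of groups with cyclic Sylow `r`-subgroups. -/
theorem quot_unique {L Q : Type*} [Group L] [Finite L] [Group Q] {f : L →* Q} (hf : Function.Surjective f) {r : ℕ}
    [hr : Fact r.Prime] (hcyc : ∀ P : Sylow r L, IsCyclic P) {a b : Q} (ha : orderOf a = r) (hb : orderOf b = r)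
    (hab : Commute a b) : a ∈ zpowers b := by
  have hQ : Finite Q := Finite.of_surjective f hf
  -- `⟨a, b⟩` is an `r`-group
  have h1 : IsPGroup r (_root_.Subgroup.closure {a, b} : Subgroup Q) := by
    have h2 : ∀ x ∈ closure {a, b}, x ^ r = 1 ∧ Commute x a ∧ Commute x b := by
      intro x hx
      induction hx using closure_induction with
      | mem x hx =>
        rcases hx with rfl | rfl
        · exact ⟨by rw [← ha, pow_orderOf_eq_one], Commute.refl _, hab⟩
        · exact ⟨by rw [← hb, pow_orderOf_eq_one], hab.symm, Commute.refl _⟩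
      | one => exact ⟨one_pow _, Commute.one_left _, Commute.one_left _⟩
      | mul x y hx hy hx' hy' =>
        refine ⟨?_, hx'.2.1.mul_left hy'.2.1, hx'.2.2.mul_left hy'.2.2⟩
        have hxy : Commute x y := by
          have : closure {a, b} ≤ centralizer {x} := by
            rw [closure_le]
            rintro y (rfl | rfl)
            · exact mem_centralizer_singleton_iff.2 hx'.2.1.symm
            · exact mem_centralizer_singleton_iff.2 hx'.2.2.symm
          exact (mem_centralizer_singleton_iff.1 (this hy)).symm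
        rw [hxy.mul_pow, hx'.1, hy'.1, one_mul]
      | inv x hx hx' => exact ⟨by rw [inv_pow, hx'.1, inv_one], hx'.2.1.inv_left, hx'.2.2.inv_left⟩
    intro x
    refine ⟨1, ?_⟩
    rw [pow_one]
    exact Subtype.ext (h2 x x.2).1
  obtain ⟨S, hS⟩ := h1.exists_le_sylow
  obtain ⟨P, rfl⟩ := Sylow.mapSurjective_surjective hf r S
  have hcP := hcyc P
  have hcS : IsCyclic (P.mapSurjective hf : Subgroup Q) := by
    rw [Sylow.coe_mapSurjective]
    exact isCyclic_of_surjective (f.subgroupMap (P : Subgroup L)) (f.subgroupMap_surjective _)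
  have haS : a ∈ (P.mapSurjective hf : Subgroup Q) := hS (_root_.Subgroup.subset_closure (by simp))
  have hbS : b ∈ (P.mapSurjective hf : Subgroup Q) := hS (_root_.Subgroup.subset_closure (by simp))
  have h4 := mem_zpowers_of_isCyclic (a := (⟨a, haS⟩ : (P.mapSurjective hf : Subgroup Q))) (b := ⟨b, hbS⟩) (r := r)
    hr.out.pos (Subtype.ext (by change a ^ r = 1; rw [← ha, pow_orderOf_eq_one]))
    (by rw [← Subgroup.orderOf_coe]; exact hb)
  obtain ⟨k, hk⟩ := h4
  exact ⟨k, congrArg Subtype.val hk⟩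

end Cfsg.Agent.H892.GroupB
end

private theorem dce_9eea8bacce17 : _root_.True := by
  try have : _root_.True := by simp only [_root_.Cfsg.Agent.H892.Weights.Wt.eq_1]
  try have : _root_.True := by simp only [_root_.Cfsg.Agent.H892.WeightsDim.wf.eq_1]
  try have : _root_.True := by simp only [_root_.Cfsg.Agent.H892.Weights.pr.eq_1]
  try have : _root_.True := by simp only [_root_.Cfsg.Agent.H892.QuotBounds.sl.congr_simp]
  try have : _root_.True := by simp only [_root_.Cfsg.Agent.H892.Weights.EE.eq_1]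
  try have : _root_.True := by simp only [_root_.Cfsg.Agent.H892.WeightsDim.nu.eq_1]
  try have : _root_.True := by simp only [_root_.Cfsg.Agent.H892.FixDim.fx.eq_1]
  exact _root_.True.intro
end
end
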